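import Cfsg.Agent.H38.IsoGroup

/-! Isometry groups along field isomorphisms; permutation representations on finite invariant sets. -/

set_option autoImplicit false

namespace H38

open Matrix

variable {F K : Type*} [Field F] [Field K] {ι : Type} [Fintype ι] [DecidableEq ι]

theorem mem_isometryGroup' {Q : (ι → F) → F} {g : GL ι F} :
    g ∈ Cfsg.isometryGroup F Q ↔ ∀ v, Q ((g : Matrix ι ι F) *ᵥ v) = Q v :=
  ⟨fun h v => h v v, fun h u _ => h u⟩

theorem map_mulVec (e : F →+* K) (M : Matrix ι ι F) (v : ι → F) :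
    M.map e *ᵥ (e ∘ v) = e ∘ (M *ᵥ v) :=
  funext fun i => (RingHom.map_mulVec e M v i).symm

/-- Transport along a field isomorphism. -/
noncomputable def isometryGroupFieldEquiv (e : F ≃+* K) {Q : (ι → F) → F} {Q' : (ι → K) → K}
    (h : ∀ v, Q' (e ∘ v) = e (Q v)) : Cfsg.isometryGroup F Q ≃* Cfsg.isometryGroup K Q' :=
  (MulEquiv.subgroupMap (Units.mapEquiv (e.mapMatrix (m := ι)).toMulEquiv) (Cfsg.isometryGroup F Q)).trans
    (MulEquiv.subgroupCongr (by
      ext g
      constructor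
      · rintro ⟨f, hf, rfl⟩
        rw [mem_isometryGroup']
        intro w
        obtain ⟨v, rfl⟩ : ∃ v, w = e ∘ v := ⟨e.symm ∘ w, funext fun i => by simp⟩
        show Q' ((f : Matrix ι ι F).map e *ᵥ (e ∘ v)) = Q' (e ∘ v)
        rw [show (f : Matrix ι ι F).map e *ᵥ (e ∘ v) = e ∘ ((f : Matrix ι ι F) *ᵥ v) from
          map_mulVec (e : F →+* K) _ v, h, h, (mem_isometryGroup'.mp hf) v]
      · intro hg
        refine ⟨(Units.mapEquiv (e.mapMatrix (m := ι)).toMulEquiv).symm g, mem_isometryGroup'.mpr fun v => ?_,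
          MulEquiv.apply_symm_apply _ _⟩
        apply e.injective
        rw [← h, ← h]
        have hg' := (mem_isometryGroup'.mp hg) (e ∘ v)
        rw [← hg']
        congr 1
        show _ = (g : Matrix ι ι K) *ᵥ (e ∘ v)
        rw [show (g : Matrix ι ι K) = ((g : Matrix ι ι K).map e.symm).map e by
          ext i j; simp]
        rw [show ((g : Matrix ι ι K).map e.symm).map e *ᵥ (e ∘ v) = e ∘ ((g : Matrix ι ι K).map e.symm *ᵥ v) from
          map_mulVec (e : F →+* K) _ v]
        rfl))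

/-- The permutation action of a matrix group on an invariant set of vectors. -/
noncomputable def setPerm {G : Type*} [Group G] (Φ : G →* GL ι F) (S : Set (ι → F))
    (hS : ∀ g, ∀ v ∈ S, (Φ g : Matrix ι ι F) *ᵥ v ∈ S) : G →* Equiv.Perm S where
  toFun g :=
    { toFun := fun v => ⟨(Φ g : Matrix ι ι F) *ᵥ v.1, hS g _ v.2⟩
      invFun := fun v => ⟨(Φ g⁻¹ : Matrix ι ι F) *ᵥ v.1, hS _ _ v.2⟩
      left_inv := fun v => Subtype.ext (by
        show (Φ g⁻¹ : Matrix ι ι F) *ᵥ ((Φ g : Matrix ι ι F) *ᵥ v.1) = v.1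
        rw [Matrix.mulVec_mulVec, ← Units.val_mul, ← map_mul, inv_mul_cancel, map_one, Units.val_one,
          Matrix.one_mulVec])
      right_inv := fun v => Subtype.ext (by
        show (Φ g : Matrix ι ι F) *ᵥ ((Φ g⁻¹ : Matrix ι ι F) *ᵥ v.1) = v.1
        rw [Matrix.mulVec_mulVec, ← Units.val_mul, ← map_mul, mul_inv_cancel, map_one, Units.val_one,
          Matrix.one_mulVec]) }
  map_one' := Equiv.ext fun v => Subtype.ext (by simp)
  map_mul' g h := Equiv.ext fun v => Subtype.ext (by simp [Matrix.mulVec_mulVec])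

theorem setPerm_eq_one {G : Type*} [Group G] (Φ : G →* GL ι F) (S : Set (ι → F))
    (hS : ∀ g, ∀ v ∈ S, (Φ g : Matrix ι ι F) *ᵥ v ∈ S) {g : G} (h : setPerm Φ S hS g = 1) :
    ∀ v ∈ S, (Φ g : Matrix ι ι F) *ᵥ v = v := fun v hv =>
  congrArg Subtype.val (Equiv.congr_fun h ⟨v, hv⟩)

end H38
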