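import Cfsg.Agent.H38.Exist23
import Cfsg.Agent.S5402

/-!
The presented Fi23 is of type M(23).
-/

set_option autoImplicit false

namespace H38.Exist23

open Cfsg H93
open H93.Fi23Cover (z)

local notation "G" => Cfsg.Spor.Fi23

/-- The presented Fi23 with the class of `z` is a primitive 3-transposition group of type M(23). -/
theorem type_m23 : IsThreeTranspositionClass (conjugatesOf z) ∧
    IsPrimitiveUnderConj (conjugatesOf z) ∧ IsOfTypeM23 G (conjugatesOf z) := by
  have := Fi23Cover.finite
  have := normal_zp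
  obtain ⟨⟨E, hE, h22⟩, hinv⟩ := H20.F23.centraliser_facts quot
  obtain ⟨hcl, ht⟩ := Cfsg.Agent.S5402.result z z_order cent.1 ⟨E, hE, h22⟩ hinv nwc
  exact ⟨hcl, (H20.F23.side z_order cent.1 h22 nwc hcl).2.1, ht⟩

end H38.Exist23
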