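import Cfsg.Agent.H38.HeartRep

/-! An explicit symplectic basis of the heart. -/

set_option autoImplicit false

namespace H38

open Matrix

/-- `e_{2i} + e_{2i+1}` and the indicator of `[2i+1, 2n-2]`. -/
def heartVec (n : ℕ) : Fin (n - 1) ⊕ Fin (n - 1) → Fin (2 * n) → ZMod 2 :=
  Sum.elim
    (fun i => Pi.single ⟨2 * i.1, by omega⟩ 1 + Pi.single ⟨2 * i.1 + 1, by omega⟩ 1)
    (fun i x => if 2 * i.1 + 1 ≤ x.1 ∧ x.1 ≤ 2 * n - 2 then 1 else 0)

theorem interval_sum (N lo hi : ℕ) (hhi : hi < N) (hlo : lo ≤ hi) :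
    (∑ x : Fin N, if lo ≤ x.1 ∧ x.1 ≤ hi then (1 : ZMod 2) else 0) = ((hi + 1 - lo : ℕ) : ZMod 2) := by
  rw [Finset.sum_boole]
  congr 1
  rw [show (Finset.univ.filter fun x : Fin N => lo ≤ x.1 ∧ x.1 ≤ hi) =
    Finset.Icc ⟨lo, by omega⟩ ⟨hi, hhi⟩ by ext x; simp [Fin.le_def], Fin.card_Icc]

theorem even_cast_zero (m : ℕ) (h : 2 ∣ m) : (m : ZMod 2) = 0 :=
  (ZMod.natCast_eq_zero_iff_even).mpr (even_iff_two_dvd.mpr h)

theorem heartVec_basis (n : ℕ) : IsHeartBasis n (heartVec n) := by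
  refine ⟨fun a => ?_, fun a b => ?_⟩
  · rw [mem_evenSub]
    rcases a with i | i
    · simp [heartVec, dotProduct_add]
      rfl
    · simp only [heartVec, Sum.elim_inr, dotProduct, Pi.one_apply, one_mul]
      have := i.2
      rw [interval_sum _ _ _ (by omega) (by omega), even_cast_zero]
      omega
  · rw [dotB_apply]
    rcases a with i | i <;> rcases b with j | j
    · have h0 : (1 : ZMod 2) + 1 = 0 := rfl
      rcases eq_or_ne i j with rfl | h
      · simp [heartVec, Matrix.J, Pi.single_apply, Fin.ext_iff, h0]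
      · have hv : i.1 ≠ j.1 := fun e => h (Fin.ext e)
        have e1 : 2 * i.1 ≠ 2 * j.1 := by omega
        have e2 : 2 * i.1 ≠ 2 * j.1 + 1 := by omega
        have e3 : 2 * i.1 + 1 ≠ 2 * j.1 := by omega
        have e4 : 2 * i.1 + 1 ≠ 2 * j.1 + 1 := by omega
        simp [heartVec, Matrix.J, Pi.single_apply, Fin.ext_iff, e1, e2, e3, e4, e1.symm, e2.symm, e3.symm, e4.symm]
    · have hi := i.2
      have hj := j.2
      rcases lt_trichotomy i.1 j.1 with h | h | h
      · have e : i ≠ j := fun e => by subst e; omega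
        have f1 : ¬ (2 * j.1 + 1 ≤ 2 * i.1) := by omega
        have f2 : ¬ (2 * j.1 + 1 ≤ 2 * i.1 + 1) := by omega
        have g1 : ¬ j < i := fun hh => by rw [Fin.lt_def] at hh; omega
        have g2 : ¬ j ≤ i := fun hh => by rw [Fin.le_def] at hh; omega
        simp [heartVec, Matrix.J, Matrix.one_apply, add_dotProduct, e, f1, f2, g1, g2]
      · obtain rfl : i = j := Fin.ext h
        have f1 : ¬ (2 * i.1 + 1 ≤ 2 * i.1) := by omega
        have f3 : 2 * i.1 + 1 ≤ 2 * n - 2 := by omega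
        simp [heartVec, Matrix.J, Matrix.one_apply, add_dotProduct, f1, f3]
      · have e : i ≠ j := fun e => by subst e; omega
        have f1 : 2 * j.1 + 1 ≤ 2 * i.1 := by omega
        have f2 : 2 * j.1 + 1 ≤ 2 * i.1 + 1 := by omega
        have f3 : 2 * i.1 ≤ 2 * n - 2 := by omega
        have f4 : 2 * i.1 + 1 ≤ 2 * n - 2 := by omega
        have g1 : j < i := Fin.lt_def.mpr h
        have g2 : j ≤ i := g1.le
        simp [heartVec, Matrix.J, Matrix.one_apply, add_dotProduct, e, f1, f2, f3, f4, g1, g2]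
        rfl
    · have hi := i.2
      have hj := j.2
      rcases lt_trichotomy j.1 i.1 with h | h | h
      · have e : i ≠ j := fun e => by subst e; omega
        have f1 : ¬ (2 * i.1 + 1 ≤ 2 * j.1) := by omega
        have f2 : ¬ (2 * i.1 + 1 ≤ 2 * j.1 + 1) := by omega
        have g1 : ¬ i < j := fun hh => by rw [Fin.lt_def] at hh; omega
        have g2 : ¬ i ≤ j := fun hh => by rw [Fin.le_def] at hh; omega
        simp [heartVec, Matrix.J, Matrix.one_apply, dotProduct_add, e, f1, f2, g1, g2]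
      · obtain rfl : i = j := Fin.ext h.symm
        have f1 : ¬ (2 * i.1 + 1 ≤ 2 * i.1) := by omega
        have f3 : 2 * i.1 + 1 ≤ 2 * n - 2 := by omega
        simp [heartVec, Matrix.J, Matrix.one_apply, dotProduct_add, f1, f3]
      · have e : i ≠ j := fun e => by subst e; omega
        have f1 : 2 * i.1 + 1 ≤ 2 * j.1 := by omega
        have f2 : 2 * i.1 + 1 ≤ 2 * j.1 + 1 := by omega
        have f3 : 2 * j.1 ≤ 2 * n - 2 := by omega
        have f4 : 2 * j.1 + 1 ≤ 2 * n - 2 := by omega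
        have g1 : i < j := Fin.lt_def.mpr h
        have g2 : i ≤ j := g1.le
        simp [heartVec, Matrix.J, Matrix.one_apply, dotProduct_add, e, f1, f2, f3, f4, g1, g2]
        rfl
    · have hi := i.2
      have hj := j.2
      simp only [heartVec, Sum.elim_inr, dotProduct, Matrix.J, Matrix.fromBlocks_apply₂₂, Matrix.zero_apply]
      rw [show (∑ x : Fin (2 * n), (if 2 * i.1 + 1 ≤ x.1 ∧ x.1 ≤ 2 * n - 2 then (1 : ZMod 2) else 0) *
          if 2 * j.1 + 1 ≤ x.1 ∧ x.1 ≤ 2 * n - 2 then 1 else 0) =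
          ∑ x : Fin (2 * n), if max (2 * i.1 + 1) (2 * j.1 + 1) ≤ x.1 ∧ x.1 ≤ 2 * n - 2 then 1 else 0 from
        Finset.sum_congr rfl fun x _ => by
          split_ifs <;> simp <;> omega,
        interval_sum _ _ _ (by omega) (by omega), even_cast_zero]
      omega

end H38
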