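import Cfsg.Agent.H38.EndRep
import Cfsg.Agent.H48.Block

/-! The heart of the permutation module of `S_{2n}` over the field with two elements. -/

set_option autoImplicit false

namespace H38

open Matrix

/-- The dot product as a bilinear map. -/
def dotB (N : ℕ) : (Fin N → ZMod 2) →ₗ[ZMod 2] (Fin N → ZMod 2) →ₗ[ZMod 2] ZMod 2 :=
  LinearMap.mk₂ (ZMod 2) dotProduct (fun x y z => add_dotProduct x y z) (fun c x y => smul_dotProduct c x y)
    (fun x y z => dotProduct_add x y z) (fun c x y => dotProduct_smul c x y)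

theorem dotB_apply {N : ℕ} (x y : Fin N → ZMod 2) : dotB N x y = x ⬝ᵥ y := rfl

/-- The even weight vectors. -/
def evenSub (N : ℕ) : Submodule (ZMod 2) (Fin N → ZMod 2) :=
  LinearMap.ker (dotB N 1)

theorem mem_evenSub {N : ℕ} {x : Fin N → ZMod 2} : x ∈ evenSub N ↔ (1 : Fin N → ZMod 2) ⬝ᵥ x = 0 :=
  Iff.rfl

theorem zmod2_cases (c : ZMod 2) : c = 0 ∨ c = 1 := by revert c; decide

theorem self_dot {N : ℕ} (x : Fin N → ZMod 2) : x ⬝ᵥ x = (1 : Fin N → ZMod 2) ⬝ᵥ x := by
  simp only [dotProduct]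
  exact Finset.sum_congr rfl fun i _ => by rcases zmod2_cases (x i) with h | h <;> simp [h]

theorem neg_J {m : ℕ} : -(Matrix.J (Fin m) (ZMod 2)) = Matrix.J (Fin m) (ZMod 2) := by
  ext i j
  exact ZMod.neg_eq_self_mod_two _

theorem J_mul_J {m : ℕ} : Matrix.J (Fin m) (ZMod 2) * Matrix.J (Fin m) (ZMod 2) = 1 := by
  rw [Matrix.J_squared]
  ext i j
  exact ZMod.neg_eq_self_mod_two _

/-- A symplectic family inside the even weight vectors. -/
def IsHeartBasis (n : ℕ) (p : Fin (n - 1) ⊕ Fin (n - 1) → Fin (2 * n) → ZMod 2) : Prop :=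
  (∀ a, p a ∈ evenSub (2 * n)) ∧ H48.IsHyp (dotB (2 * n)) p

variable {n : ℕ} {p : Fin (n - 1) ⊕ Fin (n - 1) → Fin (2 * n) → ZMod 2}

/-- Lift of coordinates. -/
def heartLift (p : Fin (n - 1) ⊕ Fin (n - 1) → Fin (2 * n) → ZMod 2) :
    (Fin (n - 1) ⊕ Fin (n - 1) → ZMod 2) →ₗ[ZMod 2] (Fin (2 * n) → ZMod 2) :=
  Fintype.linearCombination (ZMod 2) p

theorem heartLift_apply (v : Fin (n - 1) ⊕ Fin (n - 1) → ZMod 2) :
    heartLift p v = ∑ a, v a • p a := Fintype.linearCombination_apply _ _ _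

/-- Coordinates of a vector. -/
def heartCoord (p : Fin (n - 1) ⊕ Fin (n - 1) → Fin (2 * n) → ZMod 2) :
    (Fin (2 * n) → ZMod 2) →ₗ[ZMod 2] (Fin (n - 1) ⊕ Fin (n - 1) → ZMod 2) :=
  (Matrix.J (Fin (n - 1)) (ZMod 2)).mulVecLin.comp (LinearMap.pi fun a => dotB (2 * n) (p a))

theorem heartCoord_apply (y : Fin (2 * n) → ZMod 2) :
    heartCoord p y = Matrix.J (Fin (n - 1)) (ZMod 2) *ᵥ (fun a => p a ⬝ᵥ y) := rfl

variable (hp : IsHeartBasis n p)
include hp

theorem heartLift_mem (v : Fin (n - 1) ⊕ Fin (n - 1) → ZMod 2) : heartLift p v ∈ evenSub (2 * n) := by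
  rw [heartLift_apply]
  exact Submodule.sum_mem _ fun a _ => Submodule.smul_mem _ _ (hp.1 a)

theorem dot_heartLift (a : Fin (n - 1) ⊕ Fin (n - 1)) (v : Fin (n - 1) ⊕ Fin (n - 1) → ZMod 2) :
    p a ⬝ᵥ heartLift p v = (Matrix.J (Fin (n - 1)) (ZMod 2) *ᵥ v) a := by
  rw [heartLift_apply, ← dotB_apply, map_sum]
  simp only [map_smul, smul_eq_mul, hp.2 a]
  simp [Matrix.mulVec, dotProduct, mul_comm]

theorem heartCoord_lift (v : Fin (n - 1) ⊕ Fin (n - 1) → ZMod 2) : heartCoord p (heartLift p v) = v := by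
  rw [heartCoord_apply, show (fun a => p a ⬝ᵥ heartLift p v) = Matrix.J (Fin (n - 1)) (ZMod 2) *ᵥ v from
    funext fun a => dot_heartLift hp a v, Matrix.mulVec_mulVec, J_mul_J, Matrix.one_mulVec]

theorem heartCoord_const (c : ZMod 2) : heartCoord p (c • 1) = 0 := by
  rw [map_smul, heartCoord_apply, show (fun a => p a ⬝ᵥ (1 : Fin (2 * n) → ZMod 2)) = 0 from
    funext fun a => by rw [dotProduct_comm]; exact mem_evenSub.mp (hp.1 a), Matrix.mulVec_zero, smul_zero]

theorem heart_decomp (hn : 1 ≤ n) {y : Fin (2 * n) → ZMod 2} (hy : y ∈ evenSub (2 * n)) :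
    ∃ c : ZMod 2, y = heartLift p (heartCoord p y) + c • 1 := by
  classical
  let Φ : evenSub (2 * n) →ₗ[ZMod 2] (Fin (n - 1) ⊕ Fin (n - 1) → ZMod 2) :=
    (heartCoord p).comp (evenSub (2 * n)).subtype
  have hsurj : LinearMap.range Φ = ⊤ := by
    rw [LinearMap.range_eq_top]
    exact fun v => ⟨⟨_, heartLift_mem hp v⟩, heartCoord_lift hp v⟩
  have hone : (1 : Fin (2 * n) → ZMod 2) ∈ evenSub (2 * n) := by
    rw [mem_evenSub]
    simp [dotProduct]
    exact Or.inl rfl
  have hE : Module.finrank (ZMod 2) (evenSub (2 * n)) + 1 = 2 * n := by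
    have h1 := (dotB (2 * n) 1).finrank_range_add_finrank_ker
    have h2 : LinearMap.range (dotB (2 * n) 1) = ⊤ := by
      rw [LinearMap.range_eq_top]
      exact fun c => ⟨Pi.single ⟨0, by omega⟩ c, by simp [dotB_apply, dotProduct]⟩
    rw [h2, finrank_top, Module.finrank_self, Module.finrank_fintype_fun_eq_card, Fintype.card_fin,
      add_comm] at h1
    exact h1
  have hk := Φ.finrank_range_add_finrank_ker
  rw [hsurj, finrank_top, Module.finrank_fintype_fun_eq_card] at hk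
  simp only [Fintype.card_sum, Fintype.card_fin] at hk
  have hk1 : Module.finrank (ZMod 2) (LinearMap.ker Φ) = 1 := by omega
  have h1k : (⟨1, hone⟩ : evenSub (2 * n)) ∈ LinearMap.ker Φ := by
    rw [LinearMap.mem_ker]
    show heartCoord p 1 = 0
    simpa using heartCoord_const hp 1
  have hne : (⟨⟨1, hone⟩, h1k⟩ : LinearMap.ker Φ) ≠ 0 := fun h => by
    simpa using congr_fun (congrArg (fun z : LinearMap.ker Φ => (z.1 : Fin (2 * n) → ZMod 2)) h) ⟨0, by omega⟩
  let z : evenSub (2 * n) := ⟨y, hy⟩ - ⟨_, heartLift_mem hp (heartCoord p y)⟩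
  have hz : z ∈ LinearMap.ker Φ := by
    rw [LinearMap.mem_ker, map_sub, sub_eq_zero]
    show heartCoord p y = heartCoord p (heartLift p (heartCoord p y))
    rw [heartCoord_lift hp]
  obtain ⟨c, hc⟩ := (finrank_eq_one_iff_of_nonzero' _ hne).mp hk1 ⟨z, hz⟩
  refine ⟨c, ?_⟩
  have := congrArg (fun z : LinearMap.ker Φ => (z.1 : Fin (2 * n) → ZMod 2)) hc
  simp only [Submodule.coe_smul] at this
  rw [this]
  simp [z]

omit hp in
theorem perm_mem_evenSub (σ : Equiv.Perm (Fin (2 * n))) {y : Fin (2 * n) → ZMod 2}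
    (hy : y ∈ evenSub (2 * n)) : y ∘ σ.symm ∈ evenSub (2 * n) := by
  rw [mem_evenSub] at hy ⊢
  simp only [dotProduct, Pi.one_apply, one_mul, Function.comp_apply] at hy ⊢
  rw [Equiv.sum_comp σ.symm]
  exact hy

/-- Coordinates of a permuted lift. -/
def heartEnd (hn : 1 ≤ n) : Equiv.Perm (Fin (2 * n)) →* Module.End (ZMod 2) (Fin (n - 1) ⊕ Fin (n - 1) → ZMod 2) where
  toFun σ := (heartCoord p).comp ((LinearMap.funLeft (ZMod 2) (ZMod 2) σ.symm).comp (heartLift p))
  map_one' := by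
    refine LinearMap.ext fun v => ?_
    exact heartCoord_lift hp v
  map_mul' σ τ := by
    refine LinearMap.ext fun v => ?_
    show heartCoord p (heartLift p v ∘ (σ * τ).symm) =
      heartCoord p (heartLift p (heartCoord p (heartLift p v ∘ τ.symm)) ∘ σ.symm)
    obtain ⟨c, hc⟩ := heart_decomp hp hn (perm_mem_evenSub τ (heartLift_mem hp v))
    rw [show heartLift p v ∘ (σ * τ).symm = (heartLift p v ∘ τ.symm) ∘ σ.symm from rfl]
    conv_lhs => rw [hc]
    rw [show (heartLift p (heartCoord p (heartLift p v ∘ τ.symm)) + c • 1) ∘ σ.symm =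
      heartLift p (heartCoord p (heartLift p v ∘ τ.symm)) ∘ σ.symm + c • 1 from rfl, map_add,
      heartCoord_const hp, add_zero]

theorem heartEnd_spec (hn : 1 ≤ n) (σ : Equiv.Perm (Fin (2 * n))) (v : Fin (n - 1) ⊕ Fin (n - 1) → ZMod 2) :
    ∃ c : ZMod 2, heartLift p v ∘ σ.symm = heartLift p (heartEnd hp hn σ v) + c • 1 :=
  heart_decomp hp hn (perm_mem_evenSub σ (heartLift_mem hp v))

theorem heartEnd_injective (hn : 3 ≤ n) : Function.Injective (heartEnd hp (show 1 ≤ n by omega)) := by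
  rw [injective_iff_map_eq_one]
  intro σ hσ
  have key : ∀ y, y ∈ evenSub (2 * n) → ∃ c : ZMod 2, y ∘ σ.symm = y + c • 1 := by
    intro y hy
    obtain ⟨c, hc⟩ := heart_decomp hp (by omega) hy
    obtain ⟨d, hd⟩ := heartEnd_spec hp (by omega) σ (heartCoord p y)
    rw [hσ, Module.End.one_apply] at hd
    refine ⟨d, ?_⟩
    conv_lhs => rw [hc]
    rw [show (heartLift p (heartCoord p y) + c • 1) ∘ σ.symm =
      heartLift p (heartCoord p y) ∘ σ.symm + c • 1 from rfl, hd]
    conv_rhs => rw [hc]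
    abel
  refine Equiv.ext fun i => ?_
  by_contra hne
  rw [Equiv.Perm.coe_one, id_eq] at hne
  -- three further points away from `i` and `σ i`
  obtain ⟨j, hj⟩ : ∃ j, j ∉ ({i, σ i, σ.symm (σ i)} : Finset (Fin (2 * n))) := by
    by_contra h
    push Not at h
    have := Finset.card_le_card (fun x _ => h x : (Finset.univ : Finset (Fin (2 * n))) ⊆ _)
    rw [Finset.card_univ, Fintype.card_fin] at this
    have := this.trans Finset.card_le_three
    omega
  simp only [Finset.mem_insert, Finset.mem_singleton, not_or] at hj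
  let y : Fin (2 * n) → ZMod 2 := Pi.single i 1 + Pi.single j 1
  have hy : y ∈ evenSub (2 * n) := by
    rw [mem_evenSub]
    simp [y, dotProduct_add]
    rfl
  obtain ⟨c, hc⟩ := key y hy
  have h1 := congr_fun hc (σ i)
  simp [y, Function.comp_apply, Pi.single_apply, hne, Ne.symm hj.2.1, Ne.symm hj.1] at h1
  obtain ⟨k, hk⟩ : ∃ k, k ∉ ({i, j, σ i, σ j} : Finset (Fin (2 * n))) := by
    by_contra h
    push Not at h
    have := Finset.card_le_card (fun x _ => h x : (Finset.univ : Finset (Fin (2 * n))) ⊆ _)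
    rw [Finset.card_univ, Fintype.card_fin] at this
    have := this.trans Finset.card_le_four
    omega
  simp only [Finset.mem_insert, Finset.mem_singleton, not_or] at hk
  have h2 := congr_fun hc k
  have e1 : σ.symm k ≠ i := fun e => hk.2.2.1 (by rw [← e, Equiv.apply_symm_apply])
  have e2 : σ.symm k ≠ j := fun e => hk.2.2.2 (by rw [← e, Equiv.apply_symm_apply])
  simp [y, Function.comp_apply, Pi.single_apply, e1, e2, hk.1, hk.2.1] at h2
  simp [← h1] at h2

theorem heartEnd_symp (hn : 1 ≤ n) (σ : Equiv.Perm (Fin (2 * n))) :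
    LinearMap.toMatrix' (heartEnd hp hn σ) ∈ Matrix.symplecticGroup (Fin (n - 1)) (ZMod 2) := by
  rw [SymplecticGroup.mem_iff']
  set T := LinearMap.toMatrix' (heartEnd hp hn σ) with hT
  ext a b
  have hv : ∀ a : Fin (n - 1) ⊕ Fin (n - 1), heartLift p (Pi.single a 1) = p a := fun a => by
    simp [heartLift_apply, Pi.single_apply, ite_smul]
  have hpa : ∀ a b : Fin (n - 1) ⊕ Fin (n - 1), p a ⬝ᵥ p b = Matrix.J (Fin (n - 1)) (ZMod 2) a b :=
    fun a b => hp.2 a b
  obtain ⟨c, hc⟩ := heartEnd_spec hp hn σ (Pi.single a 1)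
  obtain ⟨d, hd⟩ := heartEnd_spec hp hn σ (Pi.single b 1)
  rw [hv] at hc hd
  have e := comp_equiv_dotProduct_comp_equiv (p a) (p b) σ.symm
  rw [hc, hd, hpa] at e
  have hone : ∀ w, (1 : Fin (2 * n) → ZMod 2) ⬝ᵥ heartLift p w = 0 := fun w => heartLift_mem hp w
  have h11 : (1 : Fin (2 * n) → ZMod 2) ⬝ᵥ (1 : Fin (2 * n) → ZMod 2) = 0 := by
    simp [dotProduct]
    exact Or.inl rfl
  simp only [add_dotProduct, dotProduct_add, smul_dotProduct, dotProduct_smul, hone, h11,
    dotProduct_comm (heartLift p _) 1, smul_zero, add_zero] at e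
  rw [← e, Matrix.mul_assoc, Matrix.mul_apply']
  have hcol : ∀ a, (fun k => T k a) = heartEnd hp hn σ (Pi.single a 1) := fun a => by
    funext k
    simp [hT, LinearMap.toMatrix'_apply, Pi.single_apply]
  show (fun k => T k a) ⬝ᵥ (fun k => (Matrix.J (Fin (n - 1)) (ZMod 2) * T) k b) = _
  rw [hcol, heartLift_apply (v := heartEnd hp hn σ (Pi.single a 1)), sum_dotProduct]
  simp only [smul_dotProduct, smul_eq_mul, dot_heartLift hp]
  simp only [dotProduct, ← hcol b]
  rfl

end H38
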