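import Cfsg.Agent.H48.Involution

/-!
The order of the isometry group of the identity form in characteristic two.
-/

set_option autoImplicit false

namespace H38.IdOrth

open Matrix

variable (F : Type*) [Field F]

/-- Isometries of the identity form. -/
abbrev Orth (n : ℕ) : Type _ := {P : Matrix (Fin n) (Fin n) F // Pᵀ * P = 1}

variable {F} [CharP F 2]

theorem dot_self {n : ℕ} (u : Fin n → F) : u ⬝ᵥ u = (∑ i, u i) * ∑ i, u i := by
  have h : (∑ i, u i) ^ 2 = ∑ i, u i ^ 2 := sum_pow_char 2 Finset.univ u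
  rw [← sq, h]
  simp [dotProduct, sq]

theorem sum_eq_one_iff {n : ℕ} (u : Fin n → F) : u ⬝ᵥ u = 1 ↔ ∑ i, u i = 1 := by
  rw [dot_self, mul_self_eq_one_iff, CharTwo.neg_eq, or_self]

theorem col_dot {n : ℕ} (P : Orth F n) (i j : Fin n) :
    (fun k => P.1 k i) ⬝ᵥ (fun k => P.1 k j) = (1 : Matrix (Fin n) (Fin n) F) i j := by
  conv_rhs => rw [← P.2]
  rfl

/-- Which vectors occur as first columns. -/
theorem exists_first_col [Finite F] {n : ℕ} (v : Fin (n + 2) → F) :
    (∃ P : Orth F (n + 2), (fun k => P.1 k 0) = v) ↔ (∑ i, v i = 1 ∧ v ≠ fun _ => 1) := by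
  classical
  constructor
  · rintro ⟨P, rfl⟩
    refine ⟨(sum_eq_one_iff _).1 (by rw [col_dot]; simp), fun h => ?_⟩
    have h1 : ∑ k, P.1 k 1 = 1 := (sum_eq_one_iff _).1 (by rw [col_dot]; simp)
    have h0 := col_dot P 0 1
    rw [h] at h0
    simp [dotProduct, h1] at h0
  rintro ⟨hs, hne⟩
  have hvv : v ⬝ᵥ v = 1 := (sum_eq_one_iff v).2 hs
  obtain ⟨u, hvu, hu⟩ : ∃ u, v ⬝ᵥ u = 0 ∧ u ⬝ᵥ u ≠ 0 := by
    obtain ⟨i, j, hij⟩ : ∃ i j, v i ≠ v j := by
      by_contra hcon
      push Not at hcon
      refine hne (funext fun i => ?_)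
      have h1 : ∀ k, v k = v i := fun k => hcon k i
      simp only [h1, Finset.sum_const, Finset.card_univ, Fintype.card_fin, nsmul_eq_mul] at hs
      rcases Nat.even_or_odd (n + 2) with he | he
      · rw [(CharP.cast_eq_zero_iff F 2 _).2 (even_iff_two_dvd.1 he), zero_mul] at hs
        exact absurd hs zero_ne_one
      · obtain ⟨k, hk⟩ := he
        rw [hk, Nat.cast_add, Nat.cast_mul, Nat.cast_one, Nat.cast_ofNat, CharTwo.two_eq_zero,
          zero_mul, zero_add, one_mul] at hs
        exact hs
    refine ⟨Pi.single i (v j) + Pi.single j (v i), ?_, ?_⟩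
    · rw [dotProduct_add, dotProduct_single, dotProduct_single, mul_comm (v j),
        CharTwo.add_self_eq_zero]
    · rw [dot_self, mul_self_ne_zero]
      simp only [Pi.add_apply, Finset.sum_add_distrib, Finset.sum_pi_single', Finset.mem_univ,
        if_true]
      rw [← CharTwo.sub_eq_add]
      exact sub_ne_zero.2 hij.symm
  let f : (Fin (n + 2) → F) →ₗ[F] F :=
    { toFun := fun x => v ⬝ᵥ x
      map_add' := fun x y => dotProduct_add _ _ _
      map_smul' := fun c x => by simp }
  have hf : ∀ x, f x = v ⬝ᵥ x := fun x => rfl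
  set K := LinearMap.ker f with hK
  have hfin : Module.finrank F K = n + 1 := by
    have h1 := LinearMap.finrank_range_add_finrank_ker f
    rw [LinearMap.range_eq_top.2 (fun c => ⟨c • v, by rw [hf, dotProduct_smul, hvv]; simp⟩),
      finrank_top, Module.finrank_self, Module.finrank_pi, Fintype.card_fin, ← hK] at h1
    omega
  let b := Module.finBasisOfFinrankEq F K hfin
  let G : Matrix (Fin (n + 1)) (Fin (n + 1)) F :=
    Matrix.of fun i j => (b i : Fin (n + 2) → F) ⬝ᵥ (b j : Fin (n + 2) → F)
  have hb : ∀ i, v ⬝ᵥ (b i : Fin (n + 2) → F) = 0 := fun i => LinearMap.mem_ker.1 (b i).2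
  have hexp : ∀ x, v ⬝ᵥ x = 0 → ∃ c : Fin (n + 1) → F, x = ∑ i, c i • (b i : Fin (n + 2) → F) :=
    fun x hx => ⟨b.repr ⟨x, LinearMap.mem_ker.2 hx⟩, by
      have h := congrArg Subtype.val (b.sum_repr ⟨x, LinearMap.mem_ker.2 hx⟩)
      simp only [Submodule.coe_sum, Submodule.coe_smul] at h
      exact h.symm⟩
  have hGu : IsUnit G := by
    rw [← Matrix.mulVec_injective_iff_isUnit]
    intro c d hcd
    rw [← sub_eq_zero]
    set w : K := ∑ j, (c - d) j • b j with hw
    have hw0 : ∀ i, (b i : Fin (n + 2) → F) ⬝ᵥ (w : Fin (n + 2) → F) = 0 := fun i => by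
      have h0 : (G *ᵥ (c - d)) i = 0 := by
        rw [mulVec_sub, Pi.sub_apply, sub_eq_zero]; exact congrFun hcd i
      rw [← h0]
      simp only [hw, Submodule.coe_sum, Submodule.coe_smul, dotProduct_sum, dotProduct_smul]
      simp [G, mulVec, dotProduct, mul_comm]
    have hall : ∀ x, x ⬝ᵥ (w : Fin (n + 2) → F) = 0 := by
      intro x
      obtain ⟨k, hk⟩ := hexp (x - (v ⬝ᵥ x) • v) (by rw [dotProduct_sub, dotProduct_smul, hvv]; simp)
      have hx : x = (v ⬝ᵥ x) • v + ∑ i, k i • (b i : Fin (n + 2) → F) := by rw [← hk]; abel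
      rw [hx, add_dotProduct, smul_dotProduct, show v ⬝ᵥ (w : Fin (n + 2) → F) = 0 from
        LinearMap.mem_ker.1 w.2, sum_dotProduct]
      simp [smul_dotProduct, hw0]
    have hwz : (w : Fin (n + 2) → F) = 0 := funext fun i => by
      have := hall (Pi.single i 1)
      rwa [single_dotProduct, one_mul] at this
    exact funext (Fintype.linearIndependent_iff.1 b.linearIndependent _ (Subtype.ext hwz))
  have hGs : G.IsSymm := Matrix.IsSymm.ext fun i j => by
    simp only [G, Matrix.of_apply]; exact dotProduct_comm _ _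
  have hGd : ∃ i, G i i ≠ 0 := by
    by_contra hcon
    push Not at hcon
    refine hu ?_
    obtain ⟨c, rfl⟩ := hexp u hvu
    rw [dot_self, mul_self_eq_zero]
    simp only [Finset.sum_apply]
    rw [Finset.sum_comm]
    refine Finset.sum_eq_zero fun i _ => ?_
    simp only [Pi.smul_apply, smul_eq_mul, ← Finset.mul_sum]
    have h := hcon i
    simp only [G, Matrix.of_apply, dot_self, mul_self_eq_zero] at h
    rw [h, mul_zero]
  have hsq : ∀ a : F, ∃ c, c * c = a := fun a => by
    obtain ⟨c, hc⟩ := FiniteField.isSquare_of_char_two (ringChar.eq F 2) a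
    exact ⟨c, hc.symm⟩
  obtain ⟨P', -, hP'⟩ := H48.exists_congr_one hsq _ _ G (Fintype.card_fin _) hGs hGu hGd
  let col : Fin (n + 2) → Fin (n + 2) → F :=
    Fin.cons v fun j => ∑ i, P' i j • (b i : Fin (n + 2) → F)
  have hcolv : ∀ j, v ⬝ᵥ col (Fin.succ j) = 0 := fun j => by
    simp [col, dotProduct_sum, dotProduct_smul, hb]
  refine ⟨⟨Matrix.of fun k j => col j k, ?_⟩, funext fun k => by simp [col]⟩
  ext i j
  show col i ⬝ᵥ col j = _
  induction i using Fin.cases with
  | zero =>
    induction j using Fin.cases with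
    | zero => simp [col, hvv]
    | succ j =>
      rw [show col 0 = v from rfl, hcolv, Matrix.one_apply_ne (Fin.succ_ne_zero j).symm]
  | succ i =>
    induction j using Fin.cases with
    | zero =>
      rw [show col 0 = v from rfl, dotProduct_comm, hcolv, Matrix.one_apply_ne (Fin.succ_ne_zero i)]
    | succ j =>
      have h := congrFun (congrFun hP' i) j
      rw [show (1 : Matrix (Fin (n + 2)) (Fin (n + 2)) F) i.succ j.succ =
        (1 : Matrix (Fin (n + 1)) (Fin (n + 1)) F) i j by simp [Matrix.one_apply], ← h]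
      simp only [col, Fin.cons_succ, sum_dotProduct, smul_dotProduct, dotProduct_sum,
        dotProduct_smul, smul_eq_mul, G, Matrix.mul_apply, Matrix.transpose_apply, Matrix.of_apply,
        Finset.mul_sum, Finset.sum_mul]
      exact Finset.sum_congr rfl fun _ _ => Finset.sum_congr rfl fun _ _ => by
        rw [dotProduct_comm]; ring

theorem card_sum_one [Fintype F] (n : ℕ) :
    Nat.card {v : Fin (n + 1) → F // ∑ i, v i = 1} = Fintype.card F ^ n := by
  let e : {v : Fin (n + 1) → F // ∑ i, v i = 1} ≃ (Fin n → F) :=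
    { toFun := fun v => Fin.tail v.1
      invFun := fun w => ⟨Fin.cons (1 - ∑ i, w i) w, by rw [Fin.sum_cons]; ring⟩
      left_inv := fun v => by
        refine Subtype.ext (funext fun i => ?_)
        induction i using Fin.cases with
        | zero =>
          have h := v.2
          rw [Fin.sum_univ_succ] at h
          simp only [Fin.cons_zero, Fin.tail]
          linear_combination -h
        | succ i => simp [Fin.tail]
      right_inv := fun w => by simp }
  rw [Nat.card_congr e, Nat.card_fun, Nat.card_eq_fintype_card, Nat.card_eq_fintype_card,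
    Fintype.card_fin]

/-- Splitting off the first column. -/
theorem card_succ [Fintype F] (n : ℕ) :
    Nat.card (Orth F (n + 2)) = (Fintype.card F ^ (n + 1) - if Even n then 0 else 1) *
      Nat.card (Orth F (n + 1)) := by
  classical
  let S := {v : Fin (n + 2) → F // ∑ i, v i = 1 ∧ v ≠ fun _ => 1}
  choose R hR using fun v : S => (exists_first_col v.1).2 v.2
  have hcomm : ∀ P : Orth F (n + 2), P.1 * P.1ᵀ = 1 := fun P => mul_eq_one_comm.1 P.2
  let fc : Orth F (n + 2) → S := fun P =>
    ⟨fun k => P.1 k 0, (exists_first_col _).1 ⟨P, rfl⟩⟩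
  have hfix : ∀ P : Orth F (n + 2), ∀ k, ((R (fc P)).1ᵀ * P.1) k 0 =
      (1 : Matrix (Fin (n + 2)) (Fin (n + 2)) F) k 0 :=
    fun P k => by
      rw [← col_dot (R (fc P)) k 0, hR (fc P)]
      rfl
  have hQ : ∀ P : Orth F (n + 2), ((R (fc P)).1ᵀ * P.1)ᵀ * ((R (fc P)).1ᵀ * P.1) = 1 := fun P => by
    rw [Matrix.transpose_mul, Matrix.transpose_transpose, Matrix.mul_assoc,
      ← Matrix.mul_assoc _ _ P.1, hcomm, Matrix.one_mul, P.2]
  have hrow : ∀ P : Orth F (n + 2), ∀ j : Fin (n + 1), ((R (fc P)).1ᵀ * P.1) 0 j.succ = 0 :=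
    fun P j => by
      have h := congrFun (congrFun (hQ P) 0) j.succ
      rw [Matrix.mul_apply, Matrix.one_apply_ne (Fin.succ_ne_zero j).symm] at h
      simp only [Matrix.transpose_apply, hfix] at h
      rw [Finset.sum_eq_single 0 (fun k _ hk => by rw [Matrix.one_apply_ne hk, zero_mul])
        (by simp), Matrix.one_apply_eq, one_mul] at h
      exact h
  let blk : Orth F (n + 2) → Orth F (n + 1) := fun P =>
    ⟨((R (fc P)).1ᵀ * P.1).submatrix Fin.succ Fin.succ, by
      ext i j
      have h := congrFun (congrFun (hQ P) i.succ) j.succ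
      rw [Matrix.mul_apply, Fin.sum_univ_succ] at h
      simp only [Matrix.transpose_apply, hrow, zero_mul, zero_add] at h
      rw [Matrix.mul_apply, show (1 : Matrix (Fin (n + 1)) (Fin (n + 1)) F) i j =
        (1 : Matrix (Fin (n + 2)) (Fin (n + 2)) F) i.succ j.succ by simp [Matrix.one_apply], ← h]
      rfl⟩
  have hbij : Function.Bijective fun P => (fc P, blk P) := by
    refine ⟨fun P P' h => ?_, fun p => ?_⟩
    · simp only [Prod.mk.injEq] at h
      have e : (R (fc P)).1ᵀ * P.1 = (R (fc P')).1ᵀ * P'.1 := by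
        ext i j
        induction j using Fin.cases with
        | zero => rw [hfix, hfix]
        | succ j =>
          induction i using Fin.cases with
          | zero => rw [hrow, hrow]
          | succ i => exact congrFun (congrFun (congrArg Subtype.val h.2) i) j
      rw [← h.1] at e
      have e' := congrArg ((R (fc P)).1 * ·) e
      simp only [← Matrix.mul_assoc, hcomm, Matrix.one_mul] at e'
      exact Subtype.ext e'
    · obtain ⟨v, Q⟩ := p
      let D : Matrix (Fin (n + 2)) (Fin (n + 2)) F :=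
        Matrix.of (Fin.cons (Pi.single 0 1) fun i => Fin.cons 0 (Q.1 i))
      have hD : Dᵀ * D = 1 := by
        ext i j
        rw [Matrix.mul_apply, Fin.sum_univ_succ]
        induction i using Fin.cases with
        | zero =>
          induction j using Fin.cases with
          | zero => simp [D]
          | succ j => simp [D, Matrix.one_apply_ne (Fin.succ_ne_zero j).symm]
        | succ i =>
          induction j using Fin.cases with
          | zero => simp [D, Matrix.one_apply_ne (Fin.succ_ne_zero i)]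
          | succ j =>
            rw [show (1 : Matrix (Fin (n + 2)) (Fin (n + 2)) F) i.succ j.succ =
              (1 : Matrix (Fin (n + 1)) (Fin (n + 1)) F) i j by simp [Matrix.one_apply], ← Q.2]
            simp [D, Matrix.mul_apply]
      let P : Orth F (n + 2) := ⟨(R v).1 * D, by
        rw [Matrix.transpose_mul, Matrix.mul_assoc, ← Matrix.mul_assoc (R v).1ᵀ, (R v).2,
          Matrix.one_mul, hD]⟩
      have hfc : fc P = v := by
        refine Subtype.ext (funext fun k => ?_)
        show ((R v).1 * D) k 0 = _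
        rw [Matrix.mul_apply, Fin.sum_univ_succ, ← congrFun (hR v) k]
        simp [D]
      refine ⟨P, Prod.ext hfc (Subtype.ext ?_)⟩
      show ((R (fc P)).1ᵀ * ((R v).1 * D)).submatrix Fin.succ Fin.succ = Q.1
      rw [hfc, ← Matrix.mul_assoc, (R v).2, Matrix.one_mul]
      ext i j
      simp [D]
  rw [Nat.card_eq_of_bijective _ hbij, Nat.card_prod]
  congr 1
  have hS : Nat.card S = Nat.card {v : Fin (n + 2) → F // ∑ i, v i = 1} -
      if Even n then 0 else 1 := by
    rw [show Nat.card S = ({v | ∑ i, v i = 1} \ {fun _ => 1} : Set (Fin (n + 2) → F)).ncard from rfl,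
      show Nat.card {v : Fin (n + 2) → F // ∑ i, v i = 1} =
        ({v | ∑ i, v i = 1} : Set (Fin (n + 2) → F)).ncard from rfl]
    have hone : (fun _ => (1 : F)) ∈ ({v | ∑ i, v i = 1} : Set (Fin (n + 2) → F)) ↔ ¬ Even n := by
      simp only [Set.mem_setOf_eq, Finset.sum_const, Finset.card_univ, Fintype.card_fin,
        nsmul_eq_mul, mul_one]
      rw [show ((n + 2 : ℕ) : F) = (n : F) by push_cast; rw [CharTwo.two_eq_zero, add_zero]]
      rcases Nat.even_or_odd n with he | he
      · rw [(CharP.cast_eq_zero_iff F 2 _).2 (even_iff_two_dvd.1 he)]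
        simp [he]
      · obtain ⟨k, rfl⟩ := he
        push_cast
        simp [CharTwo.two_eq_zero, parity_simps]
    by_cases he : Even n
    · rw [if_pos he, Set.diff_singleton_eq_self (fun h => hone.1 h he)]
      rfl
    · rw [if_neg he, Set.ncard_sdiff_singleton_of_mem (hone.2 he)]
  rw [hS, card_sum_one]

theorem card_one : Nat.card (Orth F 1) = 1 := by
  have : Subsingleton (Orth F 1) := ⟨fun P Q => by
    have h : ∀ P : Orth F 1, P.1 0 0 = 1 := fun P => by
      have := congrFun (congrFun P.2 0) 0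
      simp [Matrix.mul_apply] at this
      rcases mul_self_eq_one_iff.1 this with h | h
      · exact h
      · rwa [CharTwo.neg_eq] at h
    refine Subtype.ext (Matrix.ext fun i j => ?_)
    rw [Subsingleton.elim i 0, Subsingleton.elim j 0, h, h]⟩
  have : Nonempty (Orth F 1) := ⟨⟨1, by simp⟩⟩
  exact Nat.card_eq_one_iff_unique.2 ⟨inferInstance, inferInstance⟩

/-- The orders. -/
theorem card_orth [Fintype F] (k : ℕ) :
    Nat.card (Orth F (2 * k + 1)) = Fintype.card F ^ (k ^ 2) *
        ∏ i : Fin k, (Fintype.card F ^ (2 * ((i : ℕ) + 1)) - 1) ∧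
      Nat.card (Orth F (2 * k + 2)) = Fintype.card F ^ (k ^ 2 + 2 * k + 1) *
        ∏ i : Fin k, (Fintype.card F ^ (2 * ((i : ℕ) + 1)) - 1) := by
  induction k with
  | zero => exact ⟨by simp [card_one], by rw [card_succ]; simp [card_one]⟩
  | succ k ih =>
    have h1 : Nat.card (Orth F (2 * k + 3)) = Fintype.card F ^ ((k + 1) ^ 2) *
        ∏ i : Fin (k + 1), (Fintype.card F ^ (2 * ((i : ℕ) + 1)) - 1) := by
      rw [show 2 * k + 3 = (2 * k + 1) + 2 by ring, card_succ, if_neg (by simp [parity_simps]),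
        show 2 * k + 1 + 1 = 2 * k + 2 by ring, ih.2, Fin.prod_univ_castSucc]
      simp only [Fin.val_castSucc, Fin.val_last]
      rw [show (k + 1) ^ 2 = k ^ 2 + 2 * k + 1 by ring, show 2 * (k + 1) = 2 * k + 2 by ring]
      ring
    refine ⟨by rw [show 2 * (k + 1) + 1 = 2 * k + 3 by ring]; exact h1, ?_⟩
    rw [show 2 * (k + 1) + 2 = (2 * k + 2) + 2 by ring, card_succ, if_pos (by simp [parity_simps]),
      show 2 * k + 2 + 1 = 2 * k + 3 by ring, h1, Nat.sub_zero, ← mul_assoc, ← pow_add]
    congr 2
    ring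

end H38.IdOrth
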