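import Cfsg.Agent.H38.IdentityOrth
import Cfsg.Agent.H48.InvolutionClass
import Cfsg.Agent.H48.Count

/-!
Centralisers of involutions of the symplectic group in characteristic two.
-/

set_option autoImplicit false

namespace H38.InvolCent

open Matrix

variable {l : Type*} [Fintype l] [DecidableEq l] {F : Type*} [Field F] [CharP F 2]

local notation "V" => (l ⊕ l → F)
local notation "Sp" => Matrix.symplecticGroup l F

/-- A map carrying one family of Gram data to another commutes with the involution. -/
theorem commute_of_gram {t : Sp} (ht : t * t = 1) {ι : Type} [Fintype ι] [DecidableEq ι]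
    (x w x' w' : ι → V) (hw : ∀ i, H48.nil t (w i) = x i) (hw' : ∀ i, H48.nil t (w' i) = x' i)
    (hspan : ∀ v, H48.nil t v ∈ Submodule.span F (Set.range x))
    (hspan' : ∀ v, H48.nil t v ∈ Submodule.span F (Set.range x'))
    (hu : IsUnit (Matrix.of fun i j => H48.sf (w i) (x j)))
    (hG : ∀ i j, H48.sf (w i) (x j) = H48.sf (w' i) (x' j)) {g : Sp} (hg : ∀ i, g • x i = x' i) :
    t * g = g * t := by
  have key : ∀ v, H48.nil t (g • v) = g • H48.nil t v := by
    intro v
    obtain ⟨c, hc⟩ := (Submodule.mem_span_range_iff_exists_fun F).1 (hspan v)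
    obtain ⟨c', hc'⟩ := (Submodule.mem_span_range_iff_exists_fun F).1 (hspan' (g • v))
    have e : ∀ i, H48.sf (w i) (∑ j, c j • x j) = H48.sf (w i) (∑ j, c' j • x j) := by
      intro i
      rw [hc, H48.sf_nil_comm ht, hw]
      have h2 : H48.sf (g • v) (x' i) = H48.sf (w' i) (∑ j, c' j • x' j) := by
        rw [hc', H48.sf_nil_comm ht (w' i) (g • v), hw']
      rw [← H48.sf_smul_smul g v (x i), hg, h2]
      simp only [map_sum, map_smul, hG]
    have hce : c = c' := by
      apply Matrix.mulVec_injective_iff_isUnit.2 hu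
      funext i
      simpa [mulVec, dotProduct, map_sum, mul_comm] using e i
    rw [← hc, ← hc', hce, Finset.smul_sum]
    exact Finset.sum_congr rfl fun j _ => by rw [smul_comm, hg]
  refine H48.sp_ext fun v => ?_
  rw [mul_smul, mul_smul]
  have := key v
  rwa [H48.nil_apply, H48.nil_apply, smul_sub, sub_left_inj] at this

theorem nil_smul {t g : Sp} (h : t * g = g * t) (v : V) : H48.nil t (g • v) = g • H48.nil t v := by
  rw [H48.nil_apply, H48.nil_apply, smul_sub, ← mul_smul, h, mul_smul]

theorem sum_gram {ι : Type} [Fintype ι] (w x : ι → V) (P : Matrix ι ι F) (i j : ι) :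
    H48.sf (∑ a, P a i • w a) (∑ b, P b j • x b) =
      (Pᵀ * Matrix.of (fun a b => H48.sf (w a) (x b)) * P) i j := by
  simp only [map_sum, map_smul, LinearMap.sum_apply, LinearMap.smul_apply, smul_eq_mul,
    Matrix.mul_apply, transpose_apply, Matrix.of_apply, Finset.sum_mul, Finset.mul_sum]
  exact Finset.sum_congr rfl fun a _ => Finset.sum_congr rfl fun b _ => by ring

/-- The centraliser as an extension of the isometry group of the Gram matrix. -/
theorem card_centralizer [Fintype F] {t : Sp} (ht : t * t = 1) {ι : Type} [Fintype ι]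
    [DecidableEq ι] (x w : ι → V) (hx : LinearIndependent F x) (hw : ∀ i, H48.nil t (w i) = x i)
    (hspan : ∀ v, H48.nil t v ∈ Submodule.span F (Set.range x)) (G : Matrix ι ι F) (hGu : IsUnit G)
    (hG : ∀ i j, H48.sf (w i) (x j) = G i j) :
    Fintype.card ι ≤ Fintype.card l ∧
    Nat.card (Subgroup.centralizer ({t} : Set Sp)) =
      Fintype.card F ^ (Fintype.card l ^ 2 - (Fintype.card ι).choose 2) *
        (∏ i ∈ Finset.range (Fintype.card l - Fintype.card ι),
          (Fintype.card F ^ (2 * (i + 1)) - 1)) *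
        Nat.card {P : Matrix ι ι F // Pᵀ * G * P = G} := by
  classical
  have hGm : (Matrix.of fun i j => H48.sf (w i) (x j)) = G := Matrix.ext hG
  have hu : IsUnit (Matrix.of fun i j => H48.sf (w i) (x j)) := hGm ▸ hGu
  have hiso : ∀ i j, H48.sf (x i) (x j) = 0 := fun i j => by
    rw [← hw i, ← hw j, H48.sf_symm, H48.sf_nil_comm ht, H48.nil_nil ht, map_zero]
  set e := Fintype.equivFin ι with he
  have hfr : (x ∘ e.symm) ∈ H48.frames l F (Fintype.card ι) :=
    ⟨hx.comp _ e.symm.injective, fun i j => hiso _ _⟩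
  have hle : Fintype.card ι ≤ Fintype.card l := by
    have h1 := H48.finrank_ker_pairing hfr.1
    have h2 := Submodule.finrank_mono (H48.span_le_ker_pairing hfr.2)
    rw [finrank_span_eq_card hfr.1, Fintype.card_fin] at h2
    omega
  refine ⟨hle, ?_⟩
  set C := Subgroup.centralizer ({t} : Set Sp) with hC
  have hCmem : ∀ g, g ∈ C ↔ t * g = g * t := fun g => Subgroup.mem_centralizer_singleton_iff.trans eq_comm
  have hfix : ∀ g ∈ H48.fixFam x, g ∈ C := fun g hg =>
    (hCmem g).2 (commute_of_gram ht x w x w hw hw hspan hspan hu (fun _ _ => rfl) hg)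
  have hfixeq : H48.fixFam (x ∘ e.symm) = H48.fixFam x := by
    ext g
    exact ⟨fun h i => by simpa using h (e i), fun h i => h _⟩
  have hcount := H48.card_eq_image_mul_stab C (H48.fixFam x) (fun g i => g • x i) hfix
    (fun g _ h _ => by
      rw [funext_iff, H48.mem_fixFam]
      exact forall_congr' fun i => by rw [mul_smul, inv_smul_eq_iff, eq_comm])
  have hstab : Nat.card (H48.fixFam x) =
      Fintype.card F ^ (Fintype.card l ^ 2 - (Fintype.card ι).choose 2) *
        ∏ i ∈ Finset.range (Fintype.card l - Fintype.card ι),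
          (Fintype.card F ^ (2 * (i + 1)) - 1) := by
    rw [← hfixeq]; exact H48.card_fixFam_frame hle hfr
  rw [hcount, hstab, mul_comm]
  congr 1
  -- the image
  let ψ : {P : Matrix ι ι F // Pᵀ * G * P = G} → (ι → V) := fun P j => ∑ i, P.1 i j • x i
  have hψ : Function.Injective ψ := by
    intro P Q h
    refine Subtype.ext (Matrix.ext fun i j => ?_)
    have h1 : ∑ i, (P.1 i j - Q.1 i j) • x i = 0 := by
      simp only [sub_smul, Finset.sum_sub_distrib]
      exact sub_eq_zero.2 (congrFun h j)
    exact sub_eq_zero.1 (Fintype.linearIndependent_iff.1 hx _ h1 i)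
  have himg : (fun (g : Sp) i => g • x i) '' (C : Set Sp) = Set.range ψ := by
    apply Set.Subset.antisymm
    · rintro _ ⟨g, hg, rfl⟩
      have hcm := (hCmem g).1 hg
      have hc : ∀ j, ∃ c : ι → F, ∑ i, c i • x i = g • x j := fun j => by
        have : H48.nil t (g • w j) = g • x j := by rw [nil_smul hcm, hw]
        rw [← this]
        exact (Submodule.mem_span_range_iff_exists_fun F).1 (hspan _)
      choose c hc using hc
      refine ⟨⟨Matrix.of fun i j => c j i, ?_⟩, funext fun j => hc j⟩
      ext i j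
      have h1 := sum_gram w x (Matrix.of fun i j => c j i) i j
      rw [hGm] at h1
      rw [← h1]
      simp only [Matrix.of_apply]
      have h2 : H48.nil t (∑ a, c i a • w a) = g • x i := by
        rw [map_sum, ← hc i]; simp only [map_smul, hw]
      rw [hc j, ← hw j, ← nil_smul hcm, H48.sf_nil_comm ht, h2, H48.sf_smul_smul, ← hG i j,
        ← hw i, H48.sf_nil_comm ht, hw j]
    · rintro _ ⟨P, rfl⟩
      set x' : ι → V := fun j => ∑ i, P.1 i j • x i with hx'
      set w' : ι → V := fun j => ∑ i, P.1 i j • w i with hw'd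
      have hw' : ∀ j, H48.nil t (w' j) = x' j := fun j => by
        simp only [hx', hw'd, map_sum, map_smul, hw]
      have hPu : IsUnit P.1 := by
        have hdG : G.det ≠ 0 := (Matrix.isUnit_iff_isUnit_det G).1 hGu |>.ne_zero
        have hd := congrArg Matrix.det P.2
        rw [Matrix.det_mul, Matrix.det_mul, Matrix.det_transpose] at hd
        exact (Matrix.isUnit_iff_isUnit_det _).2 (IsUnit.mk0 _ fun h => hdG (by
          rw [← hd, h]; ring))
      have hx'li : LinearIndependent F x' := by
        rw [Fintype.linearIndependent_iff]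
        intro c hc
        have h1 : P.1 *ᵥ c = 0 := by
          funext i
          refine Fintype.linearIndependent_iff.1 hx (P.1 *ᵥ c) ?_ i
          rw [← hc]
          simp only [hx', mulVec, dotProduct, Finset.sum_smul, Finset.smul_sum, smul_smul]
          rw [Finset.sum_comm]
          exact Finset.sum_congr rfl fun j _ => Finset.sum_congr rfl fun i _ => by rw [mul_comm]
        exact congrFun (Matrix.mulVec_injective_iff_isUnit.2 hPu (h1.trans (mulVec_zero _).symm))
      have hG' : ∀ i j, H48.sf (w i) (x j) = H48.sf (w' i) (x' j) := fun i j => by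
        rw [hw'd, hx', sum_gram, hGm, P.2, hG]
      have hspan' : ∀ v, H48.nil t v ∈ Submodule.span F (Set.range x') := by
        intro v
        rw [Submodule.eq_of_le_of_finrank_eq (S₁ := Submodule.span F (Set.range x'))
          (S₂ := Submodule.span F (Set.range x))
          (Submodule.span_le.2 (Set.range_subset_iff.2 fun j =>
            Submodule.sum_mem _ fun i _ => Submodule.smul_mem _ _ (Submodule.subset_span ⟨i, rfl⟩)))
          (by rw [finrank_span_eq_card hx'li, finrank_span_eq_card hx])]
        exact hspan v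
      have hiso' : ∀ i j, H48.sf (x' i) (x' j) = 0 := fun i j => by
        rw [← hw' i, ← hw' j, H48.sf_symm, H48.sf_nil_comm ht, H48.nil_nil ht, map_zero]
      obtain ⟨g, -, hg⟩ := H48.witt x x' hx hx'li (fun i j => by rw [hiso, hiso'])
      exact ⟨g, (hCmem g).2 (commute_of_gram ht x w x' w' hw hw' hspan hspan' hu hG' hg), funext hg⟩
  rw [himg, Nat.card_range_of_injective hψ]

/-- Involutions with non-alternating form. -/
theorem card_centralizer_one [Fintype F] {t : Sp} (ht : t * t = 1)
    (hna : ¬ ∀ v : V, H48.sf v (t • v) = 0) {s : ℕ}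
    (hs : ((t : Matrix (l ⊕ l) (l ⊕ l) F) - 1).rank = s) :
    s ≤ Fintype.card l ∧ Nat.card (Subgroup.centralizer ({t} : Set Sp)) =
      Fintype.card F ^ (Fintype.card l ^ 2 - s.choose 2) *
        (∏ i ∈ Finset.range (Fintype.card l - s), (Fintype.card F ^ (2 * (i + 1)) - 1)) *
        Nat.card (H38.IdOrth.Orth F s) := by
  obtain ⟨x, w, hx, hw, hspan, -, hu, hsy, hd⟩ := H48.exists_gram ht
  subst hs
  have hne : ∃ i, (Matrix.of fun i j => H48.sf (w i) (x j)) i i ≠ 0 := by
    by_contra hcon
    push Not at hcon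
    exact hna (hd.1 hcon)
  have hsq : ∀ a : F, ∃ b, b * b = a := fun a => by
    obtain ⟨b, hb⟩ := FiniteField.isSquare_of_char_two (ringChar.eq F 2) a
    exact ⟨b, hb.symm⟩
  obtain ⟨P, -, hP⟩ := H48.exists_congr_one hsq _ _ _ (Fintype.card_fin _) hsy hu hne
  obtain ⟨y, z, hy, hz, hsp, hG⟩ :=
    H48.gram_change x w hx hw hspan P (Fintype.card_fin _) _ isUnit_one hP
  have h := card_centralizer ht y z hy hz hsp 1 isUnit_one hG
  rw [Fintype.card_fin] at h
  refine ⟨h.1, h.2.trans ?_⟩
  congr 1
  exact Nat.card_congr (Equiv.subtypeEquivRight fun Q => by rw [Matrix.mul_one])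

/-- Involutions with alternating form. -/
theorem card_centralizer_alt [Fintype F] {t : Sp} (ht : t * t = 1)
    (halt : ∀ v : V, H48.sf v (t • v) = 0) {r : ℕ}
    (hs : ((t : Matrix (l ⊕ l) (l ⊕ l) F) - 1).rank = 2 * r) :
    2 * r ≤ Fintype.card l ∧ Nat.card (Subgroup.centralizer ({t} : Set Sp)) =
      Fintype.card F ^ (Fintype.card l ^ 2 - (2 * r).choose 2) *
        (∏ i ∈ Finset.range (Fintype.card l - 2 * r), (Fintype.card F ^ (2 * (i + 1)) - 1)) *
        Nat.card (Matrix.symplecticGroup (Fin r) F) := by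
  obtain ⟨x, w, hx, hw, hspan, -, hu, hsy, hd⟩ := H48.exists_gram ht
  obtain ⟨r', P, hr, hP⟩ := H48.exists_congr_J _ hsy hu (hd.2 halt)
  rw [Fintype.card_fin] at hr
  obtain rfl : r' = r := by omega
  have hJ : IsUnit (Matrix.J (Fin r') F) :=
    (Matrix.isUnit_iff_isUnit_det _).2 (Matrix.isUnit_det_J _ _)
  have hc : Fintype.card (Fin r' ⊕ Fin r') = 2 * r' := by simp; omega
  obtain ⟨y, z, hy, hz, hsp, hG⟩ := H48.gram_change x w hx hw hspan P (hc.trans hr.symm) _ hJ hP
  have h := card_centralizer ht y z hy hz hsp _ hJ hG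
  rw [hc] at h
  refine ⟨h.1, h.2.trans ?_⟩
  congr 1
  refine Nat.card_congr
    { toFun := fun Q => ⟨Q.1ᵀ, by rw [SymplecticGroup.mem_iff, Matrix.transpose_transpose]; exact Q.2⟩
      invFun := fun A => ⟨A.1ᵀ, by
        rw [Matrix.transpose_transpose]; exact SymplecticGroup.mem_iff.1 A.2⟩
      left_inv := fun Q => Subtype.ext (Matrix.transpose_transpose _)
      right_inv := fun A => Subtype.ext (Matrix.transpose_transpose _) }

end H38.InvolCent
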