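import Cfsg.Agent.H38.EndRep
import Cfsg.Agent.H38.StdForms
import Cfsg.Agent.H37.Card

/-! `PΩ_3(q) ≅ PSL_2(q)` via the adjoint representation. -/

set_option autoImplicit false

namespace H38

open Matrix

variable {F : Type*} [Field F]

/-- The trace-zero matrix of a coordinate triple. -/
def tzMat : (F × (F × F)) →ₗ[F] Matrix (Fin 2) (Fin 2) F where
  toFun v := !![v.1, v.2.1; v.2.2, -v.1]
  map_add' u v := by ext i j; fin_cases i <;> fin_cases j <;> simp <;> ring
  map_smul' c v := by ext i j; fin_cases i <;> fin_cases j <;> simp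

/-- Coordinates of a matrix. -/
def tzCoord : Matrix (Fin 2) (Fin 2) F →ₗ[F] (F × (F × F)) where
  toFun M := (M 0 0, (M 0 1, M 1 0))
  map_add' M N := rfl
  map_smul' c M := rfl

theorem tzCoord_apply (M : Matrix (Fin 2) (Fin 2) F) : tzCoord M = (M 0 0, (M 0 1, M 1 0)) := rfl

theorem tzMat_apply (v : F × (F × F)) : tzMat v = !![v.1, v.2.1; v.2.2, -v.1] := rfl

theorem tzMat_coord {M : Matrix (Fin 2) (Fin 2) F} (h : M 0 0 + M 1 1 = 0) :
    tzMat (tzCoord M) = M := by
  ext i j
  fin_cases i <;> fin_cases j <;> simp [tzMat_apply, tzCoord_apply]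
  linear_combination -h

theorem tzCoord_mat (v : F × (F × F)) : tzCoord (tzMat v) = v := by
  simp [tzMat_apply, tzCoord_apply]

theorem tz_trace (A : Matrix (Fin 2) (Fin 2) F) (v : F × (F × F)) :
    (A * tzMat v * A.adjugate) 0 0 + (A * tzMat v * A.adjugate) 1 1 = 0 := by
  simp [tzMat_apply, Matrix.adjugate_fin_two, Matrix.mul_apply, Fin.sum_univ_two]
  ring

theorem tz_form (A : Matrix (Fin 2) (Fin 2) F) (v : F × (F × F)) :
    (A * tzMat v * A.adjugate) 0 0 ^ 2
      + (A * tzMat v * A.adjugate) 0 1 * (A * tzMat v * A.adjugate) 1 0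
      = A.det ^ 2 * (v.1 ^ 2 + v.2.1 * v.2.2) := by
  simp [tzMat_apply, Matrix.adjugate_fin_two, Matrix.mul_apply, Fin.sum_univ_two, Matrix.det_fin_two]
  ring

/-- The adjoint action. -/
def adEnd : Matrix.SpecialLinearGroup (Fin 2) F →* Module.End F (F × (F × F)) where
  toFun A := tzCoord.comp ((LinearMap.mulLeft F (A : Matrix (Fin 2) (Fin 2) F)).comp
    ((LinearMap.mulRight F (A : Matrix (Fin 2) (Fin 2) F).adjugate).comp tzMat))
  map_one' := by
    refine LinearMap.ext fun v => ?_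
    simp [tzCoord_mat]
  map_mul' A B := by
    refine LinearMap.ext fun v => ?_
    simp only [Module.End.mul_apply, LinearMap.comp_apply, LinearMap.mulLeft_apply,
      LinearMap.mulRight_apply]
    rw [tzMat_coord (by rw [← mul_assoc]; exact tz_trace _ v), Matrix.SpecialLinearGroup.coe_mul,
      Matrix.adjugate_mul_distrib]
    simp only [mul_assoc]

theorem adEnd_apply (A : Matrix.SpecialLinearGroup (Fin 2) F) (v : F × (F × F)) :
    adEnd A v = tzCoord ((A : Matrix (Fin 2) (Fin 2) F) * tzMat v *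
      (A : Matrix (Fin 2) (Fin 2) F).adjugate) := by
  simp [adEnd, mul_assoc]

/-- The form preserved by the adjoint action. -/
def tzForm (v : F × (F × F)) : F := v.1 ^ 2 + v.2.1 * v.2.2

theorem adEnd_mem (A : Matrix.SpecialLinearGroup (Fin 2) F) :
    autOfEnd adEnd A ∈ isoGroup F (tzForm (F := F)) := fun v => by
  rw [autOfEnd_apply, adEnd_apply, tzForm, tzForm]
  have h := tz_form (A : Matrix (Fin 2) (Fin 2) F) v
  rw [A.det_coe] at h
  simpa [tzCoord_apply] using h

theorem adEnd_ker {A : Matrix.SpecialLinearGroup (Fin 2) F} (h : ∀ v, adEnd A v = v) :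
    A * A = 1 ∧ A ∈ Subgroup.center (Matrix.SpecialLinearGroup (Fin 2) F) := by
  set M := (A : Matrix (Fin 2) (Fin 2) F) with hM
  have hdet : M 0 0 * M 1 1 - M 0 1 * M 1 0 = 1 := by rw [← Matrix.det_fin_two]; exact A.det_coe
  have h1 := h (0, (1, 0))
  have h2 := h (0, (0, 1))
  rw [adEnd_apply] at h1 h2
  simp [tzCoord_apply, tzMat_apply, Matrix.adjugate_fin_two, Matrix.mul_apply, Fin.sum_univ_two, ← hM] at h1 h2
  obtain ⟨-, ha, hc⟩ := h1
  obtain ⟨-, hb, hd⟩ := h2
  have hb0 : M 0 1 = 0 := hb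
  have hc0 : M 1 0 = 0 := hc
  rw [hb0, hc0, mul_zero, sub_zero] at hdet
  have had : M 0 0 = M 1 1 := by linear_combination (-(M 0 0)) * hdet + (M 1 1) * ha
  have hA : M = Matrix.scalar (Fin 2) (M 0 0) := by
    ext i j; fin_cases i <;> fin_cases j <;> simp [hb0, hc0, had]
  refine ⟨Subtype.ext ?_, Matrix.SpecialLinearGroup.mem_center_iff.mpr ⟨M 0 0, ?_, hA.symm⟩⟩
  · rw [Matrix.SpecialLinearGroup.coe_mul, ← hM, hA, Matrix.SpecialLinearGroup.coe_one, ← map_mul, ha,
      map_one]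
  · rw [Fintype.card_fin, sq, ha]

end H38
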