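import Cfsg.Agent.H38.Omega6
import Cfsg.Agent.H47.Symp
import Cfsg.Agent.H48.Count
import Cfsg.Agent.H48.Simple

/-! `PΩ_5(q) ≅ PSp_4(q)` for odd `q`: the stabiliser of the symplectic form in the six-dimensional action. -/

set_option autoImplicit false

namespace H38

open Matrix

variable {F : Type*} [Field F]

/-- A symplectic matrix as a four by four matrix of determinant one. -/
def spToSL : Matrix.symplecticGroup (Fin 2) F →* Matrix.SpecialLinearGroup (Fin 4) F where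
  toFun g := ⟨Matrix.reindexAlgEquiv F F finSumFinEquiv (g : Matrix (Fin 2 ⊕ Fin 2) (Fin 2 ⊕ Fin 2) F), by
    rw [Matrix.det_reindexAlgEquiv, H47.symplectic_det_one]⟩
  map_one' := Subtype.ext (map_one (Matrix.reindexAlgEquiv F F finSumFinEquiv))
  map_mul' g h := Subtype.ext (map_mul (Matrix.reindexAlgEquiv F F finSumFinEquiv) _ _)

/-- Coordinates of the matrix of the symplectic form. -/
def jVec (F : Type*) [Field F] : Fin 3 ⊕ Fin 3 → F := Sum.elim ![0, -1, 0] ![0, 1, 0]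

theorem altMat_jVec : altMat (jVec F) =
    Matrix.reindexAlgEquiv F F finSumFinEquiv (Matrix.J (Fin 2) F) := by
  ext i j
  fin_cases i <;> fin_cases j <;>
    simp [altMat_apply, jVec, Matrix.J, Matrix.reindexAlgEquiv_apply, Matrix.fromBlocks,
      finSumFinEquiv, Fin.addCases, Matrix.one_apply]

theorem altEnd_jVec (g : Matrix.symplecticGroup (Fin 2) F) : altEnd (spToSL g) (jVec F) = jVec F := by
  rw [altEnd_apply, altMat_jVec]
  conv_rhs => rw [← altCoord_mat (jVec F), altMat_jVec]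
  show altCoord (Matrix.reindexAlgEquiv F F finSumFinEquiv (g : Matrix (Fin 2 ⊕ Fin 2) (Fin 2 ⊕ Fin 2) F) *
    Matrix.reindexAlgEquiv F F finSumFinEquiv (Matrix.J (Fin 2) F) *
    (Matrix.reindexAlgEquiv F F finSumFinEquiv (g : Matrix (Fin 2 ⊕ Fin 2) (Fin 2 ⊕ Fin 2) F))ᵀ) = _
  rw [show (Matrix.reindexAlgEquiv F F finSumFinEquiv (g : Matrix (Fin 2 ⊕ Fin 2) (Fin 2 ⊕ Fin 2) F))ᵀ =
      Matrix.reindexAlgEquiv F F finSumFinEquiv (g : Matrix (Fin 2 ⊕ Fin 2) (Fin 2 ⊕ Fin 2) F)ᵀ from rfl,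
    ← map_mul, ← map_mul, SymplecticGroup.mem_iff.mp g.2]

/-- The five-dimensional space orthogonal to `jVec`. -/
def emb5 : (Unit ⊕ (Fin 2 ⊕ Fin 2) → F) →ₗ[F] (Fin 3 ⊕ Fin 3 → F) where
  toFun v := Sum.elim ![v (.inr (.inl 0)), v (.inl ()), v (.inr (.inl 1))]
    ![v (.inr (.inr 0)), v (.inl ()), v (.inr (.inr 1))]
  map_add' u v := funext fun i => by rcases i with i | i <;> fin_cases i <;> simp
  map_smul' c v := funext fun i => by rcases i with i | i <;> fin_cases i <;> simp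

/-- The left inverse of `emb5`. -/
def proj5 : (Fin 3 ⊕ Fin 3 → F) →ₗ[F] (Unit ⊕ (Fin 2 ⊕ Fin 2) → F) where
  toFun w := Sum.elim (fun _ => w (.inl 1)) (Sum.elim ![w (.inl 0), w (.inl 2)] ![w (.inr 0), w (.inr 2)])
  map_add' u v := funext fun i => by rcases i with i | i | i <;> (try fin_cases i) <;> simp
  map_smul' c v := funext fun i => by rcases i with i | i | i <;> (try fin_cases i) <;> simp

theorem proj5_emb (v : Unit ⊕ (Fin 2 ⊕ Fin 2) → F) : proj5 (emb5 v) = v :=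
  funext fun i => by rcases i with i | i | i <;> (try fin_cases i) <;> simp [proj5, emb5]

theorem emb5_proj {w : Fin 3 ⊕ Fin 3 → F} (h : w (.inl 1) = w (.inr 1)) : emb5 (proj5 w) = w :=
  funext fun i => by rcases i with i | i <;> fin_cases i <;> simp [proj5, emb5, h]

theorem altEnd_emb (g : Matrix.symplecticGroup (Fin 2) F) (v : Unit ⊕ (Fin 2 ⊕ Fin 2) → F) :
    emb5 (proj5 (altEnd (spToSL g) (emb5 v))) = altEnd (spToSL g) (emb5 v) := by
  apply emb5_proj
  have h1 := altEnd_mem (spToSL g) (emb5 v + jVec F)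
  have h2 := altEnd_mem (spToSL g) (emb5 v)
  rw [autOfEnd_apply] at h1 h2
  rw [map_add, altEnd_jVec] at h1
  generalize altEnd (spToSL g) (emb5 v) = w at h1 h2 ⊢
  simp [pf4, jVec, emb5] at h1 h2
  linear_combination h1 - h2

/-- The action on the five-dimensional space. -/
def spEnd : Matrix.symplecticGroup (Fin 2) F →* Module.End F (Unit ⊕ (Fin 2 ⊕ Fin 2) → F) where
  toFun g := proj5.comp ((altEnd (spToSL g)).comp emb5)
  map_one' := by
    refine LinearMap.ext fun v => ?_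
    simp [proj5_emb]
  map_mul' g h := by
    refine LinearMap.ext fun v => ?_
    simp [map_mul, altEnd_emb]

theorem spEnd_apply (g : Matrix.symplecticGroup (Fin 2) F) (v : Unit ⊕ (Fin 2 ⊕ Fin 2) → F) :
    spEnd g v = proj5 (altEnd (spToSL g) (emb5 v)) := rfl

theorem spEnd_mem (g : Matrix.symplecticGroup (Fin 2) F) :
    autOfEnd spEnd g ∈ isoGroup F (fun v => pf4 (emb5 (F := F) v)) := fun v => by
  show pf4 (emb5 (spEnd g v)) = pf4 (emb5 v)
  rw [spEnd_apply, altEnd_emb]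
  exact altEnd_mem (spToSL g) (emb5 v)

theorem pf4_emb (v : Unit ⊕ (Fin 2 ⊕ Fin 2) → F) : pf4 (emb5 v) = Cfsg.quadFormOdd 2 F v := by
  simp [pf4, emb5, Cfsg.quadFormOdd, Fin.sum_univ_two]
  ring

theorem spEnd_eq_self_iff (h2 : (2 : F) ≠ 0) (g : Matrix.symplecticGroup (Fin 2) F) :
    (∀ v, spEnd g v = v) ↔
      ∃ c : F, c ^ 2 = 1 ∧ (g : Matrix (Fin 2 ⊕ Fin 2) (Fin 2 ⊕ Fin 2) F) = Matrix.scalar _ c := by
  have hsc : ∀ c : F, Matrix.reindexAlgEquiv F F finSumFinEquiv (Matrix.scalar (Fin 2 ⊕ Fin 2) c) =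
      Matrix.scalar (Fin 4) c := fun c => by
    simp [Matrix.scalar_apply, Matrix.reindexAlgEquiv_apply]
  constructor
  · intro h
    have hfix : ∀ w, altEnd (spToSL g) w = w := by
      intro w
      have e : emb5 (proj5 (w + ((w (.inl 1) - w (.inr 1)) / 2) • jVec F)) =
          w + ((w (.inl 1) - w (.inr 1)) / 2) • jVec F := emb5_proj (by
        simp [jVec]; field_simp; ring)
      have h1 := congrArg (altEnd (spToSL g)) e
      rw [← altEnd_emb, ← spEnd_apply, h, e, map_add, map_smul, altEnd_jVec] at h1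
      exact (add_right_cancel h1).symm
    obtain ⟨c, hc, hA⟩ := (altEnd_eq_self_iff _).mp hfix
    exact ⟨c, hc, (Matrix.reindexAlgEquiv F F finSumFinEquiv).injective (hA.trans (hsc c).symm)⟩
  · rintro ⟨c, hc, hg⟩ v
    rw [spEnd_apply, (altEnd_eq_self_iff (spToSL g)).mpr ⟨c, hc, by rw [← hsc, ← hg]; rfl⟩, proj5_emb]

theorem scalar_mem_symplectic {c : F} (hc : c ^ 2 = 1) :
    Matrix.scalar (Fin 2 ⊕ Fin 2) c ∈ Matrix.symplecticGroup (Fin 2) F := by
  rw [SymplecticGroup.mem_iff, Matrix.scalar_apply, Matrix.diagonal_transpose,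
    ← Matrix.smul_one_eq_diagonal]
  simp only [Matrix.smul_mul, Matrix.mul_smul, Matrix.one_mul, Matrix.mul_one, smul_smul]
  rw [← sq, hc, one_smul]

end H38
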