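import Cfsg.Agent.H39.Dickson

/-!
A subgroup of `SL₂(F)` containing a large `F₀`-space of lower unitriangular matrices and one upper
one is the whole group up to sign, when `F₀` is a maximal subfield.
-/

set_option autoImplicit false

namespace H38

open Matrix
open scoped MatrixGroups

universe u

/-- A subfield above one of prime codegree is that subfield or everything. -/
theorem subfield_eq_top_of_lt {F : Type u} [Field F] [Finite F] {F₀ K : Subfield F} {r : ℕ}
    (hr : r.Prime) (hcard : Nat.card F = Nat.card F₀ ^ r) (hle : F₀ ≤ K)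
    (hlt : Nat.card F₀ < Nat.card K) : K = ⊤ := by
  letI : Algebra F₀ K := (Subfield.inclusion hle).toAlgebra
  have h0 : 1 < Nat.card F₀ := Finite.one_lt_card
  have h1 : Nat.card K = Nat.card F₀ ^ Module.finrank F₀ K := Module.natCard_eq_pow_finrank
  have h2 : Nat.card F = Nat.card K ^ Module.finrank K F := Module.natCard_eq_pow_finrank
  rw [h1, ← pow_mul] at h2
  have h3 : r = Module.finrank F₀ K * Module.finrank K F :=
    Nat.pow_right_injective h0 (hcard.symm.trans h2)
  rcases (Nat.dvd_prime hr).1 ⟨_, h3⟩ with h4 | h4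
  · rw [h1, h4, pow_one] at hlt
    omega
  · refine SetLike.coe_injective ?_
    rw [Subfield.coe_top]
    refine Set.eq_univ_of_univ_subset ?_
    have : (Set.univ : Set F).ncard ≤ (K : Set F).ncard := by
      rw [Set.ncard_univ, hcard, ← Nat.card_coe_set_eq, show Nat.card (K : Set F) = Nat.card K from rfl,
        h1, h4]
    exact (Set.eq_of_subset_of_ncard_le (Set.subset_univ _) this (Set.toFinite _)).ge

/-- Lower unitriangular matrix. -/
def loSL {F : Type*} [Field F] (t : F) : SL(2, F) := ⟨!![1, 0; t, 1], by simp [Matrix.det_fin_two]⟩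

theorem coe_loSL {F : Type*} [Field F] (t : F) :
    (loSL t : Matrix (Fin 2) (Fin 2) F) = !![1, 0; t, 1] := rfl

theorem loSL_mul {F : Type*} [Field F] (s t : F) : loSL s * loSL t = loSL (s + t) := by
  apply Subtype.ext
  rw [Matrix.SpecialLinearGroup.coe_mul, coe_loSL, coe_loSL, coe_loSL]
  simp [Matrix.mul_fin_two]

theorem loSL_zero {F : Type*} [Field F] : loSL (0 : F) = 1 := by
  apply Subtype.ext
  rw [coe_loSL, Matrix.SpecialLinearGroup.coe_one, Matrix.one_fin_two]

/-- The lower unitriangular hom to `PSL₂`. -/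
def loHom {F : Type*} [Field F] :
    Multiplicative F →* Matrix.ProjectiveSpecialLinearGroup (Fin 2) F where
  toFun t := H39.proj (loSL t.toAdd)
  map_one' := by rw [toAdd_one, loSL_zero, map_one]
  map_mul' s t := by rw [toAdd_mul, ← loSL_mul, map_mul]

theorem loHom_injective {F : Type*} [Field F] : Function.Injective (loHom (F := F)) := by
  intro s t h
  rcases H39.proj_eq_proj_iff.1 h with h | h
  · have := congrArg (fun g : SL(2, F) => g 1 0) h
    simp [coe_loSL] at this
    exact Multiplicative.toAdd.injective this.symm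
  · have h0 := congrArg (fun g : SL(2, F) => g 0 0) h
    have h1 := congrArg (fun g : SL(2, F) => g 1 0) h
    simp [coe_loSL, Matrix.SpecialLinearGroup.coe_neg] at h0 h1
    have h2 : (2 : F) = 0 := by linear_combination h0
    apply Multiplicative.toAdd.injective
    linear_combination s.toAdd * h2 - h1

/-- In a cyclic group, a subgroup of exponent `p` has at most `p` elements. -/
theorem card_le_of_cyclic {X : Type*} [Group X] [Finite X] [IsCyclic X] {p : ℕ} (hp : 0 < p)
    (E : Subgroup X) (hE : ∀ x ∈ E, x ^ p = 1) : Nat.card E ≤ p := by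
  obtain ⟨g, hg⟩ := IsCyclic.exists_generator (α := E)
  rw [← orderOf_eq_card_of_forall_mem_zpowers hg]
  exact Nat.le_of_dvd hp (orderOf_dvd_of_pow_eq_one (Subtype.ext (by
    rw [Subgroup.coe_pow, hE g g.2, Subgroup.coe_one])))

variable {F : Type u} [Field F] [Fintype F]

theorem proj_map_eq_top_of_big (G : Subgroup SL(2, F)) (F₀ : Subfield F) {r : ℕ} (hr : r.Prime)
    (hq : Nat.card F = Nat.card F₀ ^ r) (S : AddSubgroup F)
    (hS0 : ∀ c ∈ F₀, ∀ s ∈ S, c * s ∈ S) (h61 : 61 ≤ Nat.card S)
    (hp3 : ringChar F ^ 3 ≤ Nat.card S) (hlt : Nat.card F₀ < Nat.card S)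
    {β : F} (hβ : β ≠ 0) (hlow : ∀ s ∈ S, loSL s ∈ G) (hup : H39.upSL β ∈ G) :
    G.map H39.proj = ⊤ := by
  set p := ringChar F with hpdef
  haveI : CharP F p := ringChar.charP F
  haveI hpf : Fact p.Prime := ⟨CharP.char_is_prime F p⟩
  set H := G.map H39.proj with hH
  let S' : Subgroup (Multiplicative F) := AddSubgroup.toSubgroup S
  set E := S'.map loHom with hE
  have hEH : E ≤ H := by
    rintro _ ⟨s, hs, rfl⟩
    exact ⟨_, hlow s.toAdd hs, rfl⟩
  have hEcard : Nat.card E = Nat.card S := by
    rw [hE, Subgroup.card_map_of_injective loHom_injective]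
    exact Nat.card_congr (Multiplicative.toAdd.subtypeEquiv fun a => Iff.rfl)
  have hEexp : ∀ x ∈ E, x ^ p = 1 := by
    rintro _ ⟨s, -, rfl⟩
    rw [← map_pow]
    have : s ^ p = 1 := by
      apply Multiplicative.toAdd.injective
      rw [toAdd_pow, toAdd_one, nsmul_eq_mul, CharP.cast_eq_zero, zero_mul]
    rw [this, map_one]
  have hsmall : ¬ Nat.card S ≤ 2 * p := by
    intro h
    have h2 := hpf.out.two_le
    have := Nat.mul_le_mul_left p (Nat.mul_le_mul h2 h2)
    have e : p ^ 3 = p * (p * p) := by ring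
    nlinarith
  have hEin : Nat.card (E.subgroupOf H) = Nat.card S := by
    rw [Nat.card_congr (Subgroup.subgroupOfEquivOfLe hEH).toEquiv, hEcard]
  have hEexp' : ∀ x ∈ E.subgroupOf H, x ^ p = 1 := fun x hx => Subtype.ext (by
    rw [Subgroup.coe_pow, Subgroup.coe_one]; exact hEexp _ (Subgroup.mem_subgroupOf.1 hx))
  have hle60 : ∀ (X : Type) [Finite X], Nonempty (H ≃ X) → Nat.card X ≤ 60 → False := by
    rintro X _ ⟨e⟩ hX
    have h1 := Subgroup.card_le_card_group (E.subgroupOf H)
    rw [hEin, Nat.card_congr e] at h1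
    omega
  cases H39.dickson p H with
  | cyclic hc hk =>
    have := card_le_of_cyclic hpf.out.pos _ hEexp'
    omega
  | dihedral k hc hk =>
    exfalso
    obtain ⟨e⟩ := hc
    haveI : Finite (DihedralGroup k) := Finite.of_equiv _ e.toEquiv
    set E' := (E.subgroupOf H).map e.toMonoidHom with hE'
    let C := Subgroup.zpowers (DihedralGroup.r (1 : ZMod k))
    have hC : C.index ≤ 2 := by
      have h0 : k ≠ 0 := by
        rintro rfl
        exact not_finite (DihedralGroup 0)
      haveI : NeZero k := ⟨h0⟩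
      have := C.card_mul_index
      rw [Nat.card_zpowers, DihedralGroup.orderOf_r_one, DihedralGroup.nat_card] at this
      have hk0 : 0 < k := Nat.pos_of_ne_zero h0
      nlinarith
    have hCn : C.index ≠ 0 := Subgroup.index_ne_zero_of_finite
    have h1 : Nat.card (E' ⊓ C : Subgroup _) ≤ p := by
      rw [← Nat.card_congr (Subgroup.subgroupOfEquivOfLe (inf_le_right (a := E') (b := C))).toEquiv]
      refine card_le_of_cyclic hpf.out.pos _ fun x hx => Subtype.ext ?_
      obtain ⟨y, hy, hyx⟩ := (Subgroup.mem_inf.1 (Subgroup.mem_subgroupOf.1 hx)).1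
      rw [Subgroup.coe_pow, Subgroup.coe_one, ← hyx, MulEquiv.coe_toMonoidHom, ← map_pow,
        hEexp' y hy, map_one]
    have h2 : C.relIndex E' ≤ 2 := by
      refine le_trans ?_ hC
      rw [← Subgroup.relIndex_top_right]
      exact Subgroup.relIndex_le_of_le_right le_top (by rwa [Subgroup.relIndex_top_right])
    have h3 : Nat.card E' = Nat.card (E' ⊓ C : Subgroup _) * C.relIndex E' := by
      have hh := Subgroup.relIndex_mul_index (inf_le_left : E' ⊓ C ≤ E')
      have hi : (E' ⊓ C).relIndex E' = C.relIndex E' := by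
        rw [inf_comm]; exact Subgroup.inf_relIndex_right C E'
      rw [hi] at hh
      have a := E'.card_mul_index
      have b := (E' ⊓ C).card_mul_index
      rw [← a, ← hh, ← mul_assoc] at b
      exact (Nat.eq_of_mul_eq_mul_right (Nat.pos_of_ne_zero Subgroup.index_ne_zero_of_finite) b).symm
    have h4 : Nat.card E' = Nat.card S := by
      rw [hE', Subgroup.card_map_of_injective e.injective, hEin]
    have := Nat.mul_le_mul h1 h2
    omega
  | borel P h hz =>
    exfalso
    obtain ⟨s, hs, hs0⟩ : ∃ s ∈ S, s ≠ 0 := by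
      by_contra hc
      push Not at hc
      have : S = ⊥ := (AddSubgroup.eq_bot_iff_forall S).2 hc
      rw [this, AddSubgroup.card_bot] at h61
      omega
    have key : ∀ g ∈ G, H39.cjSL P g 1 0 = 0 := fun g hg =>
      H39.proj_mem_borelP.1 (h ⟨_, ⟨g, hg, rfl⟩, by
        rw [MulEquiv.coe_toMonoidHom, H39.cjP_proj]⟩)
    set A := (P : Matrix (Fin 2) (Fin 2) F) with hA
    set B := ((P⁻¹ : GL (Fin 2) F) : Matrix (Fin 2) (Fin 2) F) with hB
    have h1 : (A * !![1, 0; s, 1] * B) 1 0 = 0 := key _ (hlow s hs)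
    have h2 : (A * !![1, β; 0, 1] * B) 1 0 = 0 := key _ hup
    have hAB : A * B = 1 := by rw [hA, hB, ← Units.val_mul, mul_inv_cancel, Units.val_one]
    have e10 := congrFun (congrFun hAB 1) 0
    have e00 := congrFun (congrFun hAB 0) 0
    have e11 := congrFun (congrFun hAB 1) 1
    simp [Matrix.mul_apply, Fin.sum_univ_two, Matrix.one_apply] at h1 h2 e10 e00 e11
    have k1 : A 1 1 * B 0 0 = 0 := by
      have : s * (A 1 1 * B 0 0) = 0 := by linear_combination h1 - e10
      exact (mul_eq_zero.1 this).resolve_left hs0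
    have k2 : A 1 0 * B 1 0 = 0 := by
      have : β * (A 1 0 * B 1 0) = 0 := by linear_combination h2 - e10
      exact (mul_eq_zero.1 this).resolve_left hβ
    rcases mul_eq_zero.1 k1 with hA11 | hB00
    · rcases mul_eq_zero.1 k2 with hA10 | hB10
      · exact one_ne_zero (α := F) (by rw [← e11, hA10, hA11]; ring)
      · rw [hA11, hB10] at e10
        simp at e10
        rcases e10 with hA10 | hB00
        · exact one_ne_zero (α := F) (by rw [← e11, hA10, hA11]; ring)
        · exact one_ne_zero (α := F) (by rw [← e00, hB00, hB10]; ring)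
    · rcases mul_eq_zero.1 k2 with hA10 | hB10
      · rw [hA10, hB00] at e10
        simp at e10
        rcases e10 with hA11 | hB10
        · exact one_ne_zero (α := F) (by rw [← e11, hA10, hA11]; ring)
        · exact one_ne_zero (α := F) (by rw [← e00, hB00, hB10]; ring)
      · exact one_ne_zero (α := F) (by rw [← e00, hB00, hB10]; ring)
  | a4 h =>
    obtain ⟨e⟩ := h
    exact (hle60 _ ⟨e.toEquiv⟩ (by rw [Nat.card_eq_fintype_card]; decide)).elim
  | s4 h =>
    obtain ⟨e⟩ := h
    exact (hle60 _ ⟨e.toEquiv⟩ (by simp [Fintype.card_perm, Nat.factorial])).elim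
  | a5 h =>
    obtain ⟨e⟩ := h
    exact (hle60 _ ⟨e.toEquiv⟩ (by
      rw [nat_card_alternatingGroup, Nat.card_eq_fintype_card, Fintype.card_fin]
      norm_num [Nat.factorial])).elim
  | field P K hPK he =>
    have hsq : ∀ g ∈ G, (Matrix.trace (g : Matrix (Fin 2) (Fin 2) F)) ^ 2 ∈ K := by
      intro g hg
      obtain ⟨h, hh, l, hl, hlK⟩ := hPK ⟨_, ⟨g, hg, rfl⟩, rfl⟩
      rw [MulEquiv.coe_toMonoidHom, H39.cjP_proj] at hh
      have htr : Matrix.trace (g : Matrix (Fin 2) (Fin 2) F) =
          Matrix.trace (H39.cjSL P g : Matrix (Fin 2) (Fin 2) F) :=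
        (Matrix.trace_units_conj P _).symm
      have hl2 : l * l ∈ K := by
        have hd := h.2
        rw [Matrix.det_fin_two] at hd
        have : l * l = (l * h 0 0) * (l * h 1 1) - (l * h 0 1) * (l * h 1 0) := by
          linear_combination (-(l * l)) * hd
        rw [this]
        exact sub_mem (mul_mem (hlK 0 0) (hlK 1 1)) (mul_mem (hlK 0 1) (hlK 1 0))
      have hsum : l * (h 0 0 + h 1 1) ∈ K := by rw [mul_add]; exact add_mem (hlK 0 0) (hlK 1 1)
      have : (Matrix.trace (g : Matrix (Fin 2) (Fin 2) F)) ^ 2 =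
          (l * (h 0 0 + h 1 1)) * (l * (h 0 0 + h 1 1)) / (l * l) := by
        rw [htr]
        rcases H39.proj_eq_proj_iff.1 hh with h' | h'
        · rw [h', Matrix.trace_fin_two]
          field_simp
        · rw [h', Matrix.SpecialLinearGroup.coe_neg, Matrix.trace_neg, Matrix.trace_fin_two]
          field_simp
      rw [this]
      exact div_mem (mul_mem hsum hsum) hl2
    have hprod : ∀ s ∈ S, (2 + s * β) ^ 2 ∈ K := by
      intro s hs
      have := hsq _ (mul_mem hup (hlow s hs))
      rw [Matrix.trace_fin_two, Matrix.SpecialLinearGroup.coe_mul, coe_loSL, H39.coe_upSL] at this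
      simp [Matrix.mul_apply, Fin.sum_univ_two] at this
      convert this using 1
      ring
    have htwo : (2 : F) ∈ K := by
      have := add_mem (one_mem K) (one_mem K)
      rwa [one_add_one_eq_two] at this
    have hmem : ∀ s ∈ S, s * β ∈ K := by
      intro s hs
      by_cases h2 : (2 : F) = 0
      · have hc2 : (s * β) ^ 2 ∈ K := by simpa [h2] using hprod s hs
        haveI hF2 : CharP F 2 := CharTwo.of_one_ne_zero_of_two_eq_zero one_ne_zero h2
        haveI : CharP K 2 := RingHom.charP (K.subtype) K.subtype.injective 2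
        obtain ⟨y, hy⟩ :=
          (Finite.injective_iff_bijective.1 (frobenius_inj K 2)).2 ⟨_, hc2⟩
        have hy' : (y : F) ^ 2 = (s * β) ^ 2 := congrArg Subtype.val hy
        have : (y : F) = s * β := by
          have : ((y : F) - s * β) ^ 2 = 0 := by
            linear_combination hy' + ((s * β) ^ 2 - (y : F) * (s * β)) * h2
          simpa [sub_eq_zero] using pow_eq_zero_iff (two_ne_zero) |>.1 this
        rw [← this]
        exact y.2
      · have hp2 := hprod (s + s) (add_mem hs hs)
        have hp1 := hprod s hs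
        -- (2+2x)^2 = 4(2+x)^2 - 8(...) : recover x
        have hx2 : (s * β) ^ 2 ∈ K := by
          have e : (s * β) ^ 2 = ((2 + (s + s) * β) ^ 2 - 2 * (2 + s * β) ^ 2 + 2 * 2) / 2 := by
            field_simp
            ring
          rw [e]
          exact div_mem (add_mem (sub_mem hp2 (mul_mem htwo hp1)) (mul_mem htwo htwo)) htwo
        have e : s * β = ((2 + s * β) ^ 2 - (s * β) ^ 2 - 2 * 2) / (2 * 2) := by
          field_simp
          ring
        rw [e]
        exact div_mem (sub_mem (sub_mem hp1 hx2) (mul_mem htwo htwo)) (mul_mem htwo htwo)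
    have hF0K : F₀ ≤ K := by
      intro c hc
      obtain ⟨s, hs, hs0⟩ : ∃ s ∈ S, s ≠ 0 := by
        by_contra hc
        push Not at hc
        have : S = ⊥ := (AddSubgroup.eq_bot_iff_forall S).2 hc
        rw [this, AddSubgroup.card_bot] at h61
        omega
      have : c = (c * s * β) / (s * β) := by field_simp
      rw [this]
      exact div_mem (hmem _ (hS0 c hc s hs)) (hmem s hs)
    have hSK : Nat.card S ≤ Nat.card K :=
      Nat.card_le_card_of_injective (fun s : S => (⟨_, hmem s s.2⟩ : K)) fun a b h =>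
        Subtype.ext (mul_right_cancel₀ hβ (congrArg Subtype.val h))
    have hK : K = ⊤ := subfield_eq_top_of_lt hr hq hF0K (lt_of_lt_of_le hlt hSK)
    subst hK
    refine Subgroup.eq_top_of_le_card _ ?_
    haveI : Fintype (⊤ : Subfield F) := Fintype.ofFinite _
    rcases he with ⟨⟨e⟩⟩ | ⟨⟨e⟩⟩
    · rw [Nat.card_congr e.toEquiv,
        Nat.card_congr (H39.pglCongr (F := (⊤ : Subfield F)) (K := F) Subfield.topEquiv).toEquiv,
        H39.card_PGL2]
      calc _ ≤ Nat.gcd 2 (Fintype.card F - 1) *
            Nat.card (Matrix.ProjectiveSpecialLinearGroup (Fin 2) F) :=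
          Nat.le_mul_of_pos_left _ (Nat.gcd_pos_of_pos_left _ two_pos)
        _ = _ := H39.card_PSL2_mul
    · rw [Nat.card_congr e.toEquiv,
        Nat.card_congr (H39.pslCongr (F := (⊤ : Subfield F)) (K := F) Subfield.topEquiv).toEquiv]

end H38
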