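import Cfsg.Agent.H38.StdForms
import Cfsg.Agent.H38.FieldTransport

/-! `SO_3(3) ≅ S_4`: the action on the four singular points. -/

set_option autoImplicit false

namespace H38

open Matrix

/-- Representatives of the four singular points. -/
def singPts : Fin 4 → Unit ⊕ (Fin 1 ⊕ Fin 1) → ZMod 3 :=
  ![Sum.elim (fun _ => 0) (Sum.elim (fun _ => 1) (fun _ => 0)),
    Sum.elim (fun _ => 0) (Sum.elim (fun _ => 0) (fun _ => 1)),
    Sum.elim (fun _ => 1) (Sum.elim (fun _ => 1) (fun _ => -1)),
    Sum.elim (fun _ => 1) (Sum.elim (fun _ => -1) (fun _ => 1))]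

/-- Equality up to sign. -/
def UpToSign {ι : Type} (v w : ι → ZMod 3) : Prop := v = w ∨ v = -w

theorem singPts_sing : ∀ i, Cfsg.quadFormOdd 1 (ZMod 3) (singPts i) = 0 ∧ singPts i ≠ 0 := by
  decide

theorem singPts_complete : ∀ v : Unit ⊕ (Fin 1 ⊕ Fin 1) → ZMod 3,
    v ≠ 0 → Cfsg.quadFormOdd 1 (ZMod 3) v = 0 → ∃ i, v = singPts i ∨ v = -singPts i := by
  decide

theorem singPts_inj : ∀ i j, (singPts i = singPts j ∨ singPts i = -singPts j) → i = j := by decide

theorem singPts_pairs : ∀ i j, i ≠ j →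
    Cfsg.quadFormOdd 1 (ZMod 3) (singPts i + singPts j) ≠ 0 ∧
      Cfsg.quadFormOdd 1 (ZMod 3) (singPts i - singPts j) ≠
        Cfsg.quadFormOdd 1 (ZMod 3) (singPts i + singPts j) := by
  decide

theorem singPts_span : ∀ v : Unit ⊕ (Fin 1 ⊕ Fin 1) → ZMod 3,
    ∃ a b c : ZMod 3, v = a • singPts 0 + b • singPts 1 + c • singPts 2 := by
  decide

variable (g : Cfsg.isometryGroup (ZMod 3) (Cfsg.quadFormOdd 1 (ZMod 3)))

/-- The matrix of an isometry. -/
def isoMat : Matrix (Unit ⊕ (Fin 1 ⊕ Fin 1)) (Unit ⊕ (Fin 1 ⊕ Fin 1)) (ZMod 3) :=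
  ((g : GL (Unit ⊕ (Fin 1 ⊕ Fin 1)) (ZMod 3)) : Matrix _ _ (ZMod 3))

theorem isoMat_mul (h : Cfsg.isometryGroup (ZMod 3) (Cfsg.quadFormOdd 1 (ZMod 3))) :
    isoMat (g * h) = isoMat g * isoMat h := rfl

theorem exists_image (i : Fin 4) : ∃ j, UpToSign (isoMat g *ᵥ singPts i) (singPts j) := by
  refine singPts_complete _ (fun h => (singPts_sing i).2 ?_) ?_
  · have h' := congrArg (isoMat g⁻¹ *ᵥ ·) h
    simp only [Matrix.mulVec_mulVec, ← isoMat_mul, inv_mul_cancel, Matrix.mulVec_zero] at h'
    rw [show isoMat (1 : Cfsg.isometryGroup (ZMod 3) (Cfsg.quadFormOdd 1 (ZMod 3))) = 1 from rfl,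
      Matrix.one_mulVec] at h'
    exact h'
  · exact ((mem_isometryGroup'.mp g.2) _).trans (singPts_sing i).1

/-- The induced map on points. -/
noncomputable def ptImage (i : Fin 4) : Fin 4 := (exists_image g i).choose

theorem ptImage_spec (i : Fin 4) : UpToSign (isoMat g *ᵥ singPts i) (singPts (ptImage g i)) :=
  (exists_image g i).choose_spec

theorem ptImage_eq {i j : Fin 4} (h : UpToSign (isoMat g *ᵥ singPts i) (singPts j)) : ptImage g i = j := by
  refine singPts_inj _ _ ?_
  rcases ptImage_spec g i with e | e <;> rcases h with f | f <;> rw [e] at f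
  · exact Or.inl f
  · exact Or.inr f
  · exact Or.inr (neg_eq_iff_eq_neg.mp f)
  · exact Or.inl (neg_inj.mp f)

theorem ptImage_one (i : Fin 4) :
    ptImage (1 : Cfsg.isometryGroup (ZMod 3) (Cfsg.quadFormOdd 1 (ZMod 3))) i = i :=
  ptImage_eq _ (Or.inl (by
    rw [show isoMat (1 : Cfsg.isometryGroup (ZMod 3) (Cfsg.quadFormOdd 1 (ZMod 3))) = 1 from rfl,
      Matrix.one_mulVec]))

theorem ptImage_mul (h : Cfsg.isometryGroup (ZMod 3) (Cfsg.quadFormOdd 1 (ZMod 3))) (i : Fin 4) :
    ptImage (g * h) i = ptImage g (ptImage h i) := by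
  apply ptImage_eq
  rw [isoMat_mul, ← Matrix.mulVec_mulVec]
  rcases ptImage_spec h i with e | e <;> rcases ptImage_spec g (ptImage h i) with f | f <;>
    simp [UpToSign, e, f, Matrix.mulVec_neg]

/-- The action on the four points. -/
noncomputable def ptPerm : Cfsg.isometryGroup (ZMod 3) (Cfsg.quadFormOdd 1 (ZMod 3)) →* Equiv.Perm (Fin 4) where
  toFun g :=
    { toFun := ptImage g
      invFun := ptImage g⁻¹
      left_inv := fun i => by rw [← ptImage_mul, inv_mul_cancel, ptImage_one]
      right_inv := fun i => by rw [← ptImage_mul, mul_inv_cancel, ptImage_one] }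
  map_one' := Equiv.ext ptImage_one
  map_mul' g h := Equiv.ext fun i => ptImage_mul g h i

/-- An isometry fixing the four points is `± 1`. -/
theorem ptPerm_ker (h : ptPerm g = 1) : isoMat g = 1 ∨ isoMat g = -1 := by
  have hs : ∀ i, UpToSign (isoMat g *ᵥ singPts i) (singPts i) := fun i => by
    have := ptImage_spec g i
    rwa [show ptImage g i = i from Equiv.congr_fun h i] at this
  have hpair : ∀ i j, i ≠ j → isoMat g *ᵥ singPts i = singPts i →
      isoMat g *ᵥ singPts j = singPts j := fun i j hij hi => by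
    rcases hs j with e | e
    · exact e
    · exfalso
      have := (mem_isometryGroup'.mp g.2) (singPts i + singPts j)
      change Cfsg.quadFormOdd 1 (ZMod 3) (isoMat g *ᵥ (singPts i + singPts j)) = _ at this
      rw [Matrix.mulVec_add, hi, e, ← sub_eq_add_neg] at this
      exact (singPts_pairs i j hij).2 this
  by_cases h0 : isoMat g *ᵥ singPts 0 = singPts 0
  · left
    refine Matrix.toLin'.injective (LinearMap.ext fun v => ?_)
    obtain ⟨a, b, c, rfl⟩ := singPts_span v
    simp only [map_add, map_smul, Matrix.toLin'_apply, h0, hpair 0 1 (by decide) h0,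
      hpair 0 2 (by decide) h0, Matrix.one_mulVec]
  · right
    have hneg : ∀ i, isoMat g *ᵥ singPts i = -singPts i := fun i => by
      rcases hs i with e | e
      · exfalso
        by_cases hi : i = 0
        · exact h0 (hi ▸ e)
        · exact h0 (hpair i 0 hi e)
      · exact e
    refine Matrix.toLin'.injective (LinearMap.ext fun v => ?_)
    obtain ⟨a, b, c, rfl⟩ := singPts_span v
    simp only [map_add, map_smul, Matrix.toLin'_apply, hneg, Matrix.neg_mulVec, Matrix.one_mulVec]

end H38
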