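import Cfsg.Agent.H38.TvAlg
import Cfsg.Agent.H38.SL2BigUnip

/-!
A group containing the transvections over a subfield of prime codegree and one other contains `SL`.
-/

set_option autoImplicit false

namespace H38

open Matrix
open scoped MatrixGroups

variable {ι : Type*} [Fintype ι] [DecidableEq ι] {F : Type*} [Field F]
variable {F₀ : Subfield F} {M : Subgroup (GL ι F)}

/-- All entries in the subfield. -/
def RatVec (F₀ : Subfield F) (v : ι → F) : Prop := ∀ i, v i ∈ F₀

theorem ratVec_single (i : ι) {c : F} (hc : c ∈ F₀) : RatVec F₀ (Pi.single i c) := fun j => by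
  by_cases h : j = i
  · subst h; rwa [Pi.single_eq_same]
  · rw [Pi.single_eq_of_ne h]; exact F₀.zero_mem

/-- Elementary transvection in `M`. -/
abbrev El (M : Subgroup (GL ι F)) (i j : ι) (c : F) : Prop :=
  Tv M (Pi.single i 1) (Pi.single j c)

theorem el_comm {i j k : ι} {s t : F} (hik : i ≠ k) (h : El M i j s) (h' : El M j k t) :
    El M i k (s * t) := by
  have := tv_comm h h' (by simp [hik])
  rw [dotProduct_single, Pi.single_eq_same, mul_one, ← Pi.single_smul, smul_eq_mul] at this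
  exact this

theorem exists_notMem_pair (h5 : 5 ≤ Fintype.card ι) (a b c : ι) :
    ∃ m : ι, m ≠ a ∧ m ≠ b ∧ m ≠ c := by
  have h : ({a, b, c} : Finset ι).card < (Finset.univ : Finset ι).card := by
    refine lt_of_le_of_lt Finset.card_le_three ?_
    rw [Finset.card_univ]
    omega
  obtain ⟨m, -, hm⟩ := Finset.exists_mem_notMem_of_card_lt_card h
  simp only [Finset.mem_insert, Finset.mem_singleton, not_or] at hm
  exact ⟨m, hm⟩

variable [Finite F]

theorem el_all_of_el {r : ℕ} (hr : r.Prime) (hq : Nat.card F = Nat.card F₀ ^ r)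
    (h5 : 5 ≤ Fintype.card ι)
    (hrat : ∀ v φ : ι → F, RatVec F₀ v → RatVec F₀ φ → φ ⬝ᵥ v = 0 → Tv M v φ)
    {i0 j0 : ι} (hij : i0 ≠ j0) {s : F} (hs : s ∉ F₀) (h : El M i0 j0 s) :
    ∀ i j : ι, i ≠ j → ∀ c : F, El M i j c := by
  have hone : ∀ i j : ι, i ≠ j → ∀ c ∈ F₀, El M i j c := fun i j hne c hc =>
    hrat _ _ (ratVec_single i F₀.one_mem) (ratVec_single j hc) (by simp [hne])
  have hrow : ∀ k, k ≠ i0 → El M i0 k s := by
    intro k hk
    rcases eq_or_ne k j0 with rfl | hk'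
    · exact h
    · simpa using el_comm hk.symm h (hone j0 k hk'.symm 1 F₀.one_mem)
  have hoff : ∀ i k, i ≠ k → k ≠ i0 → El M i k s := by
    intro i k hik hk
    rcases eq_or_ne i i0 with rfl | hi
    · exact hrow k hk
    · simpa using el_comm hik (hone i i0 hi 1 F₀.one_mem) (hrow k hk)
  have hall : ∀ i k, i ≠ k → El M i k s := by
    intro i k hik
    rcases eq_or_ne k i0 with rfl | hk
    · obtain ⟨m, hm1, hm2, -⟩ := exists_notMem_pair h5 i k i
      simpa using el_comm hik (hoff i m hm1.symm hm2) (hone m k hm2 1 F₀.one_mem)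
    · exact hoff i k hik hk
  haveI : Fintype F := Fintype.ofFinite F
  let T : Subring F :=
    { carrier := {c | ∀ i j : ι, i ≠ j → El M i j c}
      one_mem' := fun i j hne => hone i j hne 1 F₀.one_mem
      mul_mem' := fun {a b} ha hb i j hne => by
        obtain ⟨m, hm1, hm2, -⟩ := exists_notMem_pair h5 i j i
        exact el_comm hne (ha i m hm1.symm) (hb m j hm2)
      zero_mem' := fun i j hne => hone i j hne 0 F₀.zero_mem
      add_mem' := fun {a b} ha hb i j hne => by
        have := tv_add (ha i j hne) (hb i j hne)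
        rwa [← Pi.single_add] at this
      neg_mem' := fun {a} ha i j hne => by
        have := tv_neg (ha i j hne)
        rwa [← Pi.single_neg] at this }
  have hinv : ∀ a ∈ T, a⁻¹ ∈ T := by
    intro a ha
    by_cases h0 : a = 0
    · rw [h0, _root_.inv_zero]; exact T.zero_mem
    · have hq2 : 2 ≤ Fintype.card F := Fintype.one_lt_card
      have : a⁻¹ = a ^ (Fintype.card F - 2) := by
        refine inv_eq_of_mul_eq_one_right ?_
        rw [← pow_succ', show Fintype.card F - 2 + 1 = Fintype.card F - 1 by omega]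
        exact FiniteField.pow_card_sub_one_eq_one a h0
      rw [this]
      exact pow_mem ha _
  let K : Subfield F := { T with inv_mem' := hinv }
  have hle : F₀ ≤ K := fun c hc i j hne => hone i j hne c hc
  have hlt : Nat.card F₀ < Nat.card K := by
    rcases (Nat.card_le_card_of_injective _ (Set.inclusion_injective hle)).lt_or_eq with h | h
    · exact h
    · exfalso
      apply hs
      have : (F₀ : Set F) = K := Set.eq_of_subset_of_ncard_le hle (by
        rw [← Nat.card_coe_set_eq, ← Nat.card_coe_set_eq]; exact h.ge) (Set.toFinite _)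
      rw [← SetLike.mem_coe, this]
      exact hall
  have htop := subfield_eq_top_of_lt hr hq hle hlt
  intro i j hne c
  have : c ∈ K := htop ▸ Subfield.mem_top c
  exact this i j hne

theorem sl_le_of_rat_centre {r : ℕ} (hr : r.Prime) (hq : Nat.card F = Nat.card F₀ ^ r)
    (h5 : 5 ≤ Fintype.card ι)
    (hrat : ∀ v φ : ι → F, RatVec F₀ v → RatVec F₀ φ → φ ⬝ᵥ v = 0 → Tv M v φ)
    {v φ : ι → F} (hv : RatVec F₀ v) (hv0 : v ≠ 0) (hφ : ¬ RatVec F₀ φ) (h : Tv M v φ)
    (g : GL ι F) (hg : (g : Matrix ι ι F).det = 1) : g ∈ M := by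
  haveI : Nontrivial ι := Fintype.one_lt_card_iff_nontrivial.1 (by omega)
  simp only [RatVec, not_forall] at hφ
  obtain ⟨k, hk⟩ := hφ
  obtain ⟨p0, hp0⟩ := Function.ne_iff.1 hv0
  obtain ⟨m, l, χ, hχ, hχk, hχv, hχm, hsupp⟩ : ∃ (m l : ι) (χ : ι → F), RatVec F₀ χ ∧ χ k = 0 ∧
      χ ⬝ᵥ v = 0 ∧ χ m ≠ 0 ∧ ∀ i, i ≠ m → i ≠ l → χ i = 0 := by
    by_cases hz : ∃ m, m ≠ k ∧ v m = 0
    · obtain ⟨m, hmk, hm⟩ := hz
      refine ⟨m, m, Pi.single m 1, ratVec_single m F₀.one_mem, Pi.single_eq_of_ne hmk.symm _,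
        by simp [hm], by simp, fun i hi _ => Pi.single_eq_of_ne hi _⟩
    · push Not at hz
      obtain ⟨m, hmk, -, -⟩ := exists_notMem_pair h5 k k k
      obtain ⟨l, hlk, hlm, -⟩ := exists_notMem_pair h5 k m k
      refine ⟨m, l, Pi.single m (v l) - Pi.single l (v m), fun i => ?_, ?_, ?_, ?_, ?_⟩
      · exact sub_mem (ratVec_single m (hv l) i) (ratVec_single l (hv m) i)
      · simp [hmk.symm, hlk.symm]
      · rw [sub_dotProduct, single_dotProduct, single_dotProduct]; ring
      · simp [hlm.symm, hz l hlk]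
      · intro i hi hi'
        simp [hi, hi']
  -- move the axis to a rational one with an irrational scalar
  have h1 : Tv M v (φ k • χ) := by
    have := tv_comm h (hrat _ χ (ratVec_single k F₀.one_mem) hχ (by simp [hχk])) hχv
    rwa [dotProduct_single, mul_one] at this
  obtain ⟨i, hi1, hi2, hi3⟩ := exists_notMem_pair h5 m l p0
  have hχi := hsupp i hi1 hi2
  have h2 : Tv M (Pi.single i 1) (φ k • χ) := by
    have hψ : Tv M (Pi.single i 1) (Pi.single p0 (v p0)⁻¹) :=
      hrat _ _ (ratVec_single i F₀.one_mem) (ratVec_single p0 (F₀.inv_mem (hv p0))) (by simp [hi3])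
    have := tv_comm hψ h1 (by simp [hχi])
    rwa [single_dotProduct, inv_mul_cancel₀ hp0, one_smul] at this
  obtain ⟨j, hj1, hj2, -⟩ := exists_notMem_pair h5 i m i
  have h3 : El M i j (φ k) := by
    have hb : Tv M (Pi.single m (χ m)⁻¹) (Pi.single j 1) :=
      hrat _ _ (ratVec_single m (F₀.inv_mem (hχ m))) (ratVec_single j F₀.one_mem) (by simp [hj2])
    have := tv_comm h2 hb (by simp [hj1])
    rwa [smul_dotProduct, dotProduct_single, mul_inv_cancel₀ hχm, smul_eq_mul, mul_one,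
      ← Pi.single_smul, smul_eq_mul, mul_one] at this
  exact sl_le_of_tv (el_all_of_el hr hq h5 hrat hj1.symm hk h3) g hg

theorem sl_le_of_rat_axis {r : ℕ} (hr : r.Prime) (hq : Nat.card F = Nat.card F₀ ^ r)
    (h5 : 5 ≤ Fintype.card ι)
    (hrat : ∀ v φ : ι → F, RatVec F₀ v → RatVec F₀ φ → φ ⬝ᵥ v = 0 → Tv M v φ)
    {b ψ : ι → F} (hψ : RatVec F₀ ψ) (hψ0 : ψ ≠ 0) (hb : ¬ RatVec F₀ b) (h : Tv M b ψ)
    (g : GL ι F) (hg : (g : Matrix ι ι F).det = 1) : g ∈ M := by
  have hd := sl_le_of_rat_centre (M := M.map (dualHom ι F)) hr hq h5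
    (fun v φ hv hφ h0 => tv_dual.2 (hrat φ (-v) hφ (fun i => neg_mem (hv i))
      (by rw [neg_dotProduct, dotProduct_comm, h0, neg_zero])))
    (v := -ψ) (φ := b) (fun i => neg_mem (hψ i)) (neg_ne_zero.2 hψ0) hb
    (tv_dual.2 (by rwa [neg_neg])) (dualHom ι F g) (by
      rw [dualHom_val, Matrix.det_transpose]
      have hh := congrArg Matrix.det (g.mul_inv)
      rw [Matrix.det_mul, Matrix.det_one, hg, one_mul] at hh
      exact hh)
  rw [mem_map_dualHom, dualHom_dualHom] at hd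
  exact hd

/-- Transvection with axis without rational points. -/
theorem sl_le_of_irrational {r : ℕ} (hr : r.Prime) (hq : Nat.card F = Nat.card F₀ ^ r)
    (h8 : 8 ≤ Fintype.card ι)
    (hrat : ∀ v φ : ι → F, RatVec F₀ v → RatVec F₀ φ → φ ⬝ᵥ v = 0 → Tv M v φ)
    {b ψ : ι → F} (hb : b ≠ 0) (hker : ∀ a, RatVec F₀ a → ψ ⬝ᵥ a = 0 → a = 0)
    (h : Tv M b ψ) (g₁ : GL ι F) (hg₁ : (g₁ : Matrix ι ι F).det = 1) : g₁ ∈ M := by
  classical
  by_contra hcon
  haveI : Fintype F := Fintype.ofFinite F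
  obtain ⟨k, hk⟩ := Function.ne_iff.1 hb
  obtain ⟨l, hlk, -, -⟩ := exists_notMem_pair (by omega) k k k
  have hψl : ψ l ≠ 0 := by
    intro h0
    have := congrFun (hker _ (ratVec_single l F₀.one_mem) (by simp [h0])) l
    simp at this
  set a : ι → F := Pi.single l (ψ l)⁻¹ with ha
  set c : ι → F := Pi.single k 1 - ψ k • a with hc
  have hak : a k = 0 := by rw [ha, Pi.single_eq_of_ne hlk.symm]
  have hψa : ψ ⬝ᵥ a = 1 := by rw [ha, dotProduct_single, mul_inv_cancel₀ hψl]
  have hck : c k = 1 := by simp [hc, hak]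
  have hψc : ψ ⬝ᵥ c = 0 := by
    rw [hc, dotProduct_sub, dotProduct_smul, hψa, dotProduct_single]
    simp
  let Fx : Subgroup (GL ι F) :=
    { carrier := {g | ∀ x, x k = 0 → ψ ⬝ᵥ x = 0 → (g : Matrix ι ι F) *ᵥ x = x}
      one_mem' := fun x _ _ => by simp
      mul_mem' := fun {g g'} hg hg' x h1 h2 => by
        rw [Units.val_mul, ← Matrix.mulVec_mulVec, hg' x h1 h2, hg x h1 h2]
      inv_mem' := fun {g} hg x h1 h2 => by
        have := H49.gl_inv_mulVec g x
        rwa [hg x h1 h2] at this }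
  let ρ : GL ι F → Matrix (Fin 2) (Fin 2) F := fun g =>
    !![((g : Matrix ι ι F) *ᵥ c) k, ((g : Matrix ι ι F) *ᵥ a) k;
       ψ ⬝ᵥ ((g : Matrix ι ι F) *ᵥ c), ψ ⬝ᵥ ((g : Matrix ι ι F) *ᵥ a)]
  have hdec : ∀ g ∈ Fx, ∀ y : ι → F, (g : Matrix ι ι F) *ᵥ y =
      y k • ((g : Matrix ι ι F) *ᵥ c) + (ψ ⬝ᵥ y) • ((g : Matrix ι ι F) *ᵥ a) +
        (y - y k • c - (ψ ⬝ᵥ y) • a) := by
    intro g hg y
    set u := y - y k • c - (ψ ⬝ᵥ y) • a with hu
    have hu' : (g : Matrix ι ι F) *ᵥ u = u := hg u (by simp [hu, hck, hak])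
      (by rw [hu, dotProduct_sub, dotProduct_sub, dotProduct_smul, dotProduct_smul, hψc, hψa]; simp)
    conv_rhs => rw [← hu', ← Matrix.mulVec_smul, ← Matrix.mulVec_smul, ← Matrix.mulVec_add,
      ← Matrix.mulVec_add]
    congr 1
    rw [hu]
    abel
  have hdk : ∀ g ∈ Fx, ∀ y : ι → F, ((g : Matrix ι ι F) *ᵥ y) k =
      y k * ((g : Matrix ι ι F) *ᵥ c) k + (ψ ⬝ᵥ y) * ((g : Matrix ι ι F) *ᵥ a) k := by
    intro g hg y
    rw [hdec g hg y]
    simp [hck, hak]
  have hdψ : ∀ g ∈ Fx, ∀ y : ι → F, ψ ⬝ᵥ ((g : Matrix ι ι F) *ᵥ y) =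
      y k * (ψ ⬝ᵥ ((g : Matrix ι ι F) *ᵥ c)) + (ψ ⬝ᵥ y) * (ψ ⬝ᵥ ((g : Matrix ι ι F) *ᵥ a)) := by
    intro g hg y
    rw [hdec g hg y]
    simp [dotProduct_add, dotProduct_sub, dotProduct_smul, hψc, hψa]
  have hρmul : ∀ g ∈ Fx, ∀ g' : GL ι F, ρ (g * g') = ρ g * ρ g' := by
    intro g hg g'
    simp only [ρ, Units.val_mul, ← Matrix.mulVec_mulVec, Matrix.mul_fin_two]
    rw [hdk g hg ((g' : Matrix ι ι F) *ᵥ c), hdk g hg ((g' : Matrix ι ι F) *ᵥ a),
      hdψ g hg ((g' : Matrix ι ι F) *ᵥ c), hdψ g hg ((g' : Matrix ι ι F) *ᵥ a)]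
    ext i j
    fin_cases i <;> fin_cases j <;> simp <;> ring
  have hρone : ρ 1 = 1 := by
    simp [ρ, hck, hak, hψc, hψa, Matrix.one_fin_two]
  let G : Subgroup SL(2, F) :=
    { carrier := {x | ∃ g : GL ι F, g ∈ M ∧ g ∈ Fx ∧ ρ g = (x : Matrix (Fin 2) (Fin 2) F)}
      one_mem' := ⟨1, M.one_mem, Fx.one_mem, hρone⟩
      mul_mem' := fun {x y} hx hy => by
        obtain ⟨g, hg1, hg2, hg3⟩ := hx
        obtain ⟨g', hg1', hg2', hg3'⟩ := hy
        exact ⟨g * g', mul_mem hg1 hg1', mul_mem hg2 hg2',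
          by rw [hρmul g hg2, hg3, hg3', Matrix.SpecialLinearGroup.coe_mul]⟩
      inv_mem' := fun {x} hx => by
        obtain ⟨g, hg1, hg2, hg3⟩ := hx
        refine ⟨g⁻¹, inv_mem hg1, inv_mem hg2, ?_⟩
        have e : ρ g⁻¹ * (x : Matrix (Fin 2) (Fin 2) F) = 1 := by
          rw [← hg3, ← hρmul _ (inv_mem hg2), inv_mul_cancel, hρone]
        calc ρ g⁻¹ = ρ g⁻¹ * ((x * x⁻¹ : SL(2, F)) : Matrix (Fin 2) (Fin 2) F) := by
              rw [mul_inv_cancel, Matrix.SpecialLinearGroup.coe_one, mul_one]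
          _ = _ := by rw [Matrix.SpecialLinearGroup.coe_mul, ← mul_assoc, e, one_mul] }
  -- the lower unitriangular part
  let S : AddSubgroup F :=
    { carrier := {x | ∃ v, RatVec F₀ v ∧ v k = 0 ∧ ψ ⬝ᵥ v = x}
      zero_mem' := ⟨0, fun _ => F₀.zero_mem, rfl, dotProduct_zero ψ⟩
      add_mem' := fun {x y} hx hy => by
        obtain ⟨v, hv, hvk, rfl⟩ := hx
        obtain ⟨w, hw, hwk, rfl⟩ := hy
        exact ⟨v + w, fun i => add_mem (hv i) (hw i), by simp [hvk, hwk], dotProduct_add ..⟩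
      neg_mem' := fun {x} hx => by
        obtain ⟨v, hv, hvk, rfl⟩ := hx
        exact ⟨-v, fun i => neg_mem (hv i), by simp [hvk], dotProduct_neg ..⟩ }
  have hφ0 : ∀ v : ι → F, v k = 0 → (Pi.single k (1 : F)) ⬝ᵥ v = 0 := fun v hv => by simp [hv]
  have hlow : ∀ x ∈ S, loSL x ∈ G := by
    rintro x ⟨v, hv, hvk, rfl⟩
    obtain ⟨h0, hm⟩ := hrat v _ hv (ratVec_single k F₀.one_mem) (hφ0 v hvk)
    refine ⟨_, hm, ?_, ?_⟩
    · intro y hy _
      rw [H49.tr_mulVec, single_dotProduct, hy, mul_zero, zero_smul, add_zero]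
    · rw [coe_loSL]
      simp only [ρ, H49.tr_mulVec, single_dotProduct, one_mul]
      simp [hck, hak, hvk, hψc, hψa]
  have hup : H39.upSL (b k) ∈ G := by
    obtain ⟨h0, hm⟩ := h
    refine ⟨_, hm, ?_, ?_⟩
    · intro y _ hy
      rw [H49.tr_mulVec, hy, zero_smul, add_zero]
    · rw [H39.coe_upSL]
      simp only [ρ, H49.tr_mulVec, hψc, hψa]
      simp [hck, hak, hψc, hψa, h0]
  -- sizes
  have hinj : Function.Injective (fun v : ι → F₀ => ψ ⬝ᵥ fun i => (v i : F)) := by
    intro v w hvw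
    have := hker (fun i => (v i : F) - w i) (fun i => sub_mem (v i).2 (w i).2) (by
      have : ψ ⬝ᵥ ((fun i => (v i : F)) - fun i => (w i : F)) = 0 := by
        rw [dotProduct_sub]; exact sub_eq_zero.2 hvw
      exact this)
    funext i
    exact Subtype.ext (sub_eq_zero.1 (congrFun this i))
  set n := Fintype.card ι with hn
  set q₀ := Nat.card F₀ with hq₀
  have hq₀2 : 2 ≤ q₀ := Finite.one_lt_card
  have hle : q₀ ^ n ≤ Nat.card F := by
    have := Nat.card_le_card_of_injective _ hinj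
    rwa [Nat.card_fun, Nat.card_eq_fintype_card (α := ι)] at this
  have hScard : Nat.card S = q₀ ^ (n - 1) := by
    have e : ({i : ι // i ≠ k} → F₀) ≃ S := by
      refine Equiv.ofBijective (fun v => ⟨ψ ⬝ᵥ (fun i => if hi : i = k then 0 else (v ⟨i, hi⟩ : F)),
        _, fun i => ?_, by simp, rfl⟩) ⟨fun v w hvw => ?_, ?_⟩
      · try dsimp only
        split
        · exact F₀.zero_mem
        · exact SetLike.coe_mem _
      · funext i
        have := @hinj (fun j => if hj : j = k then 0 else v ⟨j, hj⟩)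
          (fun j => if hj : j = k then 0 else w ⟨j, hj⟩) (by
            have h' := congrArg Subtype.val hvw
            dsimp only at h' ⊢
            convert h' using 2 <;> funext j <;> split <;> rfl)
        simpa [i.2] using congrFun this i.1
      · rintro ⟨x, v, hv, hvk, rfl⟩
        refine ⟨fun i => ⟨v i, hv i⟩, Subtype.ext ?_⟩
        dsimp only
        congr 1
        funext i
        split
        · next hi => rw [hi, hvk]
        · rfl
    rw [← Nat.card_congr e, Nat.card_fun]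
    congr 1
    rw [Nat.card_eq_fintype_card, Fintype.card_subtype_compl, Fintype.card_subtype_eq]
  have hS0 : ∀ d ∈ F₀, ∀ x ∈ S, d * x ∈ S := by
    rintro d hd x ⟨v, hv, hvk, rfl⟩
    exact ⟨d • v, fun i => mul_mem hd (hv i), by simp [hvk], by rw [dotProduct_smul, smul_eq_mul]⟩
  have hbig : q₀ ^ 6 ≤ Nat.card S := by
    rw [hScard]; exact Nat.pow_le_pow_right (by omega) (by omega)
  have h64 : 2 ^ 6 ≤ q₀ ^ 6 := Nat.pow_le_pow_left hq₀2 6
  have hp3 : ringChar F ^ 3 ≤ Nat.card S := by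
    have hp : ringChar F ≤ q₀ := by
      haveI : Fintype F₀ := Fintype.ofFinite _
      haveI : CharP F₀ (ringChar F) := RingHom.charP F₀.subtype F₀.subtype.injective _
      obtain ⟨e, hprime, he⟩ := FiniteField.card F₀ (ringChar F)
      rw [hq₀, Nat.card_eq_fintype_card, he]
      exact Nat.le_self_pow e.ne_zero _
    calc ringChar F ^ 3 ≤ q₀ ^ 3 := Nat.pow_le_pow_left hp 3
      _ ≤ q₀ ^ 6 := Nat.pow_le_pow_right (by omega) (by norm_num)
      _ ≤ _ := hbig
  have hlt : q₀ < Nat.card S := by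
    calc q₀ = q₀ ^ 1 := (pow_one _).symm
      _ < q₀ ^ 6 := Nat.pow_lt_pow_right (by omega) (by norm_num)
      _ ≤ _ := hbig
  have htop := proj_map_eq_top_of_big G F₀ hr hq S hS0 (by norm_num at h64; omega) hp3 hlt hk
    hlow hup
  -- the torus moves the rational transvections
  have hsq : ∀ s : F, s ≠ 0 → ∀ x ∈ S, (s * s) * x ∈ S := by
    intro s hs x hx
    obtain ⟨v, hv, hvk, rfl⟩ := hx
    let d : SL(2, F) := ⟨!![s⁻¹, 0; 0, s], by simp [Matrix.det_fin_two, hs]⟩
    have hd : H39.proj d ∈ G.map H39.proj := by rw [htop]; exact Subgroup.mem_top _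
    obtain ⟨x, hxG, hxd⟩ := hd
    obtain ⟨g, hgM, hgF, hgρ⟩ := hxG
    obtain ⟨ε, hε, hx'⟩ : ∃ ε : F, ε * ε = 1 ∧
        (x : Matrix (Fin 2) (Fin 2) F) = !![ε * s⁻¹, 0; 0, ε * s] := by
      rcases H39.proj_eq_proj_iff.1 hxd with h' | h'
      · exact ⟨1, one_mul 1, by rw [← h']; simp [d]⟩
      · refine ⟨-1, by ring, ?_⟩
        rw [show x = -d by rw [h', neg_neg], Matrix.SpecialLinearGroup.coe_neg]
        simp [d, Matrix.neg_of, Matrix.neg_cons, Matrix.neg_empty]
    rw [hx'] at hgρ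
    have r00 := congrFun (congrFun hgρ 0) 0
    have r01 := congrFun (congrFun hgρ 0) 1
    have r10 := congrFun (congrFun hgρ 1) 0
    have r11 := congrFun (congrFun hgρ 1) 1
    simp [ρ] at r00 r01 r10 r11
    set φ : ι → F := Pi.single k 1 with hφdef
    have hgv : ∀ y, ((g : Matrix ι ι F) *ᵥ y) k = (ε * s⁻¹) * y k := by
      intro y; rw [hdk g hgF, r00, r01]; ring
    have hinvφ : φ ᵥ* ((g⁻¹ : GL ι F) : Matrix ι ι F) = (ε * s) • φ := by
      apply dotProduct_eq
      intro y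
      rw [← Matrix.dotProduct_mulVec, smul_dotProduct, hφdef, single_dotProduct, single_dotProduct,
        one_mul, one_mul, smul_eq_mul]
      have := hgv (((g⁻¹ : GL ι F) : Matrix ι ι F) *ᵥ y)
      rw [H49.gl_mulVec_inv] at this
      rw [this]
      field_simp
      linear_combination (-(((g⁻¹ : GL ι F) : Matrix ι ι F) *ᵥ y) k) * hε
    have hεs : ε * s ≠ 0 := mul_ne_zero (fun h0 => by simp [h0] at hε) hs
    have h4 : Tv M ((ε * s) • ((g : Matrix ι ι F) *ᵥ v)) φ := by
      have := tv_conj hgM (hrat v φ hv (ratVec_single k F₀.one_mem) (hφ0 v hvk))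
      rw [hinvφ] at this
      exact tv_smul' this hεs
    have hw : RatVec F₀ ((ε * s) • ((g : Matrix ι ι F) *ᵥ v)) := by
      by_contra hnr
      refine hcon (sl_le_of_rat_axis hr hq (by omega) hrat (ratVec_single k F₀.one_mem) ?_ hnr h4
        g₁ hg₁)
      intro h0
      have := congrFun h0 k
      simp at this
    refine ⟨_, hw, by simp [hgv, hvk], ?_⟩
    rw [dotProduct_smul, hdψ g hgF, hvk, zero_mul, zero_add, r11, smul_eq_mul]
    linear_combination (s * s * (ψ ⬝ᵥ v)) * hε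
  -- the multipliers of `S` form a subfield
  let T : Subring F :=
    { carrier := {m | ∀ x ∈ S, m * x ∈ S}
      one_mem' := fun x hx => by rwa [one_mul]
      mul_mem' := fun {m m'} hm hm' x hx => by rw [mul_assoc]; exact hm _ (hm' x hx)
      zero_mem' := fun x hx => by rw [zero_mul]; exact S.zero_mem
      add_mem' := fun {m m'} hm hm' x hx => by rw [add_mul]; exact S.add_mem (hm x hx) (hm' x hx)
      neg_mem' := fun {m} hm x hx => by rw [neg_mul]; exact S.neg_mem (hm x hx) }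
  have hinv : ∀ m ∈ T, m⁻¹ ∈ T := by
    intro m hm
    by_cases h0 : m = 0
    · rw [h0, _root_.inv_zero]; exact T.zero_mem
    · have hq2 : 2 ≤ Fintype.card F := Fintype.one_lt_card
      have : m⁻¹ = m ^ (Fintype.card F - 2) := by
        refine inv_eq_of_mul_eq_one_right ?_
        rw [← pow_succ', show Fintype.card F - 2 + 1 = Fintype.card F - 1 by omega]
        exact FiniteField.pow_card_sub_one_eq_one m h0
      rw [this]
      exact pow_mem hm _
  let K : Subfield F := { T with inv_mem' := hinv }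
  have hsqK : ∀ s : F, s * s ∈ K := fun s => by
    by_cases hs : s = 0
    · rw [hs, mul_zero]; exact K.zero_mem
    · exact hsq s hs
  have hKtop : K = ⊤ := by
    rw [eq_top_iff]
    intro y _
    by_cases h2 : (2 : F) = 0
    · haveI : CharP F 2 := CharTwo.of_one_ne_zero_of_two_eq_zero one_ne_zero h2
      obtain ⟨z, hz⟩ := (Finite.injective_iff_bijective.1 (frobenius_inj F 2)).2 y
      rw [← hz, frobenius_def, sq]
      exact hsqK z
    · have e : y = ((y + 1) * (y + 1) - y * y - 1) / (1 + 1) := by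
        rw [one_add_one_eq_two]; field_simp; ring
      rw [e]
      exact div_mem (sub_mem (sub_mem (hsqK _) (hsqK _)) K.one_mem) (add_mem K.one_mem K.one_mem)
  obtain ⟨x, hx, hx0⟩ : ∃ x ∈ S, x ≠ 0 := by
    by_contra hc
    push Not at hc
    rw [(AddSubgroup.eq_bot_iff_forall S).2 hc, AddSubgroup.card_bot] at hbig
    omega
  have hall : Nat.card F ≤ Nat.card S := Nat.card_le_card_of_injective
    (fun m : F => (⟨m * x, (show m ∈ K from hKtop ▸ Subfield.mem_top m) x hx⟩ : S))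
    fun m m' hmm => mul_right_cancel₀ hx0 (congrArg Subtype.val hmm)
  rw [hScard] at hall
  have : q₀ ^ (n - 1) < q₀ ^ n := Nat.pow_lt_pow_right (by omega) (by omega)
  omega

/-- A group containing the transvections over a subfield of prime codegree and another one not
defined over it contains `SL`. -/
theorem sl_le_of_nonrat_tv {r : ℕ} (hr : r.Prime) (hq : Nat.card F = Nat.card F₀ ^ r)
    (h8 : 8 ≤ Fintype.card ι)
    (hrat : ∀ v φ : ι → F, RatVec F₀ v → RatVec F₀ φ → φ ⬝ᵥ v = 0 → Tv M v φ)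
    {b ψ : ι → F} (hnr : ∃ i j, b i * ψ j ∉ F₀) (h : Tv M b ψ)
    (g : GL ι F) (hg : (g : Matrix ι ι F).det = 1) : g ∈ M := by
  obtain ⟨i, j, hij⟩ := hnr
  have hb : b ≠ 0 := fun h0 => hij (by simp [h0])
  have hψ : ψ ≠ 0 := fun h0 => hij (by simp [h0])
  by_cases hker : ∀ a, RatVec F₀ a → ψ ⬝ᵥ a = 0 → a = 0
  · exact sl_le_of_irrational hr hq h8 hrat hb hker h g hg
  push Not at hker
  obtain ⟨a, ha, hψa, ha0⟩ := hker
  by_cases hφ : ∃ φ, RatVec F₀ φ ∧ φ ⬝ᵥ a = 0 ∧ φ ⬝ᵥ b ≠ 0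
  · obtain ⟨φ, hφr, hφa, hφb⟩ := hφ
    have h1 := tv_comm (hrat a φ ha hφr hφa) h hψa
    by_cases hr' : RatVec F₀ ((φ ⬝ᵥ b) • ψ)
    · refine sl_le_of_rat_axis hr hq (by omega) hrat (b := (φ ⬝ᵥ b)⁻¹ • b) hr'
        (smul_ne_zero hφb hψ) (fun hbr => hij ?_) ?_ g hg
      · have := mul_mem (hbr i) (hr' j)
        simp only [Pi.smul_apply, smul_eq_mul] at this
        convert this using 1
        field_simp
      · refine tv_of_trM_eq h (by simp [smul_dotProduct, dotProduct_smul, h.orth]) ?_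
        rw [H49.trM, H49.trM, Matrix.vecMulVec_smul, Matrix.smul_vecMulVec, smul_smul,
          mul_inv_cancel₀ hφb, one_smul]
    · exact sl_le_of_rat_centre hr hq (by omega) hrat ha ha0 hr' h1 g hg
  · push Not at hφ
    obtain ⟨l, hl⟩ := Function.ne_iff.1 ha0
    have key : ∀ m, a l * b m = a m * b l := by
      intro m
      have h0 := hφ (Pi.single m (a l) - Pi.single l (a m))
        (fun i => sub_mem (ratVec_single m (ha l) i) (ratVec_single l (ha m) i))
        (by rw [sub_dotProduct, single_dotProduct, single_dotProduct]; ring)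
      rw [sub_dotProduct, single_dotProduct, single_dotProduct] at h0
      exact sub_eq_zero.1 h0
    have hbe : b = (b l / a l) • a := by
      funext m
      rw [Pi.smul_apply, smul_eq_mul]
      have hl' : a l ≠ 0 := hl
      field_simp
      linear_combination key m
    have hne : b l / a l ≠ 0 := fun h0 => hb (by rw [hbe, h0, zero_smul])
    refine sl_le_of_rat_centre hr hq (by omega) hrat ha ha0 (φ := (b l / a l) • ψ) (fun hr' => hij ?_)
      (tv_smul (hbe ▸ h) hne) g hg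
    rw [hbe]
    simp only [Pi.smul_apply, smul_eq_mul]
    have := mul_mem (ha i) (hr' j)
    simp only [Pi.smul_apply, smul_eq_mul] at this
    convert this using 1
    ring

end H38
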