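import Cfsg.Agent.H51.StabMaxU
import Cfsg.Agent.H38.SL2BigUnip
import Cfsg.Agent.S5639

/-!
Overgroups in `SU` of a symplectic group over the fixed field.
-/

set_option autoImplicit false
set_option linter.unusedSectionVars false

namespace H38

open Matrix Cfsg H50
open scoped MatrixGroups
open H51.StabMax (IsCtr suHom)

namespace SpSU

variable {F : Type*} [Field F] {n q : ℕ}

local notation "V" => (Fin n → F)
local notation "hh" => Cfsg.hermForm n F q

/-- Coordinates in `F₀` for the basis given by the columns of `P`. -/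
def Rt (F₀ : Subfield F) (P : GL (Fin n) F) (v : Fin n → F) : Prop :=
  ∀ i, (((P⁻¹ : GL (Fin n) F) : Matrix (Fin n) (Fin n) F) *ᵥ v) i ∈ F₀

variable {F₀ : Subfield F} {P : GL (Fin n) F}

theorem rt_add {a b : V} (ha : Rt F₀ P a) (hb : Rt F₀ P b) : Rt F₀ P (a + b) := fun i => by
  rw [Matrix.mulVec_add]; exact add_mem (ha i) (hb i)

theorem rt_smul {c : F} (hc : c ∈ F₀) {a : V} (ha : Rt F₀ P a) : Rt F₀ P (c • a) := fun i => by
  rw [Matrix.mulVec_smul]; exact mul_mem hc (ha i)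

theorem rt_sub {a b : V} (ha : Rt F₀ P a) (hb : Rt F₀ P b) : Rt F₀ P (a - b) := fun i => by
  rw [Matrix.mulVec_sub]; exact sub_mem (ha i) (hb i)

theorem rt_mulVec {u : V} (hu : ∀ i, u i ∈ F₀) :
    Rt F₀ P ((P : Matrix (Fin n) (Fin n) F) *ᵥ u) := fun i => by
  rw [H49.gl_inv_mulVec]; exact hu i

theorem rt_zero : Rt F₀ P (0 : V) := fun i => by rw [Matrix.mulVec_zero]; exact F₀.zero_mem

/-- The standard coordinate vectors. -/
abbrev col (P : GL (Fin n) F) (i : Fin n) : Fin n → F :=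
  (P : Matrix (Fin n) (Fin n) F) *ᵥ Pi.single i 1

theorem rt_col (i : Fin n) : Rt F₀ P (col P i) := rt_mulVec fun j => by
  by_cases h : j = i <;> simp [h]

/-- An independent pair of rational orthogonal vectors. -/
structure Pr (F₀ : Subfield F) (P : GL (Fin n) F) (q : ℕ) (a b : Fin n → F) : Prop where
  ra : Rt F₀ P a
  rb : Rt F₀ P b
  orth : hermForm n F q a b = 0
  ind : ∀ c ∈ F₀, b ≠ c • a
  ne : a ≠ 0

variable [Fintype F] (hF : Fintype.card F = q ^ 2) (hcard : Fintype.card F = Nat.card F₀ ^ 2)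
  (halt : ∀ a : Fin n → F, Rt F₀ P a → Cfsg.hermForm n F q a a = 0)
include hF hcard halt

theorem card_F₀ : Nat.card F₀ = q :=
  (Nat.pow_left_injective two_ne_zero) (hcard.symm.trans hF)

theorem mem_F₀_iff (x : F) : x ∈ F₀ ↔ x ^ q = x := by
  haveI : Fintype F₀ := Fintype.ofFinite _
  have hq := card_F₀ (F₀ := F₀) (P := P) hF hcard halt
  have hfw : ∀ x ∈ F₀, x ^ q = x := by
    intro x hx
    have h := FiniteField.pow_card (⟨x, hx⟩ : F₀)
    rw [← Nat.card_eq_fintype_card, hq] at h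
    exact congrArg Subtype.val h
  refine ⟨hfw x, fun hx => ?_⟩
  let K : Subfield F :=
    { carrier := {x | x ^ q = x}
      one_mem' := one_pow q
      mul_mem' := fun {a b} ha hb => by show (a * b) ^ q = a * b; rw [mul_pow, ha, hb]
      zero_mem' := zero_pow (q_ne_zero hF)
      add_mem' := fun {a b} ha hb => by show (a + b) ^ q = a + b; rw [add_pow_q hF, ha, hb]
      neg_mem' := fun {a} ha => by show (-a) ^ q = -a; rw [neg_pow_q hF, ha]
      inv_mem' := fun a ha => by show a⁻¹ ^ q = a⁻¹; rw [inv_pow, ha] }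
  have hle : F₀ ≤ K := fun y hy => hfw y hy
  by_contra hnx
  have hlt : Nat.card F₀ < Nat.card K := by
    rcases (Nat.card_le_card_of_injective _ (Set.inclusion_injective hle)).lt_or_eq with h | h
    · exact h
    · exfalso
      apply hnx
      have : (F₀ : Set F) = K := Set.eq_of_subset_of_ncard_le hle (by
        rw [← Nat.card_coe_set_eq, ← Nat.card_coe_set_eq]; exact h.ge) (Set.toFinite _)
      rw [← SetLike.mem_coe, this]
      exact hx
  have htop := subfield_eq_top_of_lt Nat.prime_two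
    (by rw [Nat.card_eq_fintype_card]; exact hcard) hle hlt
  obtain ⟨d, hd0, hd⟩ := exists_trace_zero_ne_zero hF
  have hdK : d ^ q = d := show d ∈ K from htop ▸ Subfield.mem_top d
  rw [hdK] at hd
  have h2 : (2 : F) = 0 := by
    have : (2 : F) * d = 0 := by rw [two_mul]; exact hd
    exact (mul_eq_zero.1 this).resolve_right hd0
  -- characteristic two: the trace kernel is the fixed field, so take `θ` with trace one
  obtain ⟨θ, hθ⟩ := H50.exists_trace_eq hF (c := (1 : F)) (one_pow q)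
  have hθK : θ ^ q = θ := show θ ∈ K from htop ▸ Subfield.mem_top θ
  rw [hθK] at hθ
  have : (1 : F) = 0 := by linear_combination θ * h2 - hθ
  exact one_ne_zero this

theorem anti_of_rt {a b : V} (ha : Rt F₀ P a) (hb : Rt F₀ P b) :
    hh a b ^ q = - hh a b := by
  have h := halt _ (rt_add ha hb)
  rw [h_add_left, h_add_right hF, h_add_right hF, halt a ha, halt b hb] at h
  rw [← h_symm hF a b]
  linear_combination h

theorem ratio_mem {x y : F} (hx : x ^ q = -x) (hy : y ^ q = -y) : x / y ∈ F₀ := by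
  rw [mem_F₀_iff (P := P) hF hcard halt, div_pow, hx, hy, neg_div_neg_eq]

theorem mul_mem' {x y : F} (hx : x ^ q = -x) (hy : y ^ q = -y) : x * y ∈ F₀ := by
  rw [mem_F₀_iff (P := P) hF hcard halt, mul_pow, hx, hy, neg_mul_neg]

theorem h_col_sep {v : V} (h : ∀ i, hh (col P i) v = 0) : v = 0 := by
  refine eq_zero_of_h_right hF fun u => ?_
  rw [show u = ∑ i, (((P⁻¹ : GL (Fin n) F) : Matrix (Fin n) (Fin n) F) *ᵥ u) i • col P i from ?_]
  · have := fun (s : Finset (Fin n)) (f : Fin n → V) =>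
      map_sum (AddMonoidHom.mk' (fun x : V => hh x v) fun x y => h_add_left x y v) f s
    simp only [AddMonoidHom.mk'_apply] at this
    rw [this]
    exact Finset.sum_eq_zero fun i _ => by rw [h_smul_left, h i, mul_zero]
  · conv_lhs => rw [← H49.gl_mulVec_inv P u]
    conv_lhs => rw [pi_eq_sum_univ' (((P⁻¹ : GL (Fin n) F) : Matrix (Fin n) (Fin n) F) *ᵥ u)]
    rw [Matrix.mulVec_sum]
    exact Finset.sum_congr rfl fun i _ => Matrix.mulVec_smul _ _ _

/-- A rational vector orthogonal to `a` and not to `b`. -/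
theorem exists_rt_sep {a b : V} (h : Pr F₀ P q a b) :
    ∃ x, Rt F₀ P x ∧ hh a x = 0 ∧ hh b x ≠ 0 := by
  obtain ⟨i, hi⟩ : ∃ i, hh (col P i) a ≠ 0 := by
    by_contra hc
    push Not at hc
    exact h.ne (h_col_sep hF hcard halt hc)
  by_contra hc
  push Not at hc
  set A := fun j => hh (col P j) a
  set B := fun j => hh (col P j) b
  have hB : ∀ j, B j = (B i / A i) * A j := by
    intro j
    have hx := hc (col P j + (-(A j / A i)) • col P i)
      (rt_add (rt_col j) (rt_smul (neg_mem (ratio_mem (P := P) hF hcard halt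
        (anti_of_rt hF hcard halt (rt_col j) h.ra) (anti_of_rt hF hcard halt (rt_col i) h.ra)))
        (rt_col i))) ((h_eq_zero_comm hF).1 (by
          rw [h_add_left, h_smul_left]
          show A j + -(A j / A i) * A i = 0
          rw [neg_mul, div_mul_cancel₀ _ hi, add_neg_cancel]))
    rw [h_eq_zero_comm hF, h_add_left, h_smul_left] at hx
    change B j + -(A j / A i) * B i = 0 at hx
    have hi' : A i ≠ 0 := hi
    field_simp at hx ⊢
    linear_combination hx
  have hk : B i / A i ∈ F₀ := ratio_mem (P := P) hF hcard halt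
    (anti_of_rt hF hcard halt (rt_col i) h.rb) (anti_of_rt hF hcard halt (rt_col i) h.ra)
  refine h.ind _ hk (sub_eq_zero.1 (h_col_sep hF hcard halt fun j => ?_))
  rw [h_sub_right hF, h_smul_right hF, (mem_F₀_iff (P := P) hF hcard halt _).1 hk]
  show B j - _ * A j = 0
  rw [hB j, sub_self]

theorem exists_rt_two (hn : 8 ≤ n) (a a' : V) :
    ∃ c, Rt F₀ P c ∧ hh a c = 0 ∧ hh a' c = 0 ∧
      (∀ k ∈ F₀, c ≠ k • a) ∧ (∀ k ∈ F₀, c ≠ k • a') := by
  let T : (Fin n → F₀) →+ F × F := AddMonoidHom.mk'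
    (fun u => (hh a ((P : Matrix (Fin n) (Fin n) F) *ᵥ fun i => (u i : F)),
      hh a' ((P : Matrix (Fin n) (Fin n) F) *ᵥ fun i => (u i : F))))
    fun u w => by
      have : (fun i => ((u + w) i : F)) = (fun i => (u i : F)) + fun i => (w i : F) := rfl
      rw [this, Matrix.mulVec_add, h_add_right hF, h_add_right hF, Prod.mk_add_mk]
  have hq := card_F₀ (F₀ := F₀) (P := P) hF hcard halt
  have hq2 := two_le hF
  have hker : q ^ n ≤ Nat.card T.ker * q ^ 4 := by
    have h1 := AddSubgroup.card_mul_index T.ker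
    rw [AddSubgroup.index_ker, Nat.card_fun, hq, Nat.card_eq_fintype_card (α := Fin n),
      Fintype.card_fin] at h1
    have h2 : Nat.card T.range ≤ q ^ 4 := by
      refine (Nat.card_le_card_of_injective _ Subtype.val_injective).trans_eq ?_
      rw [Nat.card_prod, Nat.card_eq_fintype_card, hF, ← pow_add]
    calc q ^ n = Nat.card T.ker * Nat.card T.range := h1.symm
      _ ≤ _ := Nat.mul_le_mul_left _ h2
  have hbig : 2 * q < Nat.card T.ker := by
    by_contra hlt
    push Not at hlt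
    have h3 : q ^ n ≤ 2 * q * q ^ 4 := hker.trans (Nat.mul_le_mul_right _ hlt)
    have h4 : 2 * q * q ^ 4 < q ^ 8 := by
      calc 2 * q * q ^ 4 ≤ q * q * q ^ 4 := by
            exact Nat.mul_le_mul_right _ (Nat.mul_le_mul_right _ hq2)
        _ = q ^ 6 := by ring
        _ < q ^ 8 := Nat.pow_lt_pow_right (by omega) (by omega)
    have := Nat.pow_le_pow_right (show 1 ≤ q by omega) hn
    omega
  by_contra hc
  push Not at hc
  let L : F₀ ⊕ F₀ → V := Sum.elim (fun k => (k : F) • a) (fun k => (k : F) • a')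
  have hcov : ∀ u ∈ T.ker, ∃ k, L k = (P : Matrix (Fin n) (Fin n) F) *ᵥ fun i => (u i : F) := by
    intro u hu
    rw [AddMonoidHom.mem_ker] at hu
    by_cases h1 : ∀ k ∈ F₀, (P : Matrix (Fin n) (Fin n) F) *ᵥ (fun i => (u i : F)) ≠ k • a
    · obtain ⟨k, hk, he⟩ := hc _ (rt_mulVec fun i => (u i).2) (congrArg Prod.fst hu)
        (congrArg Prod.snd hu) h1
      exact ⟨Sum.inr ⟨k, hk⟩, he.symm⟩
    · push Not at h1
      obtain ⟨k, hk, he⟩ := h1
      exact ⟨Sum.inl ⟨k, hk⟩, he.symm⟩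
  choose g hg using hcov
  have hinj : Function.Injective fun u : T.ker => g u.1 u.2 := by
    intro u w huw
    have h1 := (hg u.1 u.2).symm.trans ((congrArg L huw).trans (hg w.1 w.2))
    have h2 := H49.gl_mulVec_injective P h1
    exact Subtype.ext (funext fun i => Subtype.ext (congrFun h2 i))
  have := Nat.card_le_card_of_injective _ hinj
  rw [Nat.card_sum, hq] at this
  omega

variable {K : Subgroup (SU n F q)} (hK : ∀ v : Fin n → F, Rt F₀ P v → IsCtr K v)
include hK

theorem good_step {θ : F} (hθ0 : θ ≠ 0) {a b b' : V} (h : Pr F₀ P q a b) (h' : Pr F₀ P q a b')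
    (hbb : hh b b' ≠ 0) (hg : IsCtr K (a + θ • b)) : IsCtr K (a + θ • b') := by
  have hw : IsCtr K (b' - b) := hK _ (rt_sub h'.rb h.rb)
  have hanti := anti_of_rt hF hcard halt h.rb h'.rb
  have hc : (hh b b')⁻¹ + (hh b b')⁻¹ ^ q = 0 := by
    rw [inv_pow, hanti, inv_neg, add_neg_cancel]
  have := H51.StabMax.ctr_step hF hg hw hc
  rw [h_add_left, h_smul_left, h_sub_right hF, h_sub_right hF, h'.orth, h.orth,
    halt b h.rb, sub_zero, sub_zero, zero_add, mul_left_comm, inv_mul_cancel₀ hbb, mul_one] at this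
  rwa [show a + θ • b + θ • (b' - b) = a + θ • b' by rw [smul_sub]; abel] at this

theorem good_all_right {θ : F} (hθ0 : θ ≠ 0) {a b b' : V} (h : Pr F₀ P q a b)
    (h' : Pr F₀ P q a b') (hg : IsCtr K (a + θ • b)) : IsCtr K (a + θ • b') := by
  obtain ⟨x, hx, hxa, hxb⟩ := exists_rt_sep hF hcard halt h
  obtain ⟨y, hy, hya, hyb⟩ := exists_rt_sep hF hcard halt h'
  obtain ⟨c, hc, hca, hcb, hcb'⟩ :
      ∃ c, Rt F₀ P c ∧ hh a c = 0 ∧ hh b c ≠ 0 ∧ hh b' c ≠ 0 := by
    by_cases h1 : hh b' x = 0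
    · by_cases h2 : hh b y = 0
      · exact ⟨x + y, rt_add hx hy, by rw [h_add_right hF, hxa, hya, add_zero],
          by rwa [h_add_right hF, h2, add_zero], by rwa [h_add_right hF, h1, zero_add]⟩
      · exact ⟨y, hy, hya, h2, hyb⟩
    · exact ⟨x, hx, hxa, hxb, h1⟩
  have hpr : Pr F₀ P q a c := ⟨h.ra, hc, hca, fun k hk he => hcb (by
    rw [he, h_smul_right hF, (h_eq_zero_comm hF).1 h.orth, mul_zero]), h.ne⟩
  exact good_step hF hcard halt hK hθ0 hpr h' (fun h0 => hcb' ((h_eq_zero_comm hF).1 h0))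
    (good_step hF hcard halt hK hθ0 h hpr hcb hg)

omit hK in
theorem Pr.swap {a b : V} (h : Pr F₀ P q a b) : Pr F₀ P q b a :=
  ⟨h.rb, h.ra, (h_eq_zero_comm hF).1 h.orth, fun c hc he => by
    by_cases hc0 : c = 0
    · exact h.ne (by rw [he, hc0, zero_smul])
    · exact h.ind c⁻¹ (F₀.inv_mem hc) (by rw [he, smul_smul, inv_mul_cancel₀ hc0, one_smul]),
    fun h0 => h.ind 0 F₀.zero_mem (by rw [h0, zero_smul])⟩

theorem good_swap {θ : F} (hθ0 : θ ≠ 0) {a b : V} (hg : IsCtr K (a + θ • b)) :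
    IsCtr K (b + θ⁻¹ • a) := by
  have := H51.StabMax.ctr_smul hF hg θ⁻¹
  rwa [smul_add, smul_smul, inv_mul_cancel₀ hθ0, one_smul, add_comm] at this

theorem good_all (hn : 8 ≤ n) {θ : F} (hθ0 : θ ≠ 0) {a b a' b' : V} (h : Pr F₀ P q a b)
    (h' : Pr F₀ P q a' b') (hg : IsCtr K (a + θ • b)) : IsCtr K (a' + θ • b') := by
  obtain ⟨c, hc, hca, hca', hci, hci'⟩ := exists_rt_two hF hcard halt hn a a' (P := P)
  have h1 : Pr F₀ P q a c := ⟨h.ra, hc, hca, hci, h.ne⟩
  have h2 : Pr F₀ P q a' c := ⟨h'.ra, hc, hca', hci', h'.ne⟩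
  have g1 := good_swap hF hcard halt hK hθ0 (good_all_right hF hcard halt hK hθ0 h h1 hg)
  have g2 := good_all_right hF hcard halt hK (inv_ne_zero hθ0) (Pr.swap hF hcard halt h1)
    (Pr.swap hF hcard halt h2) g1
  have g3 := good_swap hF hcard halt hK (inv_ne_zero hθ0) g2
  rw [inv_inv] at g3
  exact good_all_right hF hcard halt hK hθ0 h2 h' g3

omit hK in
/-- Isotropic vectors as pairs. -/
theorem exists_pair {θ : F} (hθ : θ ∉ F₀) (z : V) (hz : hh z z = 0) :
    (∃ (r : V) (l : F), Rt F₀ P r ∧ z = l • r) ∨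
      ∃ a b, Pr F₀ P q a b ∧ z = a + θ • b := by
  have hθq : θ ^ q ≠ θ := fun h => hθ ((mem_F₀_iff (P := P) hF hcard halt θ).2 h)
  have hinj : Function.Injective fun x : F₀ × F₀ => (x.1 : F) + θ * x.2 := by
    intro x y hxy
    by_cases h2 : (x.2 : F) = y.2
    · have h1 : (x.1 : F) = y.1 := by
        simp only [h2] at hxy
        linear_combination hxy
      exact Prod.ext (Subtype.ext h1) (Subtype.ext h2)
    · exfalso
      apply hθ
      have : θ = ((y.1 : F) - x.1) / ((x.2 : F) - y.2) := by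
        rw [eq_div_iff (sub_ne_zero.2 h2)]
        linear_combination hxy
      rw [this]
      exact div_mem (sub_mem y.1.2 x.1.2) (sub_mem x.2.2 y.2.2)
  have hsurj : Function.Surjective fun x : F₀ × F₀ => (x.1 : F) + θ * x.2 :=
    (hinj.bijective_of_nat_card_le (le_of_eq (by
      rw [Nat.card_prod, Nat.card_eq_fintype_card (α := F), hcard, sq]))).2
  choose d hd using fun i => hsurj ((((P⁻¹ : GL (Fin n) F) : Matrix (Fin n) (Fin n) F) *ᵥ z) i)
  set a := (P : Matrix (Fin n) (Fin n) F) *ᵥ fun i => ((d i).1 : F) with ha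
  set b := (P : Matrix (Fin n) (Fin n) F) *ᵥ fun i => ((d i).2 : F) with hb
  have hra : Rt F₀ P a := rt_mulVec fun i => (d i).1.2
  have hrb : Rt F₀ P b := rt_mulVec fun i => (d i).2.2
  have hzab : z = a + θ • b := by
    rw [ha, hb, ← Matrix.mulVec_smul, ← Matrix.mulVec_add]
    conv_lhs => rw [← H49.gl_mulVec_inv P z]
    congr 1
    funext i
    exact (hd i).symm
  have horth : hh a b = 0 := by
    have h := hz
    rw [hzab, h_add_left, h_add_right hF, h_add_right hF, h_smul_left, h_smul_right hF,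
      h_smul_right hF, h_smul_left, halt a hra, halt b hrb, h_symm hF a b,
      anti_of_rt hF hcard halt hra hrb] at h
    have : (θ ^ q - θ) * hh a b = 0 := by linear_combination h
    exact (mul_eq_zero.1 this).resolve_left (sub_ne_zero.2 hθq)
  by_cases ha0 : a = 0
  · exact Or.inl ⟨b, θ, hrb, by rw [hzab, ha0, zero_add]⟩
  by_cases hdep : ∃ c ∈ F₀, b = c • a
  · obtain ⟨c, hc, he⟩ := hdep
    exact Or.inl ⟨a, 1 + θ * c, hra, by rw [hzab, he, smul_smul, add_smul, one_smul]⟩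
  push Not at hdep
  exact Or.inr ⟨a, b, ⟨hra, hrb, horth, hdep, ha0⟩, hzab⟩

theorem eq_top_of_pair (hn : 8 ≤ n) {θ : F} (hθ : θ ∉ F₀) {a b : V} (h : Pr F₀ P q a b)
    (hg : IsCtr K (a + θ • b)) : K = ⊤ := by
  have hθ0 : θ ≠ 0 := fun h0 => hθ (h0 ▸ F₀.zero_mem)
  refine H51.StabMax.eq_top_of_ctr hF (by omega) K fun z hz => ?_
  rcases exists_pair hF hcard halt (P := P) hθ z hz with ⟨r, l, hr, rfl⟩ | ⟨a', b', h', rfl⟩
  · exact H51.StabMax.ctr_smul hF (hK r hr) l
  · exact good_all hF hcard halt hK hn hθ0 h h' hg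

omit hK in
theorem not_point {θ : F} (hθ : θ ∉ F₀) {a b : V} (h : Pr F₀ P q a b) {r : V} (hr : Rt F₀ P r)
    (l : F) : a + θ • b ≠ l • r := by
  intro he
  set Q := ((P⁻¹ : GL (Fin n) F) : Matrix (Fin n) (Fin n) F)
  have hv : ∀ i, (Q *ᵥ a) i + θ * (Q *ᵥ b) i = l * (Q *ᵥ r) i := fun i => by
    have := congrFun (congrArg (Q *ᵥ ·) he) i
    simpa [Matrix.mulVec_add, Matrix.mulVec_smul] using this
  have hQinj : Function.Injective (Q *ᵥ ·) := H49.gl_mulVec_injective P⁻¹
  have hr0 : Q *ᵥ r ≠ 0 := by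
    intro h0
    have : ∀ i, (Q *ᵥ a) i + θ * (Q *ᵥ b) i = 0 := fun i => by rw [hv i, h0]; simp
    apply h.ind 0 F₀.zero_mem
    rw [zero_smul]
    apply hQinj
    simp only [Matrix.mulVec_zero]
    funext i
    by_contra hne
    apply hθ
    have : θ = -(Q *ᵥ a) i / (Q *ᵥ b) i := by
      rw [eq_div_iff hne]; linear_combination this i
    rw [this]
    exact div_mem (neg_mem (h.ra i)) (h.rb i)
  obtain ⟨j, hj⟩ := Function.ne_iff.1 hr0
  change (Q *ᵥ r) j ≠ 0 at hj
  have key : ∀ i, (Q *ᵥ a) i * (Q *ᵥ r) j = (Q *ᵥ a) j * (Q *ᵥ r) i ∧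
      (Q *ᵥ b) i * (Q *ᵥ r) j = (Q *ᵥ b) j * (Q *ᵥ r) i := by
    intro i
    have e : ((Q *ᵥ a) i * (Q *ᵥ r) j - (Q *ᵥ a) j * (Q *ᵥ r) i) +
        θ * ((Q *ᵥ b) i * (Q *ᵥ r) j - (Q *ᵥ b) j * (Q *ᵥ r) i) = 0 := by
      linear_combination (Q *ᵥ r) j * hv i - (Q *ᵥ r) i * hv j
    by_cases hb0 : (Q *ᵥ b) i * (Q *ᵥ r) j - (Q *ᵥ b) j * (Q *ᵥ r) i = 0
    · exact ⟨by linear_combination e - θ * hb0, sub_eq_zero.1 hb0⟩
    · exfalso
      apply hθ
      have : θ = -((Q *ᵥ a) i * (Q *ᵥ r) j - (Q *ᵥ a) j * (Q *ᵥ r) i) /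
          ((Q *ᵥ b) i * (Q *ᵥ r) j - (Q *ᵥ b) j * (Q *ᵥ r) i) := by
        rw [eq_div_iff hb0]; linear_combination e
      rw [this]
      exact div_mem (neg_mem (sub_mem (mul_mem (h.ra i) (hr j)) (mul_mem (h.ra j) (hr i))))
        (sub_mem (mul_mem (h.rb i) (hr j)) (mul_mem (h.rb j) (hr i)))
  have haj : (Q *ᵥ a) j ≠ 0 := by
    intro h0
    apply h.ne
    apply hQinj
    simp only [Matrix.mulVec_zero]
    funext i
    have := (key i).1
    rw [h0, zero_mul] at this
    exact (mul_eq_zero.1 this).resolve_right hj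
  refine h.ind ((Q *ᵥ b) j / (Q *ᵥ a) j) (div_mem (h.rb j) (h.ra j)) (hQinj ?_)
  simp only [Matrix.mulVec_smul]
  funext i
  rw [Pi.smul_apply, smul_eq_mul, div_mul_eq_mul_div, eq_div_iff haj]
  apply mul_right_cancel₀ hj
  linear_combination (Q *ᵥ a) j * (key i).2 - (Q *ᵥ b) j * (key i).1

end SpSU

end H38
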