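import Cfsg.Agent.H38.Witt

/-! Norms and traces of an involutive field automorphism of a finite field; Hermitian forms. -/

set_option autoImplicit false

namespace H38

variable {F : Type*} [Field F] {σ : F →+* F} (hσ : σ ≠ RingHom.id F) (hσ2 : ∀ a, σ (σ a) = a)

include hσ in
theorem exists_add_conj_ne_zero : ∃ a : F, a + σ a ≠ 0 := by
  by_contra h
  push Not at h
  refine hσ (RingHom.ext fun a => ?_)
  have h1 : (1 : F) + 1 = 0 := by simpa using h 1
  show σ a = a
  linear_combination h a - a * h1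

include hσ hσ2 in
theorem exists_trace_eq {t : F} (ht : σ t = t) : ∃ c : F, c + σ c = t := by
  obtain ⟨a, ha⟩ := exists_add_conj_ne_zero hσ
  refine ⟨t * a / (a + σ a), ?_⟩
  rw [map_div₀, map_mul, map_add, hσ2, ht, add_comm (σ a) a, ← add_div, div_eq_iff ha]
  ring

include hσ hσ2 in
theorem exists_norm_eq [Finite F] {μ : F} (hμ : σ μ = μ) : ∃ x : F, σ x * x = μ := by
  classical
  rcases eq_or_ne μ 0 with rfl | hμ0
  · exact ⟨0, mul_zero _⟩
  let s : Fˣ →* Fˣ := Units.map σ.toMonoidHom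
  have hs : ∀ x, ((s x : Fˣ) : F) = σ (x : F) := fun x => rfl
  let N : Fˣ →* Fˣ := s * MonoidHom.id Fˣ
  let D : Fˣ →* Fˣ := MonoidHom.id Fˣ / s
  have hker : N.ker ≤ D.range := by
    intro x hx
    have hx' : σ (x : F) * x = 1 := by
      have := congrArg (fun u : Fˣ => (u : F)) (MonoidHom.mem_ker.mp hx)
      simpa [N, hs] using this
    obtain ⟨a, ha⟩ : ∃ a : F, a + x * σ a ≠ 0 := by
      by_contra h
      push Not at h
      have h1 : (x : F) = -1 := by
        have := h 1; rw [map_one] at this; linear_combination this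
      refine hσ (RingHom.ext fun a => ?_)
      have := h a
      rw [h1] at this
      show σ a = a
      linear_combination -this
    refine ⟨Units.mk0 _ ha, ?_⟩
    have hne : σ a + σ (x : F) * a ≠ 0 := fun h => ha (by
      have := congrArg σ h
      simpa [hσ2] using this)
    ext
    simp [D, hs, hσ2, Units.val_div_eq_div_val]
    rw [div_eq_iff hne]
    linear_combination -a * hx'
  have hle : N.range ≤ D.ker := by
    rintro _ ⟨x, rfl⟩
    rw [MonoidHom.mem_ker]
    ext
    simp [D, N, hs, hσ2, Units.val_div_eq_div_val, mul_comm (σ (x : F))]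
  have h1 : Nat.card N.range * Nat.card N.ker = Nat.card Fˣ := by
    rw [← Subgroup.index_ker, mul_comm, Subgroup.card_mul_index]
  have h2 : Nat.card D.range * Nat.card D.ker = Nat.card Fˣ := by
    rw [← Subgroup.index_ker, mul_comm, Subgroup.card_mul_index]
  have h3 : Nat.card N.ker ≤ Nat.card D.range := Subgroup.card_le_of_le hker
  have heq : N.range = D.ker := Subgroup.eq_of_le_of_card_ge hle (by
    by_contra hlt
    push Not at hlt
    have hpos : 0 < Nat.card D.range := Nat.card_pos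
    exact absurd (h1.trans h2.symm)
      (ne_of_lt (lt_of_le_of_lt (Nat.mul_le_mul_left _ h3)
        (by rw [mul_comm (Nat.card D.range)]; exact Nat.mul_lt_mul_of_pos_right hlt hpos))))
  have hm : Units.mk0 μ hμ0 ∈ D.ker := by
    rw [MonoidHom.mem_ker]
    ext
    simp [D, hs, hμ, hμ0, Units.val_div_eq_div_val]
  rw [← heq] at hm
  obtain ⟨x, hx⟩ := hm
  exact ⟨x, by simpa [N, hs] using congrArg (fun u : Fˣ => (u : F)) hx⟩

variable {V : Type*} [AddCommGroup V] [Module F V] (B : V →ₛₗ[σ] V →ₗ[F] F) (hS : B.IsSymm)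

include hσ hS in
theorem exists_self_ne_zero (W : Submodule F V) (h : ∃ a ∈ W, ∃ b ∈ W, B a b ≠ 0) :
    ∃ v ∈ W, B v v ≠ 0 := by
  obtain ⟨a, ha, b, hb, hab⟩ := h
  by_contra hh
  push Not at hh
  let B' : W →ₛₗ[σ] W →ₗ[F] F := B.domRestrict₁₂ W W
  have h0 := Cfsg.Agent.S0753.result σ hσ B' ⟨fun x y => hS.eq x y⟩ fun v => hh v v.2
  exact hab (LinearMap.congr_fun (LinearMap.congr_fun h0 ⟨a, ha⟩) ⟨b, hb⟩)

include hσ hσ2 hS in
theorem exists_scale [Finite F] {v : V} (hv : B v v ≠ 0) {μ : F} (hμ : σ μ = μ) :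
    ∃ c : F, B (c • v) (c • v) = μ := by
  obtain ⟨x, hx⟩ := exists_norm_eq hσ hσ2 (μ := μ / B v v) (by rw [map_div₀, hμ, hS.eq])
  refine ⟨x, ?_⟩
  simp [← mul_assoc]
  rw [mul_comm (σ x), mul_comm x] at *
  field_simp at hx
  linear_combination hx

include hσ hσ2 hS in
theorem witt_herm [Finite F] [FiniteDimensional F V] (hB : B.Nondegenerate) (f : V →ₗ.[F] V)
    (hinj : ∀ x : f.domain, f x = 0 → x = 0) (hf : ∀ x y : f.domain, B (f x) (f y) = B x y) :
    ∃ g : V ≃ₗ[F] V, (∀ u v, B (g u) (g v) = B u v) ∧ ∀ x : f.domain, g x = f x := by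
  refine witt_pmap B (fun a => ⟨σ a, hσ2 a⟩) hB.1
    (fun x y h => by rw [← hS.eq x y, h, map_zero]) σ (fun x y => (hS.eq x y).symm) ?_ ?_ f hinj hf
  · intro W W' hW hW'
    obtain ⟨v, hv, hv0⟩ := exists_self_ne_zero hσ B hS W hW
    obtain ⟨v', hv', hv'0⟩ := exists_self_ne_zero hσ B hS W' hW'
    obtain ⟨c, hc⟩ := exists_scale hσ hσ2 B hS hv'0 (μ := B v v) (hS.eq v v)
    exact ⟨v, hv, fun h => hv0 (by simp [h]), c • v', W'.smul_mem c hv',
      fun h => hv0 (by rw [← hc, h]; simp), hc.symm⟩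
  · intro r y hr hry
    obtain ⟨c, hc⟩ := exists_trace_eq hσ hσ2 (t := - B y y) (by rw [map_neg, hS.eq])
    refine ⟨c, ?_⟩
    have hyr : B y r = 1 := by rw [← hS.eq r y, hry, map_one]
    simp [hr, hry, hyr]
    linear_combination hc

include hσ hσ2 hS in
theorem exists_orthonormal_family [Finite F] [FiniteDimensional F V] (hB : B.Nondegenerate) :
    ∀ k, k ≤ Module.finrank F V → ∃ e : Fin k → V, ∀ i j, B (e i) (e j) = if i = j then 1 else 0 := by
  intro k
  induction k with
  | zero => exact fun _ => ⟨Fin.elim0, fun i => i.elim0⟩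
  | succ k ih =>
    intro hk
    obtain ⟨e, he⟩ := ih (by omega)
    let X := Submodule.span F (Set.range e)
    have hne : X ≠ ⊤ := fun h => by
      have := finrank_range_le_card (R := F) e
      rw [Set.finrank, show Submodule.span F (Set.range e) = X from rfl, h, finrank_top,
        Fintype.card_fin] at this
      omega
    have hrad : ∀ r ∈ X, (∀ x ∈ X, B r x = 0) → r = 0 := by
      intro r hr h
      obtain ⟨c, rfl⟩ := (Submodule.mem_span_range_iff_exists_fun F).mp hr
      refine Finset.sum_eq_zero fun i _ => ?_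
      have := h (e i) (Submodule.subset_span ⟨i, rfl⟩)
      simp [he, Finset.sum_ite_eq'] at this
      simp [this]
    obtain ⟨v, hv, hv0⟩ := exists_self_ne_zero hσ B hS (perp B X)
      (perp_nonzero B (fun a => ⟨σ a, hσ2 a⟩) hB.1 (fun x y h => by rw [← hS.eq x y, h, map_zero])
        X hne hrad)
    obtain ⟨c, hc⟩ := exists_scale hσ hσ2 B hS hv0 (map_one σ)
    refine ⟨Fin.snoc e (c • v), fun i j => ?_⟩
    have h0 : ∀ i, B (e i) (c • v) = 0 := fun i => by
      rw [map_smul, hv _ (Submodule.subset_span ⟨i, rfl⟩), smul_zero]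
    have h0' : ∀ i, B (c • v) (e i) = 0 := fun i => by rw [← hS.eq, h0, map_zero]
    refine Fin.lastCases ?_ (fun i => ?_) i <;> refine Fin.lastCases ?_ (fun j => ?_) j
    · simpa using hc
    · simp only [Fin.snoc_last, Fin.snoc_castSucc, h0', (Fin.castSucc_lt_last j).ne', ↓reduceIte]
    · simp only [Fin.snoc_last, Fin.snoc_castSucc, h0, (Fin.castSucc_lt_last i).ne, ↓reduceIte]
    · simp only [Fin.snoc_castSucc, he, Fin.castSucc_inj]

end H38
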