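import Cfsg.Agent.H45.Alt
import Cfsg.Agent.H1.Cores

/-!
Symplectic groups in characteristic two: the radical of a point stabiliser.
-/

set_option autoImplicit false
set_option linter.unusedSectionVars false

namespace H38.SpX

open Matrix H45
open scoped MatrixGroups

variable {F : Type*} [Field F] {ι : Type} [Fintype ι] [DecidableEq ι]

local notation "V" => (ι → F)

/-- The space: a non-degenerate alternating form in characteristic two. -/
structure SForm (B : (ι → F) →ₗ[F] (ι → F) →ₗ[F] F) : Prop where
  two : (2 : F) = 0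
  alt : ∀ x, B x x = 0
  nd : ∀ x, x ≠ 0 → ∃ y, B x y ≠ 0

variable {B : (ι → F) →ₗ[F] (ι → F) →ₗ[F] F}

section
variable (S : SForm B)
include S

theorem add_self' (x : F) : x + x = 0 := by linear_combination x * S.two

theorem neg_eq' (x : F) : -x = x := by linear_combination -(add_self' S x)

theorem symm (x y : V) : B x y = B y x := by
  have h := S.alt (x + y)
  simp only [map_add, LinearMap.add_apply, S.alt] at h
  linear_combination h - add_self' S (B y x)

theorem vadd_self (x : V) : x + x = 0 := funext fun i => add_self' S (x i)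

theorem vneg (x : V) : -x = x := funext fun i => neg_eq' S (x i)

theorem exists_value {x : V} (hx : x ≠ 0) (t : F) : ∃ y, B x y = t := by
  obtain ⟨y, hy⟩ := S.nd x hx
  exact ⟨(t / B x y) • y, by rw [map_smul, smul_eq_mul, div_mul_cancel₀ _ hy]⟩

theorem eq_zero_of_forall {x : V} (h : ∀ y, B x y = 0) : x = 0 := by
  by_contra hx
  obtain ⟨y, hy⟩ := S.nd x hx
  exact hy (h y)

/-- A vector orthogonal to a subspace with a given value on a vector outside it. -/
theorem exists_sep (W : Submodule F V) {k : V} (hk : k ∉ W) (t : F) :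
    ∃ z, (∀ w ∈ W, B w z = 0) ∧ B k z = t := by
  obtain ⟨φ, hφk, hφW⟩ := Submodule.exists_dual_map_eq_bot_of_notMem hk inferInstance
  have hinj : Function.Injective B := by
    rw [← LinearMap.ker_eq_bot, LinearMap.ker_eq_bot']
    exact fun x hx => eq_zero_of_forall S fun y => by rw [hx]; rfl
  have hsurj : Function.Surjective B :=
    (LinearMap.injective_iff_surjective_of_finrank_eq_finrank
      (Subspace.dual_finrank_eq (K := F)).symm).1 hinj
  obtain ⟨z, hz⟩ := hsurj ((t / φ k) • φ)
  refine ⟨z, fun w hw => ?_, ?_⟩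
  · rw [symm S, hz, LinearMap.smul_apply]
    have : φ w ∈ W.map φ := Submodule.mem_map_of_mem hw
    rw [hφW, Submodule.mem_bot] at this
    rw [this, smul_zero]
  · rw [symm S, hz, LinearMap.smul_apply, smul_eq_mul, div_mul_cancel₀ _ hφk]

theorem exists_sep₁ {w k : V} (hk : k ∉ F ∙ w) (t : F) : ∃ z, B w z = 0 ∧ B k z = t := by
  obtain ⟨z, h1, h2⟩ := exists_sep S (F ∙ w) hk t
  exact ⟨z, h1 w (Submodule.mem_span_singleton_self w), h2⟩

theorem exists_sep₂ {w w' k : V} (hk : k ∉ Submodule.span F {w, w'}) (t : F) :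
    ∃ z, B w z = 0 ∧ B w' z = 0 ∧ B k z = t := by
  obtain ⟨z, h1, h2⟩ := exists_sep S (Submodule.span F {w, w'}) hk t
  exact ⟨z, h1 w (Submodule.subset_span (Set.mem_insert _ _)),
    h1 w' (Submodule.subset_span (Set.mem_insert_of_mem _ rfl)), h2⟩

end

/-- The root map with centre `a`. -/
def rlin (B : (ι → F) →ₗ[F] (ι → F) →ₗ[F] F) (a v : ι → F) (c : F) :
    (ι → F) →ₗ[F] (ι → F) :=
  LinearMap.id + (B.flip a).smulRight v + (B.flip v).smulRight a + (c • B.flip a).smulRight a

theorem rlin_apply (a v : V) (c : F) (x : V) :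
    rlin B a v c x = x + B x a • v + B x v • a + (c * B x a) • a := by
  simp [rlin]

open scoped Classical in
/-- The root element with centre `a`, as a matrix. -/
noncomputable def rel (B : (ι → F) →ₗ[F] (ι → F) →ₗ[F] F) (a v : ι → F) (c : F) : GL ι F :=
  if h : ∀ x, rlin B a v c (rlin B a v c x) = x then
    { val := LinearMap.toMatrix' (rlin B a v c)
      inv := LinearMap.toMatrix' (rlin B a v c)
      val_inv := by
        rw [← LinearMap.toMatrix'_mul]
        convert LinearMap.toMatrix'_one
        exact LinearMap.ext h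
      inv_val := by
        rw [← LinearMap.toMatrix'_mul]
        convert LinearMap.toMatrix'_one
        exact LinearMap.ext h }
  else 1

variable (S : SForm B)
include S

theorem rlin_comp {a v w : V} (hv : B a v = 0) (hw : B a w = 0) (c d : F) (x : V) :
    rlin B a v c (rlin B a w d x) = rlin B a (v + w) (c + d + B v w) x := by
  simp only [rlin_apply, map_add, map_smul, LinearMap.add_apply, LinearMap.smul_apply, smul_eq_mul,
    S.alt a, symm S w a, hw, hv, symm S w v, mul_zero, add_zero]
  module

theorem act_rel {a v : V} (hv : B a v = 0) (c : F) (x : V) :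
    act (rel B a v c) x = x + B x a • v + B x v • a + (c * B x a) • a := by
  classical
  have h : ∀ x, rlin B a v c (rlin B a v c x) = x := fun x => by
    rw [rlin_comp S hv hv, vadd_self S, S.alt v, add_zero, add_self' S, rlin_apply]
    simp
  rw [act, rel, dif_pos h]
  exact (LinearMap.toMatrix'_mulVec _ _).trans (rlin_apply a v c x)

theorem rel_mul {a v w : V} (hv : B a v = 0) (hw : B a w = 0) (c d : F) :
    rel B a v c * rel B a w d = rel B a (v + w) (c + d + B v w) := by
  refine gl_ext fun x => ?_
  rw [act_mul, act_rel S hw, act_rel S hv, act_rel S (by rw [map_add, hv, hw, add_zero]),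
    ← rlin_apply, ← rlin_apply, ← rlin_apply]
  exact rlin_comp S hv hw c d x

theorem rel_zero (a : V) : rel B a 0 0 = (1 : GL ι F) := by
  refine gl_ext fun x => ?_
  rw [act_rel S (map_zero _)]
  simp [act]

theorem rel_self {a v : V} (hv : B a v = 0) (c : F) : rel B a v c * rel B a v c = 1 := by
  rw [rel_mul S hv hv, vadd_self S, S.alt v, add_zero, add_self' S, rel_zero S]

theorem rel_inv {a v : V} (hv : B a v = 0) (c : F) : (rel B a v c)⁻¹ = rel B a v c :=
  inv_eq_of_mul_eq_one_right (rel_self S hv c)

theorem rel_add_self {a v : V} (hv : B a v = 0) (k c : F) :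
    rel B a (v + k • a) c = rel B a v c := by
  refine gl_ext fun x => ?_
  rw [act_rel S hv, act_rel S (by rw [map_add, hv, map_smul, S.alt, smul_zero, add_zero])]
  simp only [map_add, map_smul, smul_add, add_smul, smul_smul, smul_eq_mul]
  rw [mul_comm k (B x a)]
  linear_combination (norm := module) (B x a * k) • (vadd_self S a)

theorem rel_smul {a v : V} (hv : B a v = 0) (t c : F) :
    rel B (t • a) v c = rel B a (t • v) (t * t * c) := by
  refine gl_ext fun x => ?_
  rw [act_rel S (by rw [map_smul, LinearMap.smul_apply, hv, smul_zero]),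
    act_rel S (by rw [map_smul, hv, smul_zero])]
  simp only [map_smul, smul_eq_mul]
  module

theorem rel_symm {a v : V} (hv : B a v = 0) : rel B a v 0 = rel B v a 0 := by
  refine gl_ext fun x => ?_
  rw [act_rel S hv, act_rel S (by rw [symm S, hv])]
  module

omit S in
/-- The isometries of the form. -/
def spG (B : (ι → F) →ₗ[F] (ι → F) →ₗ[F] F) : Subgroup (GL ι F) :=
  Cfsg.preserving (Units.coeHom (Matrix ι ι F)) fun u v => B u v

omit S in
theorem mem_spG {g : GL ι F} : g ∈ spG B ↔ ∀ u v, B (act g u) (act g v) = B u v := mem_preserving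

theorem rel_mem {a v : V} (hv : B a v = 0) (c : F) : rel B a v c ∈ spG B := by
  refine mem_spG.2 fun x y => ?_
  simp only [act_rel S hv, map_add, map_smul, LinearMap.add_apply, LinearMap.smul_apply,
    smul_eq_mul, S.alt a, S.alt v, hv, symm S v a, symm S a y, symm S v y, mul_zero, add_zero,
    zero_add]
  linear_combination add_self' S (B x a * B y v) + add_self' S (B x v * B y a) +
    add_self' S (c * B x a * B y a)

theorem rel_conj {g : GL ι F} (hg : g ∈ spG B) {a v : V} (hv : B a v = 0) (c : F) :
    g * rel B a v c * g⁻¹ = rel B (act g a) (act g v) c := by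
  refine gl_ext fun x => ?_
  obtain ⟨y, rfl⟩ : ∃ y, act g y = x := ⟨_, act_act_inv g x⟩
  have h := mem_spG.1 hg
  rw [act_mul, act_mul, act_inv_act, act_rel S hv, act_rel S (by rw [h, hv]), h, h]
  simp [act, Matrix.mulVec_add, Matrix.mulVec_smul]

/-- Symplectic maps fixing `a` move any vector orthogonal to `a` to any other, modulo `a`. -/
theorem exists_move {a u u' : V} (hu : B a u = 0) (hu' : B a u' = 0) (hun : u ∉ F ∙ a)
    (hun' : u' ∉ F ∙ a) :
    ∃ g ∈ spG B, act g a = a ∧ act g u = u' := by
  have tvstep : ∀ p p' : V, B a p = 0 → B a p' = 0 → B p p' ≠ 0 →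
      ∃ g ∈ spG B, act g a = a ∧ act g p = p' := by
    intro p p' hp hp' hne
    refine ⟨rel B (p + p') 0 (B p p')⁻¹, rel_mem S (map_zero _) _, ?_, ?_⟩
    · rw [act_rel S (map_zero _)]; simp [map_add, hp, hp']
    · rw [act_rel S (map_zero _)]
      simp only [map_add, S.alt, zero_add, smul_zero, map_zero, zero_smul, add_zero,
        inv_mul_cancel₀ hne, one_smul]
      rw [← add_assoc, vadd_self S, zero_add]
  by_cases hne : B u u' = 0
  swap
  · exact tvstep u u' hu hu' hne
  obtain ⟨z, hza, hz1, hz2⟩ : ∃ z, B a z = 0 ∧ B u z ≠ 0 ∧ B u' z ≠ 0 := by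
    obtain ⟨z₁, h1, h1'⟩ := exists_sep₁ S hun 1
    obtain ⟨z₂, h2, h2'⟩ := exists_sep₁ S hun' 1
    by_cases h3 : B u' z₁ ≠ 0
    · exact ⟨z₁, h1, by rw [h1']; exact one_ne_zero, h3⟩
    push Not at h3
    by_cases h4 : B u z₂ ≠ 0
    · exact ⟨z₂, h2, h4, by rw [h2']; exact one_ne_zero⟩
    push Not at h4
    exact ⟨z₁ + z₂, by rw [map_add, h1, h2, add_zero],
      by rw [map_add, h1', h4, add_zero]; exact one_ne_zero,
      by rw [map_add, h3, h2', zero_add]; exact one_ne_zero⟩
  obtain ⟨g, hg, g1, g2⟩ := tvstep u z hu hza hz1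
  obtain ⟨g', hg', g1', g2'⟩ := tvstep z u' hza hu' (by rw [symm S]; exact hz2)
  exact ⟨g' * g, mul_mem hg' hg, by rw [act_mul, g1, g1'], by rw [act_mul, g2, g2']⟩

/-- A normal two-subgroup of a point stabiliser consists of root elements. -/
theorem exists_rel_of_core [Finite F] {a : V} (ha : a ≠ 0) (N : Subgroup (GL ι F))
    (hN2 : IsPGroup 2 N) (hNG : ∀ h ∈ N, h ∈ spG B ∧ act h a = a)
    (hnorm : ∀ g ∈ spG B, act g a = a → ∀ h ∈ N, g * h * g⁻¹ ∈ N) :
    ∀ h ∈ N, ∃ (v : V) (c : F), B a v = 0 ∧ h = rel B a v c := by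
  classical
  haveI : Fact (Nat.Prime 2) := ⟨Nat.prime_two⟩
  haveI : Fintype F := Fintype.ofFinite F
  obtain ⟨b, hab⟩ := exists_value S ha 1
  -- the fixed vectors modulo `a`
  have htriv : ∀ h ∈ N, ∀ u, B a u = 0 → ∃ k : F, act h u = u + k • a := by
    by_contra hcon
    push Not at hcon
    obtain ⟨h₀, hh₀, u₀, hu₀, hne₀⟩ := hcon
    have hu₀n : u₀ ∉ F ∙ a := fun hm => by
      obtain ⟨k, rfl⟩ := Submodule.mem_span_singleton.1 hm
      refine hne₀ 0 ?_
      rw [zero_smul, add_zero, act, Matrix.mulVec_smul]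
      exact congrArg (k • ·) (hNG h₀ hh₀).2
    let U : Submodule F V := LinearMap.ker (B a)
    let A : Submodule F U := (F ∙ a).comap U.subtype
    have hUmap : ∀ h : N, ∀ u : U, act (h : GL ι F) u ∈ U := fun h u => by
      show B a _ = 0
      conv_lhs => rw [← (hNG h h.2).2]
      rw [mem_spG.1 (hNG h h.2).1]
      exact u.2
    let f : N → (U →ₗ[F] U) := fun h =>
      ((Matrix.mulVecLin ((h : GL ι F) : Matrix ι ι F)).comp U.subtype).codRestrict U
        fun u => hUmap h u
    have hA : ∀ h : N, A ≤ A.comap (f h) := fun h u hu => by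
      obtain ⟨k, hk⟩ := Submodule.mem_span_singleton.1 (Submodule.mem_comap.1 hu)
      refine Submodule.mem_comap.2 (Submodule.mem_comap.2 (Submodule.mem_span_singleton.2 ⟨k, ?_⟩))
      show k • a = act (h : GL ι F) (u : V)
      rw [show (u : V) = k • a from hk.symm, act, Matrix.mulVec_smul]
      exact congrArg (k • ·) (hNG h h.2).2.symm
    letI act' : MulAction N (U ⧸ A) :=
      { smul := fun h => A.mapQ A (f h) (hA h)
        one_smul := fun x => by
          induction x using Submodule.Quotient.induction_on with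
          | H u =>
            show A.mapQ A (f 1) (hA 1) _ = _
            rw [Submodule.mapQ_apply]
            congr 1
            exact Subtype.ext (Matrix.one_mulVec (u : V))
        mul_smul := fun g h x => by
          induction x using Submodule.Quotient.induction_on with
          | H u =>
            show A.mapQ A (f (g * h)) (hA _) _ = A.mapQ A (f g) (hA g) (A.mapQ A (f h) (hA h) _)
            rw [Submodule.mapQ_apply, Submodule.mapQ_apply, Submodule.mapQ_apply]
            congr 1
            exact Subtype.ext (act_mul (g : GL ι F) (h : GL ι F) (u : V)) }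
    have hzero : (0 : U ⧸ A) ∈ MulAction.fixedPoints N (U ⧸ A) := fun h => map_zero _
    have hA0 : (Submodule.Quotient.mk ⟨u₀, hu₀⟩ : U ⧸ A) ≠ 0 := fun h =>
      hu₀n (Submodule.mem_comap.1 ((Submodule.Quotient.mk_eq_zero A).1 h))
    have hdvd : 2 ∣ Nat.card (U ⧸ A) := by
      rw [Module.natCard_eq_pow_finrank (K := F)]
      have h1 : 2 ∣ Nat.card F := by
        haveI : CharP F 2 := CharTwo.of_one_ne_zero_of_two_eq_zero one_ne_zero S.two
        obtain ⟨e, -, he⟩ := FiniteField.card F 2
        rw [Nat.card_eq_fintype_card, he]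
        exact dvd_pow_self 2 e.ne_zero
      refine dvd_pow h1 ?_
      intro h0
      rw [Module.finrank_zero_iff (R := F)] at h0
      exact hA0 (Subsingleton.elim _ _)
    obtain ⟨x, hx, hx0⟩ := hN2.exists_fixed_point_of_prime_dvd_card_of_fixed_point (U ⧸ A) hdvd hzero
    induction x using Submodule.Quotient.induction_on with
    | H w =>
      have hwn : (w : V) ∉ F ∙ a := fun h =>
        hx0 ((Submodule.Quotient.mk_eq_zero A).2 (Submodule.mem_comap.2 h)).symm
      have hwfix : ∀ h ∈ N, ∃ k : F, act h (w : V) = w + k • a := fun h hh => by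
        have e : A.mapQ A (f ⟨h, hh⟩) (hA _) (Submodule.Quotient.mk w) = Submodule.Quotient.mk w :=
          hx ⟨h, hh⟩
        rw [Submodule.mapQ_apply, Submodule.Quotient.eq] at e
        obtain ⟨k, hk⟩ := Submodule.mem_span_singleton.1 (Submodule.mem_comap.1 e)
        refine ⟨k, ?_⟩
        rw [show k • a = act h (w : V) - w from hk]
        abel
      obtain ⟨g, hg, ga, gw⟩ := exists_move S w.2 hu₀ hwn hu₀n
      have hga : act g⁻¹ a = a := by conv_lhs => rw [← ga]; rw [act_inv_act]
      obtain ⟨k, hk⟩ := hwfix _ (hnorm g⁻¹ (inv_mem hg) hga h₀ hh₀)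
      refine hne₀ k ?_
      rw [act_mul, act_mul, inv_inv, gw] at hk
      have h2 := congrArg (act g) hk
      rw [act_act_inv] at h2
      rw [h2, ← gw, act, act, Matrix.mulVec_add, Matrix.mulVec_smul]
      exact congrArg (fun z => act g (w : V) + k • z) ga
  intro h hh
  obtain ⟨hG, hha⟩ := hNG h hh
  have hpres := mem_spG.1 hG
  set v := act h b + b with hv
  have hhb : act h b = b + v := by rw [hv, add_comm (act h b), ← add_assoc, vadd_self S, zero_add]
  have hav : B a v = 0 := by
    rw [hv, map_add]
    conv_lhs => arg 1; rw [← hha]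
    rw [hpres, hab, add_self' S]
  refine ⟨v, B b v, hav, gl_ext fun x => ?_⟩
  set w := x + B x a • b with hw
  have hx : x = w + B x a • b := by rw [hw, add_assoc, vadd_self S, add_zero]
  have hwa : B a w = 0 := by
    rw [hw, map_add, map_smul, hab, smul_eq_mul, mul_one, symm S, add_self' S]
  obtain ⟨k, hk⟩ := htriv h hh w hwa
  have hkv : k = B w v := by
    have h1 := hpres w b
    rw [hk, hhb] at h1
    simp only [map_add, map_smul, LinearMap.add_apply, LinearMap.smul_apply, smul_eq_mul, hab, hav]
      at h1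
    linear_combination h1 - add_self' S (B w v)
  have hlin : act h x = act h w + B x a • act h b := by
    conv_lhs => rw [hx]
    simp [act, Matrix.mulVec_add, Matrix.mulVec_smul]
  rw [act_rel S hav, hlin, hk, hhb, hkv]
  conv_rhs => arg 1; arg 1; arg 1; rw [hx]
  have hxv : B x v = B w v + B x a * B b v := by
    conv_lhs => rw [hx]
    simp
  rw [hxv]
  linear_combination (norm := module) -((B x a * B b v) • vadd_self S a)

end H38.SpX
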