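import Cfsg.Agent.H38.SpRootBase

/-!
Groups containing a full set of root elements at two non-orthogonal centres.
-/

set_option autoImplicit false
set_option linter.unusedSectionVars false

namespace H38.SpX

open Matrix H45
open scoped MatrixGroups

variable {F : Type*} [Field F] {ι : Type} [Fintype ι] [DecidableEq ι]
  {B : (ι → F) →ₗ[F] (ι → F) →ₗ[F] F}

local notation "V" => (ι → F)

variable {L : Subgroup (GL ι F)}

/-- The root element with parameters `v, c` lies in `L`. -/
def Rt (B : (ι → F) →ₗ[F] (ι → F) →ₗ[F] F) (L : Subgroup (GL ι F)) (a v : ι → F) (c : F) : Prop :=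
  B a v = 0 ∧ rel B a v c ∈ L

/-- All directions occur at the centre `a`. -/
def Proj (B : (ι → F) →ₗ[F] (ι → F) →ₗ[F] F) (L : Subgroup (GL ι F)) (a : ι → F) : Prop :=
  ∀ v, B a v = 0 → ∃ c, rel B a v c ∈ L

variable (S : SForm B)
include S

theorem rt_zero (a : V) : Rt B L a 0 0 := ⟨map_zero _, by rw [rel_zero S]; exact one_mem L⟩

theorem rt_add {a v w : V} {c d : F} (h : Rt B L a v c) (h' : Rt B L a w d) :
    Rt B L a (v + w) (c + d + B v w) :=
  ⟨by rw [map_add, h.1, h'.1, add_zero], by rw [← rel_mul S h.1 h'.1]; exact mul_mem h.2 h'.2⟩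

theorem rt_shift {a v : V} {c : F} (h : Rt B L a v c) (k : F) : Rt B L a (v + k • a) c :=
  ⟨by rw [map_add, h.1, map_smul, S.alt, smul_zero, add_zero],
   by rw [rel_add_self S h.1]; exact h.2⟩

theorem rt_symm {a v : V} (h : Rt B L a v 0) : Rt B L v a 0 :=
  ⟨by rw [symm S, h.1], by rw [← rel_symm S h.1]; exact h.2⟩

theorem rt_smul {a v : V} {c t : F} (ht : t ≠ 0) (h : Rt B L a v c) :
    Rt B L (t • a) (t⁻¹ • v) ((t * t)⁻¹ * c) := by
  have h0 : B (t • a) (t⁻¹ • v) = 0 := by simp [h.1]
  refine ⟨h0, ?_⟩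
  rw [rel_smul S (by rw [map_smul, h.1, smul_zero]), smul_smul, mul_inv_cancel₀ ht, one_smul,
    ← mul_assoc, mul_inv_cancel₀ (mul_ne_zero ht ht), one_mul]
  exact h.2

theorem rt_smul' {a v : V} {c t : F} (ht : t ≠ 0) (h : Rt B L (t • a) v c) :
    Rt B L a (t • v) (t * t * c) := by
  have := rt_smul S (inv_ne_zero ht) h
  rwa [smul_smul, inv_mul_cancel₀ ht, one_smul, inv_inv, ← mul_inv, inv_inv] at this

theorem proj_smul {a : V} {t : F} (ht : t ≠ 0) (h : Proj B L a) : Proj B L (t • a) := by
  intro v hv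
  rw [map_smul, LinearMap.smul_apply, smul_eq_mul, mul_eq_zero] at hv
  obtain ⟨c, hc⟩ := h (t • v) (by rw [map_smul, hv.resolve_left ht, smul_zero])
  refine ⟨(t * t)⁻¹ * c, ?_⟩
  have := (rt_smul S ht (⟨by rw [map_smul, hv.resolve_left ht, smul_zero], hc⟩ : Rt B L a (t • v) c)).2
  rwa [smul_smul, inv_mul_cancel₀ ht, one_smul] at this

variable (hL : L ≤ spG B)
include hL

theorem rt_conj {g : GL ι F} (hg : g ∈ L) {a v : V} {c : F} (h : Rt B L a v c) :
    Rt B L (act g a) (act g v) c := by
  refine ⟨by rw [mem_spG.1 (hL hg), h.1], ?_⟩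
  rw [← rel_conj S (hL hg) h.1]
  exact mul_mem (mul_mem hg h.2) (inv_mem hg)

theorem proj_conj {g : GL ι F} (hg : g ∈ L) {a : V} (h : Proj B L a) : Proj B L (act g a) := by
  intro v hv
  have h1 : B a (act g⁻¹ v) = 0 := by
    rw [← mem_spG.1 (hL hg), act_act_inv, hv]
  obtain ⟨c, hc⟩ := h _ h1
  refine ⟨c, ?_⟩
  have := (rt_conj S hL hg (⟨h1, hc⟩ : Rt B L a _ c)).2
  rwa [act_act_inv] at this

theorem rt_move {g : GL ι F} (hg : g ∈ L) {a v : V} {c : F} (hfix : act g a = a)
    (h : Rt B L a v c) : Rt B L a (v + act g v) (B v (act g v)) := by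
  have h1 := rt_conj S hL hg h
  rw [hfix] at h1
  have h2 := rt_add S h h1
  rwa [add_self' S, zero_add] at h2

/-- The main relation between two centres. -/
theorem key {a b v w : V} {d : F} (hab : B a b = 1) (hbv : B b v = 0) (haw : B a w = 0)
    (hvw : B v w = 0) (ha : Rt B L a v 0) (hb : Rt B L b w d) (hP : Proj B L b) (s r : F)
    (hex : ∃ u, B b u = 0 ∧ B u v = s ∧ B u w = r) :
    Rt B L b (s • w + (r + d * s) • v) (d * (s * s)) := by
  have hwb : B b w = 0 := hb.1
  have hav : B a v = 0 := ha.1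
  have h1 := rt_conj S hL hb.2 (rt_symm S ha)
  have e1 : act (rel B b w d) a = a + w + d • b := by
    rw [act_rel S hwb, hab, haw]; simp
  have e2 : act (rel B b w d) v = v := by
    rw [act_rel S hwb, symm S v b, hbv, hvw]; simp
  rw [e1, e2] at h1
  have hK := rt_add S h1 (rt_symm S ha)
  rw [show a + w + d • b + a = w + d • b by
      linear_combination (norm := module) (1 : F) • vadd_self S a,
    add_zero, zero_add,
    show B (a + w + d • b) a = d by
      simp only [map_add, map_smul, LinearMap.add_apply, LinearMap.smul_apply, smul_eq_mul,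
        S.alt a, symm S w a, haw, symm S b a, hab, mul_one, zero_add]] at hK
  obtain ⟨u, hub, hus, hur⟩ := hex
  obtain ⟨e, he⟩ := hP u hub
  have hfix : act (rel B v (w + d • b) d) b = b := by
    rw [act_rel S hK.1, hbv]
    simp [map_add, hwb, S.alt]
  have h2 := rt_move S hL hK.2 hfix (⟨hub, he⟩ : Rt B L b u e)
  have e3 : act (rel B v (w + d • b) d) u =
      u + s • (w + d • b) + r • v + (d * s) • v := by
    rw [act_rel S hK.1, hus, map_add, map_smul, hur, symm S u b, hub, smul_zero, add_zero]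
  rw [e3] at h2
  have h3 := rt_shift S h2 (s * d)
  convert h3 using 1
  · linear_combination (norm := module) -(1 : F) • vadd_self S u - (s * d) • vadd_self S b
  · simp only [map_add, map_smul, smul_eq_mul, S.alt u, hus, hur, symm S u b, hub]
    linear_combination -(add_self' S (r * s))

/-- The relation along one line. -/
theorem key_line {a b v : V} {t d : F} (hab : B a b = 1) (hbv : B b v = 0) (hv : v ∉ F ∙ b)
    (ha : Rt B L a v 0) (hb : Rt B L b (t • v) d) (hP : Proj B L b) (s : F) :
    Rt B L b ((d * s) • v) (d * (s * s)) := by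
  obtain ⟨u, hu1, hu2⟩ := exists_sep₁ S hv s
  have h := key S hL hab hbv (by rw [map_smul, ha.1, smul_zero])
    (by rw [map_smul, S.alt, smul_zero]) ha hb hP s (t * s)
    ⟨u, hu1, by rw [symm S]; exact hu2, by rw [map_smul, symm S u v, hu2, smul_eq_mul]⟩
  have e : s • t • v + (t * s + d * s) • v = (d * s) • v := by
    linear_combination (norm := module) (t * s) • vadd_self S v
  rwa [e] at h

/-- The centre has no transvection in `L`. -/
def Rgd (B : (ι → F) →ₗ[F] (ι → F) →ₗ[F] F) (L : Subgroup (GL ι F)) (a : ι → F) : Prop :=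
  ∀ c, Rt B L a 0 c → c = 0

theorem rt_inj {a v : V} {c d : F} (hR : Rgd B L a) (h : Rt B L a v c) (h' : Rt B L a v d) :
    c = d := by
  have := rt_add S h h'
  rw [vadd_self S, S.alt, add_zero] at this
  linear_combination hR _ this - add_self' S d

theorem rgd_smul {a : V} {t : F} (ht : t ≠ 0) (h : Rgd B L a) : Rgd B L (t • a) := by
  intro c hc
  have := h _ (by have := rt_smul' S ht hc; rwa [smul_zero] at this)
  exact (mul_eq_zero.1 this).resolve_left (mul_ne_zero ht ht)

theorem rgd_conj {g : GL ι F} (hg : g ∈ L) {a : V} (h : Rgd B L a) : Rgd B L (act g a) := by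
  intro c hc
  have := rt_conj S hL (inv_mem hg) hc
  rw [act_inv_act, show act g⁻¹ (0 : V) = 0 from Matrix.mulVec_zero _] at this
  exact h c this

/-- Some direction on each line has scalar zero, once a transvection is present. -/
theorem exists_zero [Finite F] {a v : V} (hav : B a v = 0) (hP : Proj B L a) {c₀ : F}
    (hc₀ : c₀ ≠ 0) (h₀ : Rt B L a 0 c₀) : ∃ T : F, T ≠ 0 ∧ Rt B L a (T • v) 0 := by
  classical
  let C : AddSubgroup F :=
    { carrier := {c | Rt B L a 0 c}
      zero_mem' := rt_zero S a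
      add_mem' := fun {x y} hx hy => by
        have := rt_add S hx hy
        simp only [add_zero, map_zero, LinearMap.zero_apply] at this
        exact this
      neg_mem' := fun {x} hx => by rw [neg_eq' S x]; exact hx }
  choose f hf using fun T : F => hP (T • v) (by rw [map_smul, hav, smul_zero])
  have hrt : ∀ T, Rt B L a (T • v) (f T) := fun T => ⟨by rw [map_smul, hav, smul_zero], hf T⟩
  obtain ⟨T₁, T₂, hne, heq⟩ : ∃ T₁ T₂, T₁ ≠ T₂ ∧
      (QuotientAddGroup.mk (f T₁) : F ⧸ C) = QuotientAddGroup.mk (f T₂) := by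
    by_contra hcon
    push Not at hcon
    have hinj : Function.Injective fun T => (QuotientAddGroup.mk (f T) : F ⧸ C) :=
      fun x y h => by_contra fun hne => hcon x y hne h
    have h1 := Nat.card_le_card_of_injective _ hinj
    have h2 := C.card_mul_index
    have h3 : 1 < Nat.card C := by
      haveI : Nontrivial C := ⟨⟨⟨0, C.zero_mem⟩, ⟨c₀, h₀⟩, fun h => hc₀ (congrArg Subtype.val h).symm⟩⟩
      exact Finite.one_lt_card
    have h4 : 0 < Nat.card F := Nat.card_pos
    rw [AddSubgroup.index] at h2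
    nlinarith
  refine ⟨T₁ + T₂, fun h => hne (by linear_combination h - add_self' S T₂), ?_⟩
  have hC : f T₁ + f T₂ ∈ C := by
    have := (QuotientAddGroup.eq.1 heq)
    rwa [neg_eq' S] at this
  have h1 := rt_add S (rt_add S (hrt T₁) (hrt T₂)) hC
  convert h1 using 1
  · rw [add_zero, add_smul]
  · simp only [map_smul, LinearMap.smul_apply, S.alt, map_zero, smul_zero, add_zero, add_self' S]

/-- A transvection at both centres gives all transvections at both. -/
theorem full_of_nonrigid [Finite F] {a b v : V} (hab : B a b = 1) (hav : B a v = 0)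
    (hbv : B b v = 0) (hv0 : v ≠ 0) (hPa : Proj B L a) (hPb : Proj B L b) {c₀ d₀ : F}
    (hc₀ : c₀ ≠ 0) (hac : Rt B L a 0 c₀) (hd₀ : d₀ ≠ 0) (hbd : Rt B L b 0 d₀) :
    ∀ c, Rt B L b 0 c := by
  haveI : CharP F 2 := CharTwo.of_one_ne_zero_of_two_eq_zero one_ne_zero S.two
  haveI : Fintype F := Fintype.ofFinite F
  obtain ⟨T, hT, hz⟩ := exists_zero S hL hav hPa hc₀ hac
  set v' := T • v with hv'
  have hbv' : B b v' = 0 := by rw [hv', map_smul, hbv, smul_zero]
  have hv'n : v' ∉ F ∙ b := fun hm => by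
    obtain ⟨k, hk⟩ := Submodule.mem_span_singleton.1 hm
    have h1 : B a v' = k := by rw [← hk, map_smul, hab, smul_eq_mul, mul_one]
    rw [hv', map_smul, hav, smul_zero] at h1
    rw [← h1, zero_smul] at hk
    exact smul_ne_zero hT hv0 hk.symm
  have hsq : ∀ x : F, ∃ y, y * y = x := fun x => by
    obtain ⟨y, hy⟩ := FiniteField.isSquare_of_char_two (ringChar.eq F 2) x
    exact ⟨y, hy.symm⟩
  have h0 : ∀ s, Rt B L b ((d₀ * s) • v') (d₀ * (s * s)) := fun s =>
    key_line S hL hab hbv' hv'n hz (t := 0) (by rw [zero_smul]; exact hbd) hPb s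
  have h1 : ∀ d : F, d ≠ 0 → ∀ X, Rt B L b (X • v') (X * X / d) := by
    intro d hd X
    obtain ⟨s, hs⟩ := hsq (d / d₀)
    have hd' : d₀ * (s * s) = d := by rw [hs, mul_div_cancel₀ _ hd₀]
    have := key_line S hL hab hbv' hv'n hz (hd' ▸ h0 s) hPb (X / d)
    convert this using 2 <;> field_simp
  intro c
  by_cases hc : c = 0
  · rw [hc]; exact rt_zero S b
  by_cases hq : ∃ d : F, d ≠ 0 ∧ d ≠ d₀
  · obtain ⟨d, hd, hdne⟩ := hq
    have hne : 1 / d₀ + 1 / d ≠ 0 := by
      intro h
      apply hdne
      have h' : 1 / d₀ = 1 / d := by linear_combination h - add_self' S (1 / d)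
      field_simp at h'
      exact h'
    obtain ⟨Y, hY⟩ := hsq (c / (1 / d₀ + 1 / d))
    have h2 := rt_add S (h1 d₀ hd₀ Y) (h1 d hd Y)
    rw [vadd_self S, S.alt, add_zero] at h2
    convert h2 using 1
    rw [div_eq_mul_inv (Y * Y), div_eq_mul_inv (Y * Y), hY, ← mul_add, ← one_div, ← one_div,
      div_mul_cancel₀ _ hne]
  · push Not at hq
    rw [hq c hc]
    exact hbd

/-- The transvections of a centre all lie in `L`. -/
def FullT (B : (ι → F) →ₗ[F] (ι → F) →ₗ[F] F) (L : Subgroup (GL ι F)) (a : ι → F) : Prop :=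
  ∀ c, Rt B L a 0 c

theorem fullT_conj {g : GL ι F} (hg : g ∈ L) {a : V} (h : FullT B L a) : FullT B L (act g a) :=
  fun c => by
    have := rt_conj S hL hg (h c)
    rwa [show act g (0 : V) = 0 from Matrix.mulVec_zero _] at this

theorem fullT_smul {a : V} {t : F} (ht : t ≠ 0) (h : FullT B L a) : FullT B L (t • a) := fun c => by
  have := rt_smul S ht (h (t * t * c))
  rwa [smul_zero, ← mul_assoc, inv_mul_cancel₀ (mul_ne_zero ht ht), one_mul] at this

/-- Two full centres and one full set of root elements give all transvections. -/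
theorem fullT_all {a b : V} (hab : B a b = 1) (ha : FullT B L a) (hb : FullT B L b)
    (hPa : Proj B L a) {p : V} (hp : p ≠ 0) : FullT B L p := by
  have hline : ∀ k : F, FullT B L (b + k • a) := fun k => by
    have := fullT_conj S hL (ha k).2 hb
    rwa [act_rel S (map_zero _), map_zero, zero_smul, smul_zero, symm S b a, hab, mul_one,
      add_zero, add_zero] at this
  have hone : ∀ y, B a y = 1 → FullT B L y := by
    intro y hy
    set u := y + B y b • a + b with hu
    have hua : B a u = 0 := by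
      rw [hu, map_add, map_add, map_smul, S.alt, hy, hab, smul_zero, add_zero, add_self' S]
    obtain ⟨c, hc⟩ := hPa u hua
    have hub : B b u = 0 := by
      rw [hu]
      simp only [map_add, map_smul, smul_eq_mul, S.alt, symm S b a, hab, symm S b y, mul_one,
        add_zero, add_self' S]
    have := fullT_conj S hL hc (hline (c + B y b))
    rw [act_rel S hua] at this
    simp only [map_add, map_smul, LinearMap.add_apply, LinearMap.smul_apply, smul_eq_mul, S.alt a,
      symm S b a, hab, hub, hua, mul_zero, mul_one, add_zero, zero_smul, one_smul] at this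
    convert this using 1
    rw [hu]
    linear_combination (norm := module) -(1 : F) • vadd_self S b - c • vadd_self S a
      - B y b • vadd_self S a
  have hne : ∀ y, B a y ≠ 0 → FullT B L y := fun y hy => by
    have := fullT_smul S hL hy (hone ((B a y)⁻¹ • y)
      (by rw [map_smul, smul_eq_mul, inv_mul_cancel₀ hy]))
    rwa [smul_smul, mul_inv_cancel₀ hy, one_smul] at this
  by_cases hp1 : B a p = 0
  swap
  · exact hne p hp1
  obtain ⟨z, hz1, hz2⟩ : ∃ z, B a z ≠ 0 ∧ B p z ≠ 0 := by
    obtain ⟨z', hz'⟩ := S.nd p hp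
    by_cases h1 : B a z' = 0
    · by_cases h2 : B p b = 0
      · exact ⟨z' + b, by rw [map_add, h1, hab, zero_add]; exact one_ne_zero,
          by rw [map_add, h2, add_zero]; exact hz'⟩
      · exact ⟨b, by rw [hab]; exact one_ne_zero, h2⟩
    · exact ⟨z', h1, hz'⟩
  have h1 : B a (p + z) ≠ 0 := by rw [map_add, hp1, zero_add]; exact hz1
  have := fullT_conj S hL (hne z hz1 (B (p + z) z)⁻¹).2 (hne _ h1)
  have hpz : B (p + z) z ≠ 0 := by rw [map_add, LinearMap.add_apply, S.alt, add_zero]; exact hz2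
  rw [act_rel S (map_zero _), map_zero, zero_smul, smul_zero, add_zero, add_zero,
    inv_mul_cancel₀ hpz, one_smul, add_assoc, vadd_self S, add_zero] at this
  exact this

end H38.SpX
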