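import Mathlib

/-!
Computations in the four-dimensional symplectic space over the field of two elements:
vectors are numbers below sixteen, a linear map is the list of images of the basis.
-/

set_option autoImplicit false

namespace H38.SpX.Two

/-- A linear map given by the images of the four basis vectors. -/
abbrev Code : Type := ℕ × ℕ × ℕ × ℕ

/-- Image of a vector. -/
def app (M : Code) (x : ℕ) : ℕ :=
  (bif x.testBit 0 then M.1 else 0) ^^^ (bif x.testBit 1 then M.2.1 else 0) ^^^
    (bif x.testBit 2 then M.2.2.1 else 0) ^^^ (bif x.testBit 3 then M.2.2.2 else 0)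

/-- Composition. -/
def mulC (M N : Code) : Code := (app M N.1, app M N.2.1, app M N.2.2.1, app M N.2.2.2)

/-- The identity. -/
def oneC : Code := (1, 2, 4, 8)

/-- The alternating form. -/
def bn (x y : ℕ) : Bool :=
  xor (xor (x.testBit 0 && y.testBit 1) (x.testBit 1 && y.testBit 0))
    (xor (x.testBit 2 && y.testBit 3) (x.testBit 3 && y.testBit 2))

/-- A root map on one vector. -/
def relApp (p v : ℕ) (c : Bool) (x : ℕ) : ℕ :=
  x ^^^ (bif bn x p then v else 0) ^^^ (bif xor (bn x v) (c && bn x p) then p else 0)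

/-- A root map. -/
def relC (p v : ℕ) (c : Bool) : Code :=
  (relApp p v c 1, relApp p v c 2, relApp p v c 4, relApp p v c 8)

/-- The generators at the two centres. -/
def gens (f₁ f₂ g₁ g₂ : Bool) : List Code :=
  [relC 1 4 f₁, relC 1 8 f₂, relC 2 4 g₁, relC 2 8 g₂]

/-- One round of multiplying by the generators. -/
def step (gs S : List Code) : List Code := (S ++ gs.flatMap fun g => S.map (mulC g)).eraseDups

/-- Products of at most `n` generators. -/
def words (gs : List Code) : ℕ → List Code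
  | 0 => [oneC]
  | n + 1 => step gs (words gs n)

/-- The group generated by the generators. -/
def grp (f₁ f₂ g₁ g₂ : Bool) : List Code := words (gens f₁ f₂ g₁ g₂) 9

/-- A product of generators. -/
def wordC (gs : List Code) (w : List ℕ) : Code :=
  w.foldr (fun i M => mulC (gs.getD i oneC) M) oneC

/-- The word giving a transvection for scalars at the two centres of different type. -/
def tvWord (f₁ f₂ g₁ g₂ : Bool) : List ℕ :=
  match f₁, f₂, g₁, g₂ with
  | false, false, true, true => [2, 0, 3, 1, 3, 0, 2, 1, 0]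
  | false, true, true, true => [3, 1, 2, 1, 3, 1, 0]
  | true, false, true, true => [2, 0, 3, 0, 2, 1, 0]
  | true, true, false, false => [2, 1, 2, 1, 2, 1, 0]
  | true, true, false, true => [2, 1, 2, 1, 2, 1, 0]
  | true, true, true, false => [2, 0, 3, 0, 2, 1, 0]
  | _, _, _, _ => []

/-- The three possibilities for the scalars at the two centres. -/
theorem trichotomy : ∀ f₁ f₂ g₁ g₂ : Bool,
    wordC (gens f₁ f₂ g₁ g₂) (tvWord f₁ f₂ g₁ g₂) = relC 1 0 true ∨ (g₁ = f₁ ∧ g₂ = f₂) ∨
      (120 ≤ (grp f₁ f₂ g₁ g₂).length ∧ (grp f₁ f₂ g₁ g₂).Nodup ∧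
        ∀ M ∈ grp f₁ f₂ g₁ g₂, M.1 < 16 ∧ M.2.1 < 16 ∧ M.2.2.1 < 16 ∧ M.2.2.2 < 16) := by
  decide +kernel

/-- The quadratic form with given values on the middle vectors. -/
def qn (f₁ f₂ : Bool) (x : ℕ) : Bool :=
  xor (xor (x.testBit 0 && x.testBit 1) (x.testBit 2 && x.testBit 3))
    (xor (f₁ && x.testBit 2) (f₂ && x.testBit 3))

/-- Isometries of the quadratic form. -/
def orths (f₁ f₂ : Bool) : List Code :=
  ((List.range 16).filter fun x => !qn f₁ f₂ x).flatMap fun m₀ =>
    ((List.range 16).filter fun x => !qn f₁ f₂ x && bn m₀ x).flatMap fun m₁ =>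
      ((List.range 16).filter fun x => (qn f₁ f₂ x == f₁) && !bn m₀ x && !bn m₁ x).flatMap fun m₂ =>
        (((List.range 16).filter fun x =>
          (qn f₁ f₂ x == f₂) && !bn m₀ x && !bn m₁ x && bn m₂ x).map fun m₃ => (m₀, m₁, m₂, m₃))

/-- The number of fixed vectors. -/
def fixCount (M : Code) : ℕ := ((List.range 16).filter fun x => app M x == x).length

/-- The fixed vectors of an even map. -/
def evenFix (M : Code) : Bool := fixCount M == 16 || fixCount M == 4 || fixCount M == 1

/-- The singular vectors, zero included. -/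
def sing (f₁ f₂ : Bool) : List ℕ := (List.range 16).filter fun x => !qn f₁ f₂ x

theorem grp_facts : ∀ f₁ f₂ : Bool,
    360 ≤ (sing f₁ f₂).length * (grp f₁ f₂ f₁ f₂).length ∧ (grp f₁ f₂ f₁ f₂).Nodup ∧
      ∀ M ∈ grp f₁ f₂ f₁ f₂, M.1 < 16 ∧ M.2.1 < 16 ∧ M.2.2.1 < 16 ∧ M.2.2.2 < 16 := by
  decide +kernel

theorem orth_facts : ∀ f₁ f₂ : Bool, ∀ M ∈ orths f₁ f₂,
    (evenFix M = true → M ∈ grp f₁ f₂ f₁ f₂) ∧
      (evenFix M = false → mulC (relC 3 0 true) M ∈ grp f₁ f₂ f₁ f₂) := by
  decide +kernel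

theorem zero_facts : ∀ f₁ f₂ : Bool, ∀ p ∈ List.range 16, qn f₁ f₂ p = true →
    ((List.range 16).filter fun x => !xor (qn f₁ f₂ x) (bn x p)).length ≠
      (sing f₁ f₂).length := by
  decide +kernel

theorem orbit_facts : ∀ f₁ f₂ : Bool, ∀ p ∈ sing f₁ f₂, p ≠ 0 →
    ∃ M ∈ grp f₁ f₂ f₁ f₂, app M 1 = p := by
  decide +kernel

end H38.SpX.Two
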