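import Cfsg.Agent.H38.SpRootCalc

/-!
Two centres without transvections: the scalars on a line are the same quadratic function.
-/

set_option autoImplicit false
set_option linter.unusedSectionVars false

namespace H38.SpX

open Matrix H45
open scoped MatrixGroups

variable {F : Type*} [Field F] {ι : Type} [Fintype ι] [DecidableEq ι]
  {B : (ι → F) →ₗ[F] (ι → F) →ₗ[F] F}

local notation "V" => (ι → F)

variable {L : Subgroup (GL ι F)} (S : SForm B) (hL : L ≤ spG B)
include S

theorem not_mem_line {a b v : V} (hab : B a b = 1) (hav : B a v = 0) (hv0 : v ≠ 0) :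
    v ∉ F ∙ b := fun hm => by
  obtain ⟨k, hk⟩ := Submodule.mem_span_singleton.1 hm
  have h1 : B a v = k := by rw [← hk, map_smul, hab, smul_eq_mul, mul_one]
  rw [hav] at h1
  rw [← h1, zero_smul] at hk
  exact hv0 hk.symm

include hL

/-- A second centre on an isotropic line determines the scalars at the first. -/
theorem second_centre {a v : V} {ε t c : F} (hv : v ∉ F ∙ a) (hav : B a v = 0)
    (hP : Proj B L a) (h1 : Rt B L (a + ε • v) (t • v) c) (s : F) :
    Rt B L a ((c * (ε * ε) * s) • v) (c * (ε * ε) * (s * s)) := by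
  obtain ⟨u, hu1, hu2⟩ := exists_sep₁ S hv s
  obtain ⟨e, he⟩ := hP u hu1
  have hfix : act (rel B (a + ε • v) (t • v) c) a = a := by
    rw [act_rel S h1.1]
    simp [map_add, S.alt, hav]
  have h2 := rt_move S hL h1.2 hfix (⟨hu1, he⟩ : Rt B L a u e)
  have e1 : act (rel B (a + ε • v) (t • v) c) u =
      u + (ε * s * t) • v + (t * s) • (a + ε • v) + (c * (ε * s)) • (a + ε • v) := by
    rw [act_rel S h1.1]
    simp only [map_add, map_smul, smul_eq_mul, symm S u a, hu1, symm S u v, hu2, zero_add]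
    module
  rw [e1] at h2
  have h3 := rt_shift S h2 (t * s + c * (ε * s))
  convert h3 using 1
  · linear_combination (norm := module) -(1 : F) • vadd_self S u -
      (t * s + c * (ε * s)) • vadd_self S a - (t * s * ε) • vadd_self S v
  · simp only [map_add, map_smul, smul_eq_mul, S.alt u, symm S u a, hu1, symm S u v, hu2]
    linear_combination -(add_self' S (ε * s * s * t))

/-- The element shifting one centre along the line of a zero. -/
theorem rt_shift_centre {a b v : V} {t d : F} (hab : B a b = 1) (hbv : B b v = 0)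
    (ha : Rt B L a v 0) (hb : Rt B L b (t • v) d) : Rt B L v (d • b) d := by
  have h1 := rt_conj S hL hb.2 (rt_symm S ha)
  have e1 : act (rel B b (t • v) d) a = a + t • v + d • b := by
    rw [act_rel S hb.1, hab, map_smul, ha.1]; simp
  have e2 : act (rel B b (t • v) d) v = v := by
    rw [act_rel S hb.1, symm S v b, hbv, map_smul, S.alt]; simp
  rw [e1, e2] at h1
  have hK := rt_shift S (rt_add S h1 (rt_symm S ha)) t
  convert hK using 1
  · linear_combination (norm := module) -(1 : F) • vadd_self S a - t • vadd_self S v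
  · simp only [map_add, map_smul, LinearMap.add_apply, LinearMap.smul_apply, smul_eq_mul, S.alt a,
      symm S v a, ha.1, symm S b a, hab, mul_one, mul_zero, add_zero, zero_add]

/-- A zero on a line at one centre forces zeros at the other. -/
theorem line_zero {a b v : V} (hq : ∃ x : F, x ≠ 0 ∧ x ≠ 1) (hab : B a b = 1) (hav : B a v = 0)
    (hbv : B b v = 0) (hv0 : v ≠ 0) (hPa : Proj B L a) (hPb : Proj B L b) (hRa : Rgd B L a)
    (hRb : Rgd B L b) (hz : Rt B L a v 0) : ∀ T : F, Rt B L b (T • v) 0 := by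
  intro t
  have htb : B b (t • v) = 0 := by rw [map_smul, hbv, smul_zero]
  obtain ⟨d, hd⟩ := hPb _ htb
  by_cases hd0 : d = 0
  · rw [hd0] at hd; exact ⟨htb, hd⟩
  exfalso
  have hba : B b a = 1 := by rw [symm S, hab]
  have hvb := not_mem_line S hab hav hv0
  have hva := not_mem_line S hba hbv hv0
  have hquad : ∀ X, Rt B L b (X • v) (X * X / d) := fun X => by
    have := key_line S hL hab hbv hvb hz ⟨htb, hd⟩ hPb (X / d)
    convert this using 2 <;> field_simp
  have hK := rt_shift_centre S hL hab hbv hz ⟨htb, hd⟩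
  have eK1 : act (rel B v (d • b) d) a = a + d • v := by
    rw [act_rel S hK.1, hav, map_smul, hab]; simp
  by_cases hnz : ∃ T : F, ∃ c : F, c ≠ 0 ∧ Rt B L a (T • v) c
  · obtain ⟨T, c, hc, hTc⟩ := hnz
    have eK2 : act (rel B v (d • b) d) (T • v) = T • v := by
      rw [act_rel S hK.1]
      simp [S.alt, symm S v b, hbv]
    have h1 := rt_conj S hL hK.2 hTc
    rw [eK1, eK2] at h1
    have h2 := second_centre S hL hva hav hPa h1 (c * (d * d))⁻¹
    have hne : c * (d * d) ≠ 0 := mul_ne_zero hc (mul_ne_zero hd0 hd0)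
    rw [mul_inv_cancel₀ hne, one_smul, ← mul_assoc, mul_inv_cancel₀ hne, one_mul] at h2
    exact inv_ne_zero hne (rt_inj S hL hRa h2 hz)
  · push Not at hnz
    obtain ⟨s, hs0, hs1⟩ := hq
    have hsv : B a (s • v) = 0 := by rw [map_smul, hav, smul_zero]
    obtain ⟨c, hc⟩ := hPa _ hsv
    have hz' : Rt B L a (s • v) 0 := by
      by_contra h
      have hc0 : c ≠ 0 := fun e => h ⟨hsv, e ▸ hc⟩
      exact hnz s c hc0 ⟨hsv, hc⟩
    have hsvb : s • v ∉ F ∙ b := fun h => hvb ((Submodule.smul_mem_iff _ hs0).1 h)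
    have h1 := key_line S hL hab (by rw [map_smul, hbv, smul_zero]) hsvb hz' (t := t / s)
      (by rw [smul_smul, div_mul_cancel₀ _ hs0]; exact ⟨htb, hd⟩) hPb 1
    rw [smul_smul] at h1
    have h2 := rt_inj S hL hRb h1 (hquad (d * 1 * s))
    apply hs1
    field_simp at h2
    have h3 : (s - 1) * (s - 1) = 0 := by linear_combination -h2 - add_self' S (s - 1)
    rcases mul_eq_zero.1 h3 with h | h <;> exact sub_eq_zero.1 h

/-- The element interchanging two centres. -/
theorem swap_elem {a b v : V} {s t d : F} (hd : d ≠ 0) (hab : B a b = 1) (hav : B a v = 0)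
    (hbv : B b v = 0) (ha : Rt B L a (s • v) (1 / d)) (hb : Rt B L b (t • v) d) :
    ∃ g ∈ L, act g a = d • b + (d * (s + t / d)) • v ∧ act g b = (1 / d) • a + (s + t / d) • v ∧
      act g v = v := by
  refine ⟨rel B a (s • v) (1 / d) * rel B b (t • v) d * rel B a (s • v) (1 / d),
    mul_mem (mul_mem ha.2 hb.2) ha.2, ?_, ?_, ?_⟩
  all_goals
    rw [act_mul, act_mul]
    simp only [act_rel S ha.1, act_rel S hb.1, map_add, map_smul, LinearMap.add_apply,
      LinearMap.smul_apply, smul_eq_mul, S.alt a, S.alt b, S.alt v, hab, symm S b a, hav, hbv,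
      symm S v a, symm S v b, mul_zero, mul_one, add_zero, zero_add, zero_smul, one_smul]
    try field_simp
  · linear_combination (norm := module) (1 : F) • vadd_self S a
  · linear_combination (norm := (match_scalars <;> field_simp <;> ring)) (1 : F) • vadd_self S b + ((1 : F) / d) • vadd_self S a + s • vadd_self S v

/-- Torus elements make the scalars on a line without zeros homogeneous. -/
theorem line_torus [Finite F] {a b v : V} (hq : ∃ x : F, x ≠ 0 ∧ x ≠ 1) (hab : B a b = 1)
    (hav : B a v = 0) (hbv : B b v = 0) (hv0 : v ≠ 0) (hPa : Proj B L a)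
    (hRa : Rgd B L a) {f g : F → F} (hfa : ∀ T, Rt B L a (T • v) (f T))
    (hgb : ∀ T, Rt B L b (T • v) (g T)) (hfs : Function.Surjective f)
    (hgs : Function.Surjective g) (hfz : ∀ T, T ≠ 0 → f T ≠ 0) :
    (∀ T, f T = T * T * f 1) ∧ ∀ d, d ≠ 0 → ∃ s t s' t', f s = 1 / d ∧ g t = d ∧ f s' = 1 ∧
      g t' = 1 ∧ s + t / d = s' + t' := by
  classical
  have hva := not_mem_line S (show B b a = 1 by rw [symm S, hab]) hbv hv0
  obtain ⟨x₁, hx₁0, hx₁1⟩ := hq
  -- swap elements
  choose sF hsF using fun d : F => hfs (1 / d)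
  choose tF htF using hgs
  set δ : F → F := fun d => sF d + tF d / d with hδ
  have hW : ∀ d, d ≠ 0 → ∃ h ∈ L, act h a = d • b + (d * δ d) • v ∧
      act h b = (1 / d) • a + δ d • v ∧ act h v = v := fun d hd =>
    swap_elem S hL hd hab hav hbv (hsF d ▸ hfa (sF d)) (by have := hgb (tF d); rwa [htF d] at this)
  have lin : ∀ (h : GL ι F) (x y : V) (c : F), act h (x + c • y) = act h x + c • act h y :=
    fun h x y c => by simp [act, Matrix.mulVec_add, Matrix.mulVec_smul]
  have lin' : ∀ (h : GL ι F) (y : V) (c : F), act h (c • y) = c • act h y :=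
    fun h y c => by simp [act, Matrix.mulVec_smul]
  have htor : ∀ d, d ≠ 0 → δ d + δ 1 = 0 ∧ ∀ T, f ((1 / d) * T) = (1 / d) * (1 / d) * f T := by
    intro d hd
    obtain ⟨h₁, hh₁, a1, -, v1⟩ := hW 1 one_ne_zero
    obtain ⟨h₂, hh₂, -, b2, v2⟩ := hW d hd
    have hh : h₂ * h₁ ∈ L := mul_mem hh₂ hh₁
    have ea : act (h₂ * h₁) a = (1 / d) • a + (δ d + δ 1) • v := by
      rw [act_mul, a1, lin, lin', b2, v2, one_smul, one_mul]; simp only [hδ]; module
    have ev : ∀ T : F, act (h₂ * h₁) (T • v) = T • v := fun T => by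
      rw [act_mul, lin', lin', v1, v2]
    have hd' : (1 : F) / d ≠ 0 := one_div_ne_zero hd
    set ε := (δ d + δ 1) * d with hε
    have hmap : ∀ T, Rt B L (a + ε • v) (((1 : F) / d * T) • v)
        ((1 / d) * (1 / d) * f T) := by
      intro T
      have h1 := rt_conj S hL hh (hfa T)
      rw [ea, ev, show (1 / d) • a + (δ d + δ 1) • v = (1 / d : F) • (a + ε • v) by
        rw [hε, smul_add, smul_smul]; congr 2; field_simp] at h1
      have h2 := rt_smul' S hd' h1
      rwa [smul_smul] at h2
    have hμ : δ d + δ 1 = 0 := by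
      by_contra hμ
      have hε0 : ε ≠ 0 := mul_ne_zero hμ hd
      have hval : ∀ T, T ≠ 0 → f 1 = 1 / ((1 / d) * (1 / d) * f T * (ε * ε)) := by
        intro T hT
        set c := (1 / d) * (1 / d) * f T * (ε * ε) with hc
        have hc0 : c ≠ 0 := mul_ne_zero (mul_ne_zero (mul_ne_zero hd' hd') (hfz T hT))
          (mul_ne_zero hε0 hε0)
        have h2 := second_centre S hL hva hav hPa (hmap T) c⁻¹
        rw [← hc, mul_inv_cancel₀ hc0, ← mul_assoc, mul_inv_cancel₀ hc0, one_mul] at h2
        rw [one_div]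
        exact rt_inj S hL hRa (hfa 1) h2
      obtain ⟨T₁, hT₁⟩ := hfs 1
      obtain ⟨T₂, hT₂⟩ := hfs x₁
      have hz : f 0 = 0 := rt_inj S hL hRa (hfa 0) (by rw [zero_smul]; exact rt_zero S a)
      have n1 : T₁ ≠ 0 := fun e => one_ne_zero (α := F) (by rw [← hT₁, e, hz])
      have n2 : T₂ ≠ 0 := fun e => hx₁0 (by rw [← hT₂, e, hz])
      have e := (hval T₁ n1).symm.trans (hval T₂ n2)
      rw [hT₁, hT₂] at e
      apply hx₁1
      field_simp at e
      exact e
    refine ⟨hμ, fun T => ?_⟩
    have := hmap T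
    rw [hε, hμ, zero_mul, zero_smul, add_zero] at this
    exact rt_inj S hL hRa (hfa _) this
  have hf2 : ∀ T, f T = T * T * f 1 := by
    intro T
    by_cases hT : T = 0
    · rw [hT, zero_mul, zero_mul]
      exact rt_inj S hL hRa (hfa 0) (by rw [zero_smul]; exact rt_zero S a)
    · have := (htor T⁻¹ (inv_ne_zero hT)).2 1
      rwa [one_div, inv_inv, mul_one] at this
  refine ⟨hf2, fun d hd => ⟨sF d, tF d, sF 1, tF 1, hsF d, htF d, by rw [hsF, div_one], htF 1, ?_⟩⟩
  have h := (htor d hd).1
  simp only [hδ, div_one] at h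
  linear_combination h - add_self' S (sF 1 + tF 1)

/-- On each line both centres carry the same quadratic scalar. -/
theorem line_main [Finite F] {a b v : V} (hq : ∃ x : F, x ≠ 0 ∧ x ≠ 1) (hab : B a b = 1)
    (hav : B a v = 0) (hbv : B b v = 0) (hv0 : v ≠ 0) (hPa : Proj B L a) (hPb : Proj B L b)
    (hRa : Rgd B L a) (hRb : Rgd B L b) :
    ∃ k, ∀ T : F, Rt B L a (T • v) (T * T * k) ∧ Rt B L b (T • v) (T * T * k) := by
  classical
  have hba : B b a = 1 := by rw [symm S, hab]
  have hmem : ∀ {p : V}, B p v = 0 → ∀ T : F, B p (T • v) = 0 := fun h T => by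
    rw [map_smul, h, smul_zero]
  choose f hf using fun T : F => hPa (T • v) (hmem hav T)
  choose g hg using fun T : F => hPb (T • v) (hmem hbv T)
  have hfa : ∀ T, Rt B L a (T • v) (f T) := fun T => ⟨hmem hav T, hf T⟩
  have hgb : ∀ T, Rt B L b (T • v) (g T) := fun T => ⟨hmem hbv T, hg T⟩
  by_cases hzero : ∃ T, T ≠ 0 ∧ (f T = 0 ∨ g T = 0)
  · obtain ⟨T, hT, hT'⟩ := hzero
    have hTv : T • v ≠ 0 := smul_ne_zero hT hv0
    have key0 : ∀ p p' : V, B p p' = 1 → B p v = 0 → B p' v = 0 → Proj B L p → Proj B L p' →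
        Rgd B L p → Rgd B L p' → Rt B L p (T • v) 0 → ∀ X : F, Rt B L p' (X • v) 0 := by
      intro p p' hpp hp hp' hP hP' hR hR' hz X
      have := line_zero S hL hq hpp (hmem hp T) (hmem hp' T) hTv hP hP' hR hR' hz (X / T)
      rwa [smul_smul, div_mul_cancel₀ _ hT] at this
    refine ⟨0, fun X => ?_⟩
    rw [mul_zero]
    rcases hT' with h | h
    · have h1 := key0 a b hab hav hbv hPa hPb hRa hRb (h ▸ hfa T)
      exact ⟨key0 b a hba hbv hav hPb hPa hRb hRa (h1 T) X, h1 X⟩
    · have h1 := key0 b a hba hbv hav hPb hPa hRb hRa (h ▸ hgb T)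
      exact ⟨h1 X, key0 a b hab hav hbv hPa hPb hRa hRb (h1 T) X⟩
  push Not at hzero
  have hsurj : ∀ (p : V) (h : F → F), Rgd B L p → (∀ T, Rt B L p (T • v) (h T)) →
      (∀ T, T ≠ 0 → h T ≠ 0) → Function.Surjective h := by
    intro p h hR hh hne
    refine Finite.surjective_of_injective fun x y hxy => ?_
    by_contra hne'
    refine hne (x + y) (fun e => hne' (by linear_combination e - add_self' S y)) ?_
    have h1 := rt_add S (hh x) (hh y)
    rw [← add_smul, hxy, add_self' S, zero_add] at h1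
    simp only [map_smul, LinearMap.smul_apply, S.alt, smul_zero] at h1
    exact rt_inj S hL hR (hh (x + y)) h1
  have hfs := hsurj a f hRa hfa fun T hT => (hzero T hT).1
  have hgs := hsurj b g hRb hgb fun T hT => (hzero T hT).2
  obtain ⟨hf2, hδ⟩ := line_torus S hL hq hab hav hbv hv0 hPa hRa hfa hgb hfs hgs
    fun T hT => (hzero T hT).1
  obtain ⟨hg2, -⟩ := line_torus S hL hq hba hbv hav hv0 hPb hRb hgb hfa hgs hfs
    fun T hT => (hzero T hT).2
  set k := f 1
  set k' := g 1
  have hk : k ≠ 0 := (hzero 1 one_ne_zero).1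
  have hk' : k' ≠ 0 := (hzero 1 one_ne_zero).2
  obtain ⟨d, hd0, hd1⟩ := hq
  obtain ⟨s, t, s', t', e1, e2, e3, e4, e5⟩ := hδ d hd0
  rw [hf2] at e1 e3
  rw [hg2] at e2 e4
  have hkk : k = k' := by
    have h1 : (s + t / d) * (s + t / d) = (1 / k + 1 / k') / d := by
      have : (s + t / d) * (s + t / d) = s * s + t * t / (d * d) := by
        field_simp
        linear_combination add_self' S (s * d * t)
      rw [this]
      field_simp
      field_simp at e1 e2
      linear_combination (k' * d) * e1 + k * e2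
    have h2 : (s' + t') * (s' + t') = 1 / k + 1 / k' := by
      have : (s' + t') * (s' + t') = s' * s' + t' * t' := by
        linear_combination add_self' S (s' * t')
      rw [this]
      field_simp
      linear_combination k' * e3 + k * e4
    rw [e5, h2] at h1
    have h3 : (1 / k + 1 / k') * (d - 1) = 0 := by
      field_simp at h1 ⊢
      linear_combination h1
    have h4 := (mul_eq_zero.1 h3).resolve_right (sub_ne_zero.2 hd1)
    field_simp at h4
    linear_combination h4 - add_self' S k'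
  exact ⟨k, fun T => ⟨hf2 T ▸ hfa T, hkk ▸ hg2 T ▸ hgb T⟩⟩

end H38.SpX
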