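import Cfsg.Agent.H38.SpRootQuad
import Cfsg.Agent.H43.Bridge
import Cfsg.Agent.H43.Wall

/-!
A group with all root elements of an orthogonal group contains a subgroup of index two.
-/

set_option autoImplicit false
set_option linter.unusedSectionVars false

namespace H38.SpX

open Matrix H45
open scoped MatrixGroups

variable {F : Type*} [Field F] {ι : Type} [Fintype ι] [DecidableEq ι]
  {B : (ι → F) →ₗ[F] (ι → F) →ₗ[F] F}

local notation "V" => (ι → F)

variable {Q : QuadraticForm F (ι → F)}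

/-- The group generated by the root elements of the quadratic form. -/
def eSub (B : (ι → F) →ₗ[F] (ι → F) →ₗ[F] F) (Q : QuadraticForm F (ι → F)) : Subgroup (GL ι F) :=
  Subgroup.closure {g | ∃ p v, Q p = 0 ∧ B p v = 0 ∧ g = rel B p v (Q v)}

theorem rel_mem_eSub {p v : V} (hp : Q p = 0) (hv : B p v = 0) : rel B p v (Q v) ∈ eSub B Q :=
  Subgroup.subset_closure ⟨p, v, hp, hv, rfl⟩

theorem mem_iso {g : GL ι F} : g ∈ Cfsg.isometryGroup F ⇑Q ↔ ∀ x, Q (act g x) = Q x :=
  ⟨fun h x => h x x, fun h u _ => h u⟩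

variable (S : SForm B) (hadd : ∀ x y, Q (x + y) = Q x + Q y + B x y)
include S

theorem exists_sqrt [Finite F] (x : F) : ∃ y, y ^ 2 = x := by
  haveI : CharP F 2 := CharTwo.of_one_ne_zero_of_two_eq_zero one_ne_zero S.two
  obtain ⟨y, hy⟩ := FiniteField.isSquare_of_char_two (ringChar.eq F 2) x
  exact ⟨y, by rw [hy, sq]⟩

include hadd

theorem iso_le_spG : Cfsg.isometryGroup F ⇑Q ≤ spG B := by
  intro g hg
  refine mem_spG.2 fun u v => ?_
  have h := mem_iso.1 hg (u + v)
  rw [show act g (u + v) = act g u + act g v from Matrix.mulVec_add _ _ _, hadd, hadd,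
    mem_iso.1 hg u, mem_iso.1 hg v] at h
  exact add_left_cancel h

theorem eSub_conj {g : GL ι F} (hg : g ∈ Cfsg.isometryGroup F ⇑Q) {e : GL ι F}
    (he : e ∈ eSub B Q) : g * e * g⁻¹ ∈ eSub B Q := by
  induction he using Subgroup.closure_induction with
  | mem x hx =>
    obtain ⟨p, v, hp, hv, rfl⟩ := hx
    rw [rel_conj S (iso_le_spG S hadd hg) hv, ← mem_iso.1 hg v]
    exact rel_mem_eSub (by rw [mem_iso.1 hg, hp])
      (by rw [mem_spG.1 (iso_le_spG S hadd hg), hv])
  | one => simp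
  | mul x y _ _ hx hy =>
    rw [show g * (x * y) * g⁻¹ = g * x * g⁻¹ * (g * y * g⁻¹) by group]
    exact mul_mem hx hy
  | inv x _ hx =>
    rw [show g * x⁻¹ * g⁻¹ = (g * x * g⁻¹)⁻¹ by group]
    exact inv_mem hx

theorem eSub_le : eSub B Q ≤ Cfsg.isometryGroup F ⇑Q := by
  refine (Subgroup.closure_le _).2 ?_
  rintro g ⟨p, v, hp, hv, rfl⟩
  refine mem_iso.2 fun x => ?_
  rw [act_rel S hv]
  simp only [hadd, map_add, map_smul, LinearMap.add_apply, LinearMap.smul_apply, smul_eq_mul,
    QuadraticMap.map_smul, hp, symm S v p, hv, S.alt, mul_zero, add_zero]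
  linear_combination add_self' S (B x v * B x p) + add_self' S (B x p * B x p * Q v)

/-- All vectors of value one lie in one orbit. -/
theorem eSub_transitive [Finite F] {a b : V} (ha : Q a = 0) (hb : Q b = 0) (hab : B a b = 1)
    (h4 : 4 ≤ Fintype.card ι) {y : V} (hy : Q y = 1) :
    ∃ e ∈ eSub B Q, act e y = a + b := by
  haveI : CharP F 2 := CharTwo.of_one_ne_zero_of_two_eq_zero one_ne_zero S.two
  haveI : Fintype F := Fintype.ofFinite F
  have hba : B b a = 1 := by rw [symm S, hab]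
  -- clearing the middle component
  have clear : ∀ y, Q y = 1 → B a y ≠ 0 →
      ∃ e ∈ eSub B Q, act e y = (B a y)⁻¹ • a + B a y • b := by
    intro y hy hβ
    set β := B a y with hβdef
    set u := y + B b y • a + β • b with hu
    have hua : B a u = 0 := by simp [hu, S.alt, hab, ← hβdef, add_self' S]
    have hub : B b u = 0 := by simp [hu, S.alt, hba, add_self' S]
    have hv : B a (β⁻¹ • u) = 0 := by rw [map_smul, hua, smul_zero]
    refine ⟨_, rel_mem_eSub ha hv, ?_⟩
    obtain ⟨k, hk⟩ : ∃ k, act (rel B a (β⁻¹ • u) (Q (β⁻¹ • u))) y = k • a + β • b := by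
      refine ⟨B b y + B y (β⁻¹ • u) + Q (β⁻¹ • u) * β, ?_⟩
      rw [act_rel S hv, symm S y a, ← hβdef, smul_smul, mul_inv_cancel₀ hβ, one_smul, hu]
      linear_combination (norm := module) (1 : F) • vadd_self S y
    rw [hk]
    have h1 : Q (k • a + β • b) = 1 := by
      rw [← hk, mem_iso.1 (eSub_le S hadd (rel_mem_eSub ha hv)), hy]
    rw [hadd, QuadraticMap.map_smul, QuadraticMap.map_smul, ha, hb] at h1
    simp only [map_smul, LinearMap.smul_apply, hab, smul_eq_mul, mul_zero, zero_add,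
      mul_one] at h1
    rw [show k = β⁻¹ from eq_inv_of_mul_eq_one_right h1]
  -- reaching a non-zero coefficient
  obtain ⟨e₁, he₁, hne⟩ : ∃ e ∈ eSub B Q, B a (act e y) ≠ 0 := by
    by_cases hβ : B a y = 0
    swap
    · exact ⟨1, one_mem _, by simpa [act] using hβ⟩
    set α := B b y with hα
    set u := y + α • a with hu
    have hua : B a u = 0 := by simp [hu, S.alt, hβ]
    have hub : B b u = 0 := by simp [hu, hba, ← hα, add_self' S]
    have hQu : Q u = 1 := by
      rw [hu, hadd, QuadraticMap.map_smul, ha, hy, map_smul, symm S y a, hβ]; simp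
    by_cases hα0 : α = 0
    · have hun : y ∉ Submodule.span F {a, b} := fun hm => by
        obtain ⟨r, s, rfl⟩ := Submodule.mem_span_pair.1 hm
        simp only [map_add, map_smul, smul_eq_mul, S.alt, hab, hba, mul_zero, mul_one, add_zero,
          zero_add, hα] at hβ hα0
        rw [hβ, hα0, zero_smul, zero_smul, add_zero, QuadraticMap.map_zero] at hy
        exact zero_ne_one hy
      obtain ⟨v, hv1, hv2, hv3⟩ := exists_sep₂ S hun 1
      refine ⟨_, rel_mem_eSub hb hv2, ?_⟩
      rw [act_rel S hv2, symm S y b, ← hα, hα0]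
      simp [hβ, hv3, hab]
    · refine ⟨_, rel_mem_eSub hb hub, ?_⟩
      rw [act_rel S hub, symm S y b, ← hα, hQu, one_mul]
      have : B y u = 0 := by
        rw [hu, map_add, S.alt, map_smul, symm S y a, hβ, smul_zero, add_zero]
      rw [this]
      simpa [hβ, hua, hab] using hα0
  obtain ⟨e₂, he₂, h2⟩ := clear (act e₁ y) (by rw [mem_iso.1 (eSub_le S hadd he₁), hy]) hne
  set β := B a (act e₁ y)
  -- changing the coefficient
  obtain ⟨v, hva, hvb, hQv⟩ : ∃ v, B a v = 0 ∧ B b v = 0 ∧ Q v = (1 + β) * β := by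
    obtain ⟨v₀, h1, h2, h3⟩ : ∃ v, B a v = 0 ∧ B b v = 0 ∧ Q v ≠ 0 := by
      let f : V →ₗ[F] (Fin 2 → F) := LinearMap.pi ![B a, B b]
      have hf := f.finrank_range_add_finrank_ker
      have hf' := Submodule.finrank_le (LinearMap.range f)
      rw [Module.finrank_pi] at hf
      rw [Module.finrank_pi, Fintype.card_fin] at hf'
      have hne : LinearMap.ker f ≠ ⊥ := fun h => by
        rw [h, finrank_bot] at hf; omega
      obtain ⟨v, hv, hv0⟩ := Submodule.exists_mem_ne_zero_of_ne_bot hne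
      have hv' := fun i => congrFun (LinearMap.mem_ker.1 hv) i
      have hva : B a v = 0 := hv' 0
      have hvb : B b v = 0 := hv' 1
      have hvn : v ∉ Submodule.span F {a, b} := fun hm => by
        obtain ⟨r, s, rfl⟩ := Submodule.mem_span_pair.1 hm
        simp only [map_add, map_smul, smul_eq_mul, S.alt, hab, hba, mul_zero, mul_one, add_zero,
          zero_add] at hva hvb
        exact hv0 (by rw [hva, hvb, zero_smul, zero_smul, add_zero])
      obtain ⟨w, hwa, hwb, hvw⟩ := exists_sep₂ S hvn 1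
      by_cases h1 : Q v = 0
      · by_cases h2 : Q w = 0
        · exact ⟨v + w, by rw [map_add, hva, hwa, add_zero], by rw [map_add, hvb, hwb, add_zero],
            by rw [hadd, h1, h2, hvw]; simp⟩
        · exact ⟨w, hwa, hwb, h2⟩
      · exact ⟨v, hva, hvb, h1⟩
    obtain ⟨T, hT⟩ := exists_sqrt S ((1 + β) * β / Q v₀)
    refine ⟨T • v₀, by rw [map_smul, h1, smul_zero], by rw [map_smul, h2, smul_zero], ?_⟩
    rw [QuadraticMap.map_smul, smul_eq_mul, ← sq, hT, div_mul_cancel₀ _ h3]
  set e₃ := rel B b v (Q v)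
  have he₃ : e₃ ∈ eSub B Q := rel_mem_eSub hb hvb
  have h3 : B a (act e₃ (β⁻¹ • a + β • b)) = 1 := by
    rw [act_rel S hvb, hQv]
    simp only [map_add, map_smul, LinearMap.add_apply, LinearMap.smul_apply, smul_eq_mul, S.alt,
      hab, hva, symm S v b, hvb, mul_zero, mul_one, add_zero, zero_add]
    field_simp
    linear_combination add_self' S β
  have hall : e₃ * (e₂ * e₁) ∈ eSub B Q := mul_mem he₃ (mul_mem he₂ he₁)
  obtain ⟨e₄, he₄, h4'⟩ := clear (act (e₃ * (e₂ * e₁)) y)
    (by rw [mem_iso.1 (eSub_le S hadd hall), hy])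
    (by rw [act_mul, act_mul, h2, h3]; exact one_ne_zero)
  refine ⟨e₄ * (e₃ * (e₂ * e₁)), mul_mem he₄ hall, ?_⟩
  rw [act_mul, h4', act_mul, act_mul, h2, h3, inv_one, one_smul, one_smul]

/-- The two cosets, told apart by the rank. -/
theorem iso_cosets [Finite F] {a b : V} (ha : Q a = 0) (hb : Q b = 0) (hab : B a b = 1)
    (h4 : 4 ≤ Fintype.card ι) (hbig : (∃ x : F, x ≠ 0 ∧ x ≠ 1) ∨ 5 ≤ Fintype.card ι) {g : GL ι F}
    (hg : g ∈ Cfsg.isometryGroup F ⇑Q) :
    (Even ((g : Matrix ι ι F) - 1).rank ∧ g ∈ eSub B Q) ∨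
      (¬ Even ((g : Matrix ι ι F) - 1).rank ∧ rel B (a + b) 0 1 * g ∈ eSub B Q) := by
  haveI : CharP F 2 := CharTwo.of_one_ne_zero_of_two_eq_zero one_ne_zero S.two
  haveI : Fintype F := Fintype.ofFinite F
  have hpol : ∀ x y, H43.polB Q x y = B x y := fun x y => by
    rw [H43.polB_apply, QuadraticMap.polar, hadd]; ring
  have hQ : (H43.polB Q).Nondegenerate :=
    ⟨fun x hx => eq_zero_of_forall S fun y => by rw [← hpol]; exact hx y,
     fun x hx => eq_zero_of_forall S fun y => by rw [symm S, ← hpol]; exact hx y⟩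
  set r₀ := rel B (a + b) 0 1 with hr₀
  have hr₀iso : r₀ ∈ Cfsg.isometryGroup F ⇑Q := mem_iso.2 fun x => by
    rw [hr₀, act_rel S (map_zero _)]
    simp only [map_zero, zero_smul, smul_zero, add_zero, one_mul, hadd x, QuadraticMap.map_smul,
      hadd a b, ha, hb, hab, map_smul, smul_eq_mul, zero_add, mul_one]
    linear_combination add_self' S (B x (a + b) * B x (a + b))
  -- every reflection is congruent to the standard one
  have hrefl : ∀ w, Q w ≠ 0 → r₀ * rel B w 0 (Q w)⁻¹ ∈ eSub B Q := by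
    intro w hw
    obtain ⟨T, hT⟩ := exists_sqrt S (Q w)⁻¹
    have hT0 : T ≠ 0 := fun h => by
      rw [h] at hT; exact inv_ne_zero hw (by rw [← hT]; ring)
    have h1 : Q (T • w) = 1 := by
      rw [QuadraticMap.map_smul, smul_eq_mul, ← sq, hT, inv_mul_cancel₀ hw]
    obtain ⟨e, he, hew⟩ := eSub_transitive S hadd ha hb hab h4 h1
    have hr : rel B (T • w) 0 1 = rel B w 0 (Q w)⁻¹ := by
      rw [rel_smul S (map_zero _), smul_zero, mul_one, ← sq, hT]
    have hconj : rel B (T • w) 0 1 = e⁻¹ * r₀ * e := by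
      have := rel_conj S (iso_le_spG S hadd (eSub_le S hadd he)) (a := T • w) (map_zero _) 1
      rw [show act e (0 : V) = 0 from Matrix.mulVec_zero _, hew] at this
      rw [hr₀, ← this]; group
    rw [← hr, hconj, show r₀ * (e⁻¹ * r₀ * e) = (r₀ * e⁻¹ * r₀⁻¹) * (r₀ * r₀) * e by group,
      hr₀, rel_self S (map_zero _), mul_one, ← hr₀]
    exact mul_mem (eSub_conj S hadd hr₀iso (inv_mem he)) he
  let M : H43.orthGroup Q → GL ι F := fun x => ((H43.toOrth Q).symm x : GL ι F)
  have hMmul : ∀ x y, M (x * y) = M x * M y := fun x y => by simp [M]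
  have hMone : M 1 = 1 := by simp [M]
  have hMrefl : ∀ w, Q w ≠ 0 → M (H43.refl Q w) = rel B w 0 (Q w)⁻¹ := fun w hw => by
    refine gl_ext fun x => ?_
    show ((M (H43.refl Q w) : GL ι F) : Matrix ι ι F) *ᵥ x = _
    rw [← H43.toOrth_apply, MulEquiv.apply_symm_apply, H43.refl_apply, hpol, act_rel S (map_zero _)]
    simp only [map_zero, zero_smul, smul_zero, add_zero]
    linear_combination (norm := module) -(((Q w)⁻¹ * B x w) • vadd_self S w)
  have hgen : H43.ReflGenerates F (ι → F) := by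
    refine hbig.imp id fun h => ?_
    rw [Module.finrank_pi]; omega
  -- the invariant on the closure of the reflections
  let P : H43.orthGroup Q → Prop := fun x => (H43.dickson x = 1 ∧ M x ∈ eSub B Q) ∨
    (H43.dickson x = Multiplicative.ofAdd 1 ∧ r₀ * M x ∈ eSub B Q)
  have hd : (Multiplicative.ofAdd (1 : ZMod 2)) * Multiplicative.ofAdd 1 = 1 := by decide
  have hne : (Multiplicative.ofAdd (1 : ZMod 2)) ≠ 1 := by decide
  have hr2 : r₀ * r₀ = 1 := by rw [hr₀]; exact rel_self S (map_zero _) 1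
  have hrinv : r₀⁻¹ = r₀ := inv_eq_of_mul_eq_one_right hr2
  have hswap : ∀ e ∈ eSub B Q, r₀ * e * r₀ ∈ eSub B Q := fun e he => by
    have := eSub_conj S hadd hr₀iso he
    rwa [hrinv] at this
  have hstep : ∀ w, Q w ≠ 0 → ∀ x, P x → P (H43.refl Q w * x) := by
    intro w hw x hx
    have hdick := H43.dickson_refl_mul hQ x hw
    have h1 := hrefl w hw
    rcases hx with ⟨e, hm⟩ | ⟨e, hm⟩
    · right
      refine ⟨by rw [hdick, e, mul_one], ?_⟩
      rw [hMmul, hMrefl w hw, ← mul_assoc]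
      exact mul_mem h1 hm
    · left
      refine ⟨by rw [hdick, e, hd], ?_⟩
      rw [hMmul, hMrefl w hw, show rel B w 0 (Q w)⁻¹ * M x =
        (r₀ * (r₀ * rel B w 0 (Q w)⁻¹) * r₀) * (r₀ * M x) by
          rw [← mul_assoc r₀ r₀, hr2, one_mul, mul_assoc, ← mul_assoc r₀ r₀, hr2, one_mul]]
      exact mul_mem (hswap _ h1) hm
  have hP : ∀ x : H43.orthGroup Q, P x := by
    intro x
    have hx : x ∈ Subgroup.closure (H43.reflSet Q) := by
      rw [H43.closure_reflSet hQ hgen]; trivial
    suffices ∀ z, P z → P (x * z) by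
      have := this 1 (Or.inl ⟨H43.dickson_one, by rw [hMone]; exact one_mem _⟩)
      rwa [mul_one] at this
    induction hx using Subgroup.closure_induction'' with
    | mem y hy => obtain ⟨w, hw, rfl⟩ := hy; exact hstep w hw
    | inv_mem y hy =>
      obtain ⟨w, hw, rfl⟩ := hy
      rw [H43.refl_inv]
      exact hstep w hw
    | one => simp
    | mul y y' _ _ h h' => intro z hz; rw [mul_assoc]; exact h _ (h' z hz)
  set G : H43.orthGroup Q := H43.toOrth Q ⟨g, hg⟩
  have hMg : M G = g := by simp [M, G]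
  have hrank : ((g : Matrix ι ι F) - 1).rank = Module.finrank F (H43.resid G) := by
    rw [Matrix.rank, H43.resid]
    have : H43.resMap G = ((g : Matrix ι ι F) - 1).mulVecLin := LinearMap.ext fun x => by
      rw [H43.resMap_apply, H43.toOrth_apply, Matrix.mulVecLin_apply, Matrix.sub_mulVec,
        Matrix.one_mulVec]
      linear_combination (norm := module)
        vadd_self S x - vadd_self S ((g : Matrix ι ι F) *ᵥ x)
    rw [this]
  have heven : H43.dickson G = 1 ↔ Even ((g : Matrix ι ι F) - 1).rank := by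
    rw [hrank, H43.dickson, ofAdd_eq_one, ZMod.natCast_eq_zero_iff_even]
  rcases hP G with ⟨e, hm⟩ | ⟨e, hm⟩
  · exact Or.inl ⟨heven.1 e, hMg ▸ hm⟩
  · exact Or.inr ⟨fun h => hne (by rw [← e, heven.2 h]), hMg ▸ hm⟩

/-- The conclusion for the orthogonal case. -/
theorem orth_dichotomy [Finite F] {a b : V} (ha : Q a = 0) (hb : Q b = 0) (hab : B a b = 1)
    (h4 : 4 ≤ Fintype.card ι) (hbig : (∃ x : F, x ≠ 0 ∧ x ≠ 1) ∨ 5 ≤ Fintype.card ι)
    {L : Subgroup (GL ι F)} (hLQ : L ≤ Cfsg.isometryGroup F ⇑Q) (hE : eSub B Q ≤ L) :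
    L = Cfsg.isometryGroup F ⇑Q ∨ ∀ g : GL ι F, g ∈ L ↔
      (g ∈ Cfsg.isometryGroup F ⇑Q ∧ Even ((g : Matrix ι ι F) - 1).rank) := by
  have hcos := fun (g : GL ι F) hg => iso_cosets S hadd ha hb hab h4 hbig (g := g) hg
  by_cases hr : rel B (a + b) 0 1 ∈ L
  · left
    refine le_antisymm hLQ fun g hg => ?_
    rcases hcos g hg with ⟨-, h⟩ | ⟨-, h⟩
    · exact hE h
    · exact (Subgroup.mul_mem_cancel_left L hr).1 (hE h)
  · right
    refine fun g => ⟨fun hg => ⟨hLQ hg, ?_⟩, fun h => ?_⟩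
    · rcases hcos g (hLQ hg) with ⟨e, -⟩ | ⟨-, h⟩
      · exact e
      · exact absurd ((Subgroup.mul_mem_cancel_right L hg).1 (hE h)) hr
    · rcases hcos g h.1 with ⟨-, e⟩ | ⟨n, -⟩
      · exact hE e
      · exact absurd h.2 n

/-- Root elements at two centres spread to all singular centres. -/
theorem eSub_le_of_two [Finite F] {L : Subgroup (GL ι F)} (hLQ : L ≤ Cfsg.isometryGroup F ⇑Q)
    {a b : V} (ha : Q a = 0) (hb : Q b = 0) (hab : B a b = 1)
    (hia : ∀ v, B a v = 0 → rel B a v (Q v) ∈ L) (hib : ∀ v, B b v = 0 → rel B b v (Q v) ∈ L) :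
    eSub B Q ≤ L := by
  have hL : L ≤ spG B := hLQ.trans (iso_le_spG S hadd)
  have hsmul : ∀ (p : V) (t : F), (∀ v, B p v = 0 → rel B p v (Q v) ∈ L) →
      ∀ v, B (t • p) v = 0 → rel B (t • p) v (Q v) ∈ L := by
    intro p t hp v hv
    by_cases ht : t = 0
    · subst ht
      rw [show rel B ((0 : F) • p) v (Q v) = 1 from gl_ext fun x => by
        rw [act_rel S hv]; simp [act]]
      exact one_mem L
    have hv' : B p v = 0 := by
      rw [map_smul, LinearMap.smul_apply, smul_eq_mul] at hv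
      exact (mul_eq_zero.1 hv).resolve_left ht
    rw [rel_smul S hv', show t * t * Q v = Q (t • v) by rw [QuadraticMap.map_smul, smul_eq_mul]]
    exact hp _ (by rw [map_smul, hv', smul_zero])
  have hconj : ∀ (p : V) (g : GL ι F), g ∈ L → (∀ v, B (act g p) v = 0 →
      rel B (act g p) v (Q v) ∈ L) → ∀ v, B p v = 0 → rel B p v (Q v) ∈ L := by
    intro p g hg hp v hv
    have h1 := hp (act g v) (by rw [mem_spG.1 (hL hg), hv])
    rw [mem_iso.1 (hLQ hg), ← rel_conj S (hL hg) hv] at h1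
    have h2 := mul_mem (mul_mem (inv_mem hg) h1) hg
    rwa [show g⁻¹ * (g * rel B p v (Q v) * g⁻¹) * g = rel B p v (Q v) by group] at h2
  have hnon : ∀ a b : V, Q a = 0 → Q b = 0 → B a b = 1 →
      (∀ v, B a v = 0 → rel B a v (Q v) ∈ L) → (∀ v, B b v = 0 → rel B b v (Q v) ∈ L) →
      ∀ p, Q p = 0 → B a p ≠ 0 → ∀ v, B p v = 0 → rel B p v (Q v) ∈ L := by
    intro a b ha hb hab hia hib p hp hne
    set t := B a p
    set y := t⁻¹ • p with hy
    have hay : B a y = 1 := by rw [hy, map_smul, smul_eq_mul, inv_mul_cancel₀ hne]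
    have hQy : Q y = 0 := by rw [hy, QuadraticMap.map_smul, hp, smul_zero]
    set u := y + b + B y b • a with hu
    have hua : B a u = 0 := by simp [hu, hay, hab, S.alt, add_self' S]
    have hg := hia u hua
    have hgy : act (rel B a u (Q u)) y = b + (B y b + B y u + Q u) • a := by
      rw [act_rel S hua, symm S y a, hay]
      simp only [one_smul, mul_one]
      rw [show y + u = b + B y b • a by
        rw [hu]; linear_combination (norm := module) (1 : F) • vadd_self S y]
      module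
    have hq := mem_iso.1 (hLQ hg) y
    rw [hgy, hQy, hadd, QuadraticMap.map_smul, ha, hb] at hq
    simp only [map_smul, symm S b a, hab, smul_eq_mul, mul_zero, mul_one, zero_add] at hq
    rw [hq, zero_smul, add_zero] at hgy
    have hiy := hconj y _ hg (hgy ▸ hib)
    rw [show p = t • y by rw [hy, smul_smul, mul_inv_cancel₀ hne, one_smul]]
    exact hsmul y t hiy
  refine (Subgroup.closure_le _).2 ?_
  rintro _ ⟨p, v, hp, hv, rfl⟩
  show rel B p v (Q v) ∈ L
  by_cases h1 : B a p = 0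
  swap
  · exact hnon a b ha hb hab hia hib p hp h1 v hv
  by_cases h2 : B b p = 0
  swap
  · exact hnon b a hb ha (by rw [symm S, hab]) hib hia p hp h2 v hv
  by_cases hp0 : p = 0
  · rw [hp0] at hv ⊢
    have := hsmul a 0 hia v (by rw [zero_smul]; exact hv)
    rwa [zero_smul] at this
  obtain ⟨w, hw1, hw2⟩ := exists_sep₁ S (not_mem_line S hab h1 hp0) 1
  have hg := hib w hw1
  refine hconj p _ hg ?_ v hv
  refine hnon a b ha hb hab hia hib _ (by rw [mem_iso.1 (hLQ hg), hp]) ?_
  rw [act_rel S hw1, symm S p b, h2]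
  simp [h1, hw2, hab]

end H38.SpX
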