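import Cfsg.Agent.H38.SpRootLine
import Cfsg.Agent.H43.Basic

/-!
Centres without transvections carry one quadratic form polarising to the symplectic form.
-/

set_option autoImplicit false
set_option linter.unusedSectionVars false

namespace H38.SpX

open Matrix H45
open scoped MatrixGroups

variable {F : Type*} [Field F] {ι : Type} [Fintype ι] [DecidableEq ι]
  {B : (ι → F) →ₗ[F] (ι → F) →ₗ[F] F}

local notation "V" => (ι → F)

variable {L : Subgroup (GL ι F)}

/-- A centre with all directions and no transvection. -/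
structure Ctr (B : (ι → F) →ₗ[F] (ι → F) →ₗ[F] F) (L : Subgroup (GL ι F)) (a : ι → F) : Prop where
  ne : a ≠ 0
  proj : Proj B L a
  rgd : Rgd B L a

open scoped Classical in
/-- The scalar belonging to a direction at a centre. -/
noncomputable def phi (B : (ι → F) →ₗ[F] (ι → F) →ₗ[F] F) (L : Subgroup (GL ι F))
    (a v : ι → F) : F :=
  if h : ∃ c, Rt B L a v c then h.choose else 0

/-- The scalars at a centre scale quadratically. -/
def Hom (B : (ι → F) →ₗ[F] (ι → F) →ₗ[F] F) (L : Subgroup (GL ι F)) (a : ι → F) : Prop :=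
  ∀ v, B a v = 0 → ∀ T : F, phi B L a (T • v) = T * T * phi B L a v

theorem phi_rt {a v : V} (hP : Proj B L a) (hv : B a v = 0) : Rt B L a v (phi B L a v) := by
  have h : ∃ c, Rt B L a v c := by
    obtain ⟨c, hc⟩ := hP v hv
    exact ⟨c, hv, hc⟩
  rw [phi, dif_pos h]
  exact h.choose_spec

variable (S : SForm B) (hL : L ≤ spG B)
include S hL

theorem phi_eq {a v : V} (hC : Ctr B L a) {c : F} (h : Rt B L a v c) : phi B L a v = c :=
  rt_inj S hL hC.rgd (phi_rt hC.proj h.1) h

theorem phi_shift {a v : V} (hC : Ctr B L a) (hv : B a v = 0) (k : F) :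
    phi B L a (v + k • a) = phi B L a v :=
  phi_eq S hL hC (rt_shift S (phi_rt hC.proj hv) k)

theorem phi_add {a v w : V} (hC : Ctr B L a) (hv : B a v = 0) (hw : B a w = 0) :
    phi B L a (v + w) = phi B L a v + phi B L a w + B v w :=
  phi_eq S hL hC (rt_add S (phi_rt hC.proj hv) (phi_rt hC.proj hw))

theorem phi_zero {a : V} (hC : Ctr B L a) : phi B L a 0 = 0 := phi_eq S hL hC (rt_zero S a)

theorem ctr_conj {g : GL ι F} (hg : g ∈ L) {a : V} (hC : Ctr B L a) : Ctr B L (act g a) :=
  ⟨fun h => hC.ne (by rw [← act_inv_act g a, h]; exact Matrix.mulVec_zero _),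
    proj_conj S hL hg hC.proj, rgd_conj S hL hg hC.rgd⟩

theorem ctr_smul {a : V} {t : F} (ht : t ≠ 0) (hC : Ctr B L a) : Ctr B L (t • a) :=
  ⟨smul_ne_zero ht hC.ne, proj_smul S ht hC.proj, rgd_smul S hL ht hC.rgd⟩

theorem phi_conj {g : GL ι F} (hg : g ∈ L) {a v : V} (hC : Ctr B L a) (hv : B a v = 0) :
    phi B L (act g a) (act g v) = phi B L a v :=
  phi_eq S hL (ctr_conj S hL hg hC) (rt_conj S hL hg (phi_rt hC.proj hv))

theorem phi_smul {a v : V} {t : F} (ht : t ≠ 0) (hC : Ctr B L a) (hH : Hom B L a)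
    (hv : B a v = 0) : phi B L (t • a) v = phi B L a v := by
  refine phi_eq S hL (ctr_smul S hL ht hC) ?_
  have h := rt_smul S ht (phi_rt hC.proj (v := t • v) (by rw [map_smul, hv, smul_zero]))
  rw [hH v hv t, smul_smul, inv_mul_cancel₀ ht, one_smul, ← mul_assoc,
    inv_mul_cancel₀ (mul_ne_zero ht ht), one_mul] at h
  exact h

/-- Two non-orthogonal centres carry the same homogeneous scalars on their common orthogonal. -/
theorem pair [Finite F] (hbig : (∃ x : F, x ≠ 0 ∧ x ≠ 1) ∨ 5 ≤ Fintype.card ι) {a b : V}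
    (hA : Ctr B L a) (hB : Ctr B L b) (hab : B a b = 1) {v : V} (hav : B a v = 0)
    (hbv : B b v = 0) :
    (∀ T : F, phi B L a (T • v) = T * T * phi B L a v) ∧ phi B L b v = phi B L a v := by
  by_cases hv0 : v = 0
  · subst hv0
    exact ⟨fun T => by rw [smul_zero, phi_zero S hL hA, mul_zero],
      by rw [phi_zero S hL hA, phi_zero S hL hB]⟩
  by_cases hq : ∃ x : F, x ≠ 0 ∧ x ≠ 1
  · obtain ⟨k, hk⟩ := line_main S hL hq hab hav hbv hv0 hA.proj hB.proj hA.rgd hB.rgd
    have h1 : phi B L a v = k := by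
      have := phi_eq S hL hA (hk 1).1
      rwa [one_smul, one_mul, one_mul] at this
    have h2 : phi B L b v = k := by
      have := phi_eq S hL hB (hk 1).2
      rwa [one_smul, one_mul, one_mul] at this
    exact ⟨fun T => by rw [phi_eq S hL hA (hk T).1, h1], h2.trans h1.symm⟩
  have h5 := hbig.resolve_left hq
  push Not at hq
  have hbool : ∀ x : F, x = 0 ∨ x = 1 := fun x => by
    by_cases h : x = 0
    · exact Or.inl h
    · exact Or.inr (hq x h)
  refine ⟨fun T => ?_, ?_⟩
  · rcases hbool T with rfl | rfl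
    · rw [zero_smul, phi_zero S hL hA, zero_mul, zero_mul]
    · rw [one_smul, one_mul, one_mul]
  have key0 : ∀ {p p' : V}, Ctr B L p → Ctr B L p' → B p p' = 1 → B p v = 0 → B p' v = 0 →
      phi B L p v = 0 → phi B L p' v = 0 := by
    intro p p' hP hP' hpp hp hp' hz
    obtain ⟨w, hw1, hw2, hw3, hw4⟩ :
        ∃ w, B p w = 0 ∧ B p' w = 0 ∧ B v w = 0 ∧ w ∉ F ∙ v := by
      let f : V →ₗ[F] (Fin 3 → F) := LinearMap.pi ![B p, B p', B v]
      by_contra hcon
      push Not at hcon
      have hker : LinearMap.ker f ≤ F ∙ v := fun w hw => by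
        have h := fun i => congrFun (LinearMap.mem_ker.1 hw) i
        exact hcon w (h 0) (h 1) (h 2)
      have h1 := Submodule.finrank_mono hker
      rw [finrank_span_singleton hv0] at h1
      have h2 := f.finrank_range_add_finrank_ker
      have h3 := Submodule.finrank_le (LinearMap.range f)
      rw [Module.finrank_pi] at h2
      rw [Module.finrank_pi, Fintype.card_fin] at h3
      omega
    have hrt : Rt B L p v 0 := hz ▸ phi_rt hP.proj hp
    have hwn : w ∉ Submodule.span F {p', v} := fun hm => by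
      obtain ⟨x, y, rfl⟩ := Submodule.mem_span_pair.1 hm
      simp only [map_add, map_smul, smul_eq_mul, hpp, hp, mul_zero, add_zero, mul_one] at hw1
      refine hw4 ?_
      rw [hw1, zero_smul, zero_add]
      exact Submodule.smul_mem _ _ (Submodule.mem_span_singleton_self v)
    obtain ⟨u, hu1, hu2, hu3⟩ := exists_sep₂ S hwn 1
    have h := key S hL hpp hp' hw1 hw3 hrt (phi_rt hP'.proj hw2) hP'.proj 0 1
      ⟨u, hu1, by rw [symm S]; exact hu2, by rw [symm S]; exact hu3⟩
    rw [zero_smul, zero_add, mul_zero, mul_zero, add_zero, one_smul, mul_zero] at h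
    exact phi_eq S hL hP' h
  rcases hbool (phi B L a v) with h | h
  · rw [h, key0 hA hB hab hav hbv h]
  · rcases hbool (phi B L b v) with h' | h'
    · rw [h', key0 hB hA (by rw [symm S, hab]) hbv hav h']
    · rw [h, h']

/-- Two centres and the quadratic form they determine. -/
structure Frame (B : (ι → F) →ₗ[F] (ι → F) →ₗ[F] F) (L : Subgroup (GL ι F))
    (Q : QuadraticForm F (ι → F)) (a b : ι → F) : Prop where
  ctrA : Ctr B L a
  ctrB : Ctr B L b
  hab : B a b = 1
  hadd : ∀ x y, Q (x + y) = Q x + Q y + B x y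
  qa : Q a = 0
  qb : Q b = 0
  fa : ∀ v, B a v = 0 → phi B L a v = Q v
  fb : ∀ v, B b v = 0 → phi B L b v = Q v

variable {Q : QuadraticForm F (ι → F)}

theorem Frame.swap {a b : V} (P : Frame B L Q a b) : Frame B L Q b a :=
  ⟨P.ctrB, P.ctrA, by rw [symm S, P.hab], P.hadd, P.qb, P.qa, P.fb, P.fa⟩

omit S hL in
theorem Frame.hom {a b : V} (P : Frame B L Q a b) : Hom B L a := fun v hv T => by
  rw [P.fa v hv, P.fa _ (by rw [map_smul, hv, smul_zero]), QuadraticMap.map_smul, smul_eq_mul]

/-- A pair of centres determines a quadratic form. -/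
theorem exists_frame [Finite F] (hbig : (∃ x : F, x ≠ 0 ∧ x ≠ 1) ∨ 5 ≤ Fintype.card ι) {a b : V}
    (hA : Ctr B L a) (hB : Ctr B L b) (hab : B a b = 1) :
    ∃ Q : QuadraticForm F (ι → F), Frame B L Q a b := by
  have hba : B b a = 1 := by rw [symm S, hab]
  set u : V → V := fun x => x + B x b • a + B x a • b with hu
  have ha' : ∀ x, B a (u x) = 0 := fun x => by
    simp [hu, S.alt, hab, symm S a x, add_self' S]
  have hb' : ∀ x, B b (u x) = 0 := fun x => by
    simp [hu, S.alt, hba, symm S b x, add_self' S]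
  set q : V → F := fun x => B x a * B x b + phi B L a (u x) with hqdef
  have hadd : ∀ x y, q (x + y) = q x + q y + B x y := fun x y => by
    have e : u (x + y) = u x + u y := by simp only [hu, map_add, LinearMap.add_apply]; module
    have eB : B (u x) (u y) = B x y + B x a * B y b + B x b * B y a := by
      simp only [hu, map_add, map_smul, LinearMap.add_apply, LinearMap.smul_apply, smul_eq_mul,
        S.alt a, S.alt b, hab, hba, symm S a y, symm S b y]
      linear_combination add_self' S (B x a * B y b) + add_self' S (B x b * B y a)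
    simp only [hqdef, e, phi_add S hL hA (ha' x) (ha' y), eB, map_add, LinearMap.add_apply]
    linear_combination add_self' S (B x a * B y b) + add_self' S (B x b * B y a)
  have hsmul : ∀ (c : F) x, q (c • x) = c * c * q x := fun c x => by
    have e : u (c • x) = c • u x := by
      simp only [hu, map_smul, LinearMap.smul_apply, smul_eq_mul]; module
    simp only [hqdef, e, (pair S hL hbig hA hB hab (ha' x) (hb' x)).1, map_smul,
      LinearMap.smul_apply, smul_eq_mul]
    ring
  have hpol : ∀ x y, QuadraticMap.polar q x y = B x y := fun x y => by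
    rw [QuadraticMap.polar, hadd]; ring
  refine ⟨QuadraticMap.ofPolar q hsmul
    (fun x x' y => by simp only [hpol, map_add, LinearMap.add_apply])
    (fun c x y => by simp only [hpol, map_smul, LinearMap.smul_apply]), hA, hB, hab,
    hadd, ?_, ?_, fun v hv => ?_, fun v hv => ?_⟩
  · show q a = 0
    simp [hqdef, hu, S.alt, hab, vadd_self S, phi_zero S hL hA]
  · show q b = 0
    simp [hqdef, hu, S.alt, hba, vadd_self S, phi_zero S hL hA]
  · show _ = q v
    simp only [hqdef, hu, symm S v a, hv, zero_mul, zero_add, zero_smul, add_zero]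
    rw [phi_shift S hL hA hv]
  · show _ = q v
    have h1 := (pair S hL hbig hA hB hab (ha' v) (hb' v)).2
    have h2 : u v = v + B v a • b := by
      simp only [hu, symm S v b, hv, zero_smul, add_zero]
    simp only [hqdef, symm S v b, hv, mul_zero, zero_add]
    rw [← h1, h2, phi_shift S hL hB hv]

theorem q_rel (hadd : ∀ x y, Q (x + y) = Q x + Q y + B x y) {p v : V} (hp : Q p = 0)
    (hv : B p v = 0) (x : V) : Q (act (rel B p v (Q v)) x) = Q x := by
  rw [act_rel S hv]
  simp only [hadd, map_add, map_smul, LinearMap.add_apply, LinearMap.smul_apply, smul_eq_mul,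
    QuadraticMap.map_smul, hp, symm S v p, hv, S.alt, mul_zero, add_zero]
  linear_combination add_self' S (B x v * B x p) + add_self' S (B x p * B x p * Q v)

theorem frame_rel {a b : V} (P : Frame B L Q a b) {v : V} (hv : B a v = 0) :
    rel B a v (Q v) ∈ L := (P.fa v hv ▸ phi_rt P.ctrA.proj hv).2

/-- No third centre lies on the line of a frame. -/
theorem collinear [Finite F] (hbig : (∃ x : F, x ≠ 0 ∧ x ≠ 1) ∨ 5 ≤ Fintype.card ι)
    (h4 : 4 ≤ Fintype.card ι) {a b : V} (P : Frame B L Q a b) {δ : F}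
    (hp : Ctr B L (b + δ • a)) : δ = 0 := by
  by_contra hδ
  have hba : B b a = 1 := by rw [symm S, P.hab]
  set p := b + δ • a with hpdef
  have hap : B a p = 1 := by simp [hpdef, S.alt, P.hab]
  obtain ⟨Q', P'⟩ := exists_frame S hL hbig P.ctrA hp hap
  have hQ' : ∀ x, Q' x = Q x + B x a * B x a * δ := by
    intro x
    set y := x + B x a • b
    have hy : B a y = 0 := by simp [y, P.hab, symm S a x, add_self' S]
    have e : x = y + B x a • b := by simp only [y, add_assoc, vadd_self S, add_zero]
    have eb : b = p + δ • a := by simp only [hpdef, add_assoc, vadd_self S, add_zero]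
    have hb' : Q' b = δ := by
      rw [eb, P'.hadd, P'.qb, QuadraticMap.map_smul, P'.qa, map_smul, symm S p a, hap]
      simp
    conv_lhs => rw [e]
    conv_rhs => arg 1; rw [e]
    rw [P'.hadd, P.hadd, QuadraticMap.map_smul, QuadraticMap.map_smul, hb', P.qb, ← P.fa y hy,
      ← P'.fa y hy]
    simp only [smul_eq_mul, mul_zero, add_zero]
    ring
  have hcommon : ∃ v, B a v = 0 ∧ B b v = 0 ∧ Q v ≠ δ ∧ v ≠ 0 := by
    by_contra hcon
    push Not at hcon
    have hall : ∀ v, B a v = 0 → B b v = 0 → v ≠ 0 → Q v = δ := fun v h1 h2 h3 => by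
      by_contra h; exact h3 (hcon v h1 h2 h)
    let f : V →ₗ[F] (Fin 2 → F) := LinearMap.pi ![B a, B b]
    have hf := f.finrank_range_add_finrank_ker
    have hf' := Submodule.finrank_le (LinearMap.range f)
    rw [Module.finrank_pi] at hf
    rw [Module.finrank_pi, Fintype.card_fin] at hf'
    have hne : LinearMap.ker f ≠ ⊥ := fun h => by
      rw [h, finrank_bot] at hf; omega
    obtain ⟨v, hv, hv0⟩ := Submodule.exists_mem_ne_zero_of_ne_bot hne
    have hv' := fun i => congrFun (LinearMap.mem_ker.1 hv) i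
    have hva : B a v = 0 := hv' 0
    have hvb : B b v = 0 := hv' 1
    by_cases hq : ∃ x : F, x ≠ 0 ∧ x ≠ 1
    · obtain ⟨x, hx0, hx1⟩ := hq
      have h1 := hall (x • v) (by rw [map_smul, hva, smul_zero]) (by rw [map_smul, hvb, smul_zero])
        (smul_ne_zero hx0 hv0)
      rw [QuadraticMap.map_smul, hall v hva hvb hv0, smul_eq_mul] at h1
      have h3 : (x - 1) * (x - 1) = 0 := by
        have := mul_eq_right₀ hδ |>.1 h1
        linear_combination this - add_self' S (x - 1)
      exact hx1 (sub_eq_zero.1 (mul_self_eq_zero.1 h3))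
    have h5 := hbig.resolve_left hq
    obtain ⟨w, hw, hwn⟩ : ∃ w, (B a w = 0 ∧ B b w = 0 ∧ B v w = 0) ∧ w ∉ F ∙ v := by
      let g : V →ₗ[F] (Fin 3 → F) := LinearMap.pi ![B a, B b, B v]
      by_contra hcon'
      push Not at hcon'
      have hker : LinearMap.ker g ≤ F ∙ v := fun w hw => by
        have h := fun i => congrFun (LinearMap.mem_ker.1 hw) i
        exact hcon' w ⟨h 0, h 1, h 2⟩
      have h1 := Submodule.finrank_mono hker
      rw [finrank_span_singleton hv0] at h1
      have h2 := g.finrank_range_add_finrank_ker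
      have h3 := Submodule.finrank_le (LinearMap.range g)
      rw [Module.finrank_pi] at h2
      rw [Module.finrank_pi, Fintype.card_fin] at h3
      omega
    have hw0 : w ≠ 0 := fun h => hwn (h ▸ Submodule.zero_mem _)
    have hvw : v + w ≠ 0 := fun h => hwn (by
      rw [show w = v + (v + w) by rw [← add_assoc, vadd_self S, zero_add], h, add_zero]
      exact Submodule.mem_span_singleton_self v)
    have h1 := hall (v + w) (by rw [map_add, hva, hw.1, add_zero])
      (by rw [map_add, hvb, hw.2.1, add_zero]) hvw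
    rw [P.hadd, hall v hva hvb hv0, hall w hw.1 hw.2.1 hw0, hw.2.2, add_self' S, zero_add] at h1
    exact hδ h1.symm
  obtain ⟨v, hva, hvb, hvδ, hv0⟩ := hcommon
  set g := rel B a v (Q v)
  have hg : g ∈ L := frame_rel S hL P hva
  set z := act g b with hz
  have ez : z = b + v + Q v • a := by
    rw [hz, act_rel S hva, hba, hvb]; simp
  have hzp : B z p = δ + Q v := by
    rw [ez, hpdef]
    simp [S.alt, P.hab, hba, hva, hvb, symm S v a, symm S v b]
  have hne : B z p ≠ 0 := by
    rw [hzp]; intro h; exact hvδ (by linear_combination h - add_self' S δ)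
  have hC := ctr_conj S hL hg P.ctrB
  have hC' := ctr_smul S hL (inv_ne_zero hne) hp
  have hone : B z ((B z p)⁻¹ • p) = 1 := by
    rw [map_smul, smul_eq_mul, inv_mul_cancel₀ hne]
  have ha : a ∉ Submodule.span F {z, p} := fun hm => by
    obtain ⟨x, y, hxy⟩ := Submodule.mem_span_pair.1 hm
    have h1 := congrArg (fun m => B a m) hxy
    simp only [ez, hpdef, map_add, map_smul, smul_eq_mul, S.alt, P.hab, hva, mul_zero, mul_one,
      add_zero] at h1
    obtain ⟨w, hw1, hw2, hw3⟩ := exists_sep₂ S (w := a) (w' := b) (k := v) (fun hm => by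
      obtain ⟨r, s, rfl⟩ := Submodule.mem_span_pair.1 hm
      simp only [map_add, map_smul, smul_eq_mul, S.alt, P.hab, hba, mul_zero, mul_one, add_zero,
        zero_add] at hva hvb
      exact hv0 (by rw [hva, hvb, zero_smul, zero_smul, add_zero])) 1
    have h2 := congrArg (fun m => B m w) hxy
    simp only [ez, hpdef, map_add, map_smul, LinearMap.add_apply, LinearMap.smul_apply,
      smul_eq_mul, hw1, hw2, hw3, mul_zero, mul_one, add_zero, zero_add] at h2
    rw [h2, zero_smul, zero_add] at hxy
    rw [h2, zero_add] at h1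
    rw [h1, zero_smul] at hxy
    exact P.ctrA.ne hxy.symm
  obtain ⟨x, hx1, hx2, hx3⟩ := exists_sep₂ S ha 1
  have hx' : B z x = 0 := hx1
  have hpz := (pair S hL hbig hC hC' hone (v := x) hx'
    (by rw [map_smul, LinearMap.smul_apply, hx2, smul_zero])).2
  rw [phi_smul S hL (inv_ne_zero hne) hp (Frame.hom (P'.swap S hL)) hx2, P'.fb x hx2] at hpz
  obtain ⟨y, hy⟩ : ∃ y, act g y = x := ⟨_, act_act_inv g x⟩
  have hby : B b y = 0 := by rw [← mem_spG.1 (hL hg), hy]; exact hx'
  have hzx : phi B L z x = Q x := by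
    rw [← hy, phi_conj S hL hg P.ctrB hby, P.fb y hby, q_rel S hL P.hadd P.qa hva]
  rw [hzx, hQ', symm S x a, hx3] at hpz
  exact hδ (by linear_combination hpz)

/-- A centre not orthogonal to `a` is an image of a multiple of `b`. -/
theorem centre_nonorth [Finite F] (hbig : (∃ x : F, x ≠ 0 ∧ x ≠ 1) ∨ 5 ≤ Fintype.card ι)
    (h4 : 4 ≤ Fintype.card ι) {a b : V} (P : Frame B L Q a b) {p : V} (hC : Ctr B L p)
    (hp : B a p ≠ 0) : ∃ g ∈ L, ∃ t : F, t ≠ 0 ∧ (∀ x, Q (act g x) = Q x) ∧ p = t • act g b := by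
  set p' := (B a p)⁻¹ • p with hp'
  have h1 : B a p' = 1 := by rw [hp', map_smul, smul_eq_mul, inv_mul_cancel₀ hp]
  set u := p' + b + B p' b • a with hu
  have hua : B a u = 0 := by
    simp [hu, h1, P.hab, S.alt, add_self' S]
  have hg := frame_rel S hL P hua
  set g := rel B a u (Q u) with hgdef
  have hgp : act g p' = b + (B p' b + B p' u + Q u) • a := by
    rw [hgdef, act_rel S hua, symm S p' a, h1]
    simp only [one_smul, mul_one]
    rw [show p' + u = b + B p' b • a by
      rw [hu]; linear_combination (norm := module) (1 : F) • vadd_self S p']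
    module
  have hC' := ctr_conj S hL hg (ctr_smul S hL (inv_ne_zero hp) hC)
  rw [← hp', hgp] at hC'
  have hδ := collinear S hL hbig h4 P hC'
  rw [hδ, zero_smul, add_zero] at hgp
  refine ⟨g⁻¹, inv_mem hg, B a p, hp, fun x => ?_, ?_⟩
  · conv_rhs => rw [← act_act_inv g x, hgdef, q_rel S hL P.hadd P.qa hua]
  · rw [← hgp, act_inv_act, hp', smul_smul, mul_inv_cancel₀ hp, one_smul]

/-- All centres are singular. -/
theorem centre_singular [Finite F] (hbig : (∃ x : F, x ≠ 0 ∧ x ≠ 1) ∨ 5 ≤ Fintype.card ι)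
    (h4 : 4 ≤ Fintype.card ι) {a b : V} (P : Frame B L Q a b) {p : V} (hC : Ctr B L p) :
    Q p = 0 := by
  have hmain : ∀ {a b p : V}, Frame B L Q a b → Ctr B L p → B a p ≠ 0 → Q p = 0 := by
    intro a b p P hC hp
    obtain ⟨g, -, t, -, hq, rfl⟩ := centre_nonorth S hL hbig h4 P hC hp
    rw [QuadraticMap.map_smul, hq, P.qb, smul_zero]
  by_cases h1 : B a p = 0
  swap
  · exact hmain P hC h1
  by_cases h2 : B b p = 0
  swap
  · exact hmain (P.swap S hL) hC h2
  have hpn : p ∉ F ∙ b := not_mem_line S P.hab h1 hC.ne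
  obtain ⟨w, hw1, hw2⟩ := exists_sep₁ S hpn 1
  have hg := frame_rel S hL (P.swap S hL) hw1
  have hq := q_rel S hL P.hadd P.qb hw1
  have h3 : B a (act (rel B b w (Q w)) p) ≠ 0 := by
    rw [act_rel S hw1, symm S p b, h2]
    simp [h1, hw2, P.hab]
  rw [← hq p]
  exact hmain P (ctr_conj S hL hg hC) h3

/-- The centres have to span for an irreducible group, which then preserves the form. -/
theorem le_orth [Finite F] (hbig : (∃ x : F, x ≠ 0 ∧ x ≠ 1) ∨ 5 ≤ Fintype.card ι)
    (h4 : 4 ≤ Fintype.card ι) {a b : V} (P : Frame B L Q a b)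
    (hirr : ∀ W : Submodule F V, (∀ g ∈ L, ∀ w ∈ W, act g w ∈ W) → W = ⊥ ∨ W = ⊤) :
    ∀ g ∈ L, ∀ x, Q (act g x) = Q x := by
  set W := Submodule.span F {y : V | ∃ h ∈ L, act h a = y} with hW
  have hWtop : W = ⊤ := by
    refine (hirr W fun g hg w hw => ?_).resolve_left fun h => P.ctrA.ne ?_
    · induction hw using Submodule.span_induction with
      | mem y hy =>
        obtain ⟨h, hh, rfl⟩ := hy
        exact Submodule.subset_span ⟨g * h, mul_mem hg hh, act_mul g h a⟩
      | zero => rw [show act g (0 : V) = 0 from Matrix.mulVec_zero _]; exact zero_mem _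
      | add x y _ _ hx hy =>
        rw [show act g (x + y) = act g x + act g y from Matrix.mulVec_add _ _ _]
        exact add_mem hx hy
      | smul c x _ hx =>
        rw [show act g (c • x) = c • act g x from Matrix.mulVec_smul _ _ _]
        exact Submodule.smul_mem _ _ hx
    · have : a ∈ W := Submodule.subset_span ⟨1, one_mem _, by simp [act]⟩
      rwa [h, Submodule.mem_bot] at this
  intro g hg x
  have hx : x ∈ W := by rw [hWtop]; trivial
  induction hx using Submodule.span_induction with
  | mem y hy =>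
    obtain ⟨h, hh, rfl⟩ := hy
    rw [← act_mul, centre_singular S hL hbig h4 P (ctr_conj S hL (mul_mem hg hh) P.ctrA),
      centre_singular S hL hbig h4 P (ctr_conj S hL hh P.ctrA)]
  | zero => rw [show act g (0 : V) = 0 from Matrix.mulVec_zero _]
  | add x y _ _ hx hy =>
    rw [show act g (x + y) = act g x + act g y from Matrix.mulVec_add _ _ _, P.hadd, P.hadd, hx,
      hy, mem_spG.1 (hL hg)]
  | smul c x _ hx =>
    rw [show act g (c • x) = c • act g x from Matrix.mulVec_smul _ _ _, QuadraticMap.map_smul,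
      QuadraticMap.map_smul, hx]

end H38.SpX
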