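import Cfsg.Agent.S5945

/-!
Large subgroups of the symmetric group of degree six.
-/

set_option autoImplicit false

namespace H38.SpX

open Equiv

theorem six_cases {Γ : Type*} [Group Γ] (e : Γ ≃* Perm (Fin 6)) (L : Subgroup Γ)
    (h : 120 ≤ Nat.card L) :
    L = ⊤ ∨ Nonempty (L ≃* alternatingGroup (Fin 6)) ∨ Nonempty (L ≃* Perm (Fin 5)) := by
  classical
  set L' := L.map e.toMonoidHom with hL'
  have iso : L ≃* L' := L.equivMapOfInjective _ e.injective
  have hcard : Nat.card (Perm (Fin 6)) = 720 := by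
    rw [Nat.card_perm, Nat.card_fin]; rfl
  have hmul := L'.card_mul_index
  rw [hcard, ← Nat.card_congr iso.toEquiv] at hmul
  have hi : L'.index ≤ 6 := by nlinarith
  by_cases h6 : L'.index = 6
  · obtain ⟨t⟩ := Cfsg.Agent.S5945.result.2.1 L' h6
    exact Or.inr (Or.inr ⟨iso.trans t⟩)
  have hA : IsSimpleGroup (alternatingGroup (Fin 6)) :=
    alternatingGroup.isSimpleGroup (by simp)
  set φ := (MulAction.toPermHom (Perm (Fin 6)) (Perm (Fin 6) ⧸ L')).comp
    (alternatingGroup (Fin 6)).subtype with hφ
  have hle : alternatingGroup (Fin 6) ≤ L' := by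
    rcases hA.eq_bot_or_eq_top_of_normal φ.ker inferInstance with hk | hk
    · exfalso
      have h1 := Nat.card_le_card_of_injective φ ((MonoidHom.ker_eq_bot_iff φ).1 hk)
      have h360 : Nat.card (alternatingGroup (Fin 6)) = 360 := by
        have := nat_card_alternatingGroup (α := Fin 6)
        rw [Nat.card_fin] at this
        rw [this]; rfl
      rw [h360, Nat.card_perm, ← Subgroup.index_eq_card] at h1
      have h5 : Nat.factorial L'.index ≤ Nat.factorial 5 := Nat.factorial_le (by omega)
      have : Nat.factorial 5 = 120 := rfl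
      omega
    · intro g hg
      have h1 : (⟨g, hg⟩ : alternatingGroup (Fin 6)) ∈ φ.ker := by rw [hk]; trivial
      rw [MonoidHom.mem_ker] at h1
      have h2 : g • ((1 : Perm (Fin 6)) : Perm (Fin 6) ⧸ L') = ((1 : Perm (Fin 6)) : Perm (Fin 6) ⧸ L') :=
        congrArg (fun p : Perm (Perm (Fin 6) ⧸ L') => p ((1 : Perm (Fin 6)) : Perm (Fin 6) ⧸ L')) h1
      rw [MulAction.Quotient.smul_coe, smul_eq_mul, mul_one, QuotientGroup.eq] at h2
      simpa using h2
  have hdvd := Subgroup.index_dvd_of_le hle
  rw [alternatingGroup.index_eq_two] at hdvd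
  rcases (Nat.dvd_prime Nat.prime_two).1 hdvd with h1 | h1
  · left
    rw [Subgroup.index_eq_one] at h1
    refine eq_top_iff.2 fun g _ => ?_
    have : e g ∈ L' := by rw [h1]; trivial
    obtain ⟨g', hg', he⟩ := Subgroup.mem_map.1 this
    rwa [← e.injective he]
  · right; left
    have := Equiv.Perm.eq_alternatingGroup_of_index_eq_two h1
    exact ⟨iso.trans (MulEquiv.subgroupCongr this)⟩

end H38.SpX
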