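import Cfsg.Agent.H38.SpRootQuad
import Cfsg.Agent.H38.SpRootOrth
import Cfsg.Agent.H38.SpRootComb

/-!
Overgroups of root elements at two centres in dimension four over the field of two elements.
-/

set_option autoImplicit false
set_option linter.unusedSectionVars false

namespace H38.SpX.Two

open Matrix H45
open scoped MatrixGroups

variable {F : Type*} [Field F] {ι : Type} [Fintype ι] [DecidableEq ι]
  {B : (ι → F) →ₗ[F] (ι → F) →ₗ[F] F}

local notation "V" => (ι → F)

/-- A scalar from a bit. -/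
def chi (F : Type*) [Field F] (t : Bool) : F := bif t then 1 else 0

/-- A symplectic basis in dimension four, and the field has two elements. -/
structure Basis4 (B : (ι → F) →ₗ[F] (ι → F) →ₗ[F] F) (a b u w : ι → F) : Prop where
  form : SForm B
  bool : ∀ x : F, x = 0 ∨ x = 1
  dim : Fintype.card ι = 4
  ab : B a b = 1
  au : B a u = 0
  aw : B a w = 0
  bu : B b u = 0
  bw : B b w = 0
  uw : B u w = 1

/-- The vector with a given number. -/
def enc (a b u w : ι → F) (x : ℕ) : ι → F :=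
  chi F (x.testBit 0) • a + chi F (x.testBit 1) • b + chi F (x.testBit 2) • u +
    chi F (x.testBit 3) • w

/-- The matrix has this code. -/
def Rep (a b u w : ι → F) (g : GL ι F) (M : Code) : Prop :=
  ∀ x, act g (enc a b u w x) = enc a b u w (app M x)

/-- The code occurs in the subgroup. -/
def InL (L : Subgroup (GL ι F)) (a b u w : ι → F) (M : Code) : Prop :=
  ∃ g ∈ L, Rep a b u w g M

theorem chi_and (s t : Bool) : chi F (s && t) = chi F s * chi F t := by
  cases s <;> cases t <;> simp [chi]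

theorem app_xor (M : Code) (x y : ℕ) : app M (x ^^^ y) = app M x ^^^ app M y := by
  have h : ∀ (s t : Bool) (m : ℕ), (bif xor s t then m else 0) =
      (bif s then m else 0) ^^^ (bif t then m else 0) := by
    intro s t m; cases s <;> cases t <;> simp
  simp only [app, Nat.testBit_xor, h]
  ac_rfl

theorem app_zero (M : Code) : app M 0 = 0 := by simp [app]

theorem app_mulC (M N : Code) (x : ℕ) : app (mulC M N) x = app M (app N x) := by
  have h : ∀ (s : Bool) (m : ℕ), (bif s then app M m else 0) = app M (bif s then m else 0) := by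
    intro s m; cases s <;> simp [app_zero]
  conv_lhs => rw [app]
  conv_rhs => arg 2; rw [app]
  simp only [mulC, h, app_xor]

variable {L : Subgroup (GL ι F)} {a b u w : ι → F}

theorem rep_mul {g h : GL ι F} {M N : Code} (hg : Rep a b u w g M) (hh : Rep a b u w h N) :
    Rep a b u w (g * h) (mulC M N) := fun x => by rw [act_mul, hh, hg, app_mulC]

theorem inL_mul {M N : Code} (hM : InL L a b u w M) (hN : InL L a b u w N) :
    InL L a b u w (mulC M N) := by
  obtain ⟨g, hg, hg'⟩ := hM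
  obtain ⟨h, hh, hh'⟩ := hN
  exact ⟨g * h, mul_mem hg hh, rep_mul hg' hh'⟩

theorem exists_bits : ∀ s₀ s₁ s₂ s₃ : Bool, ∃ x, x < 16 ∧ Nat.testBit x 0 = s₀ ∧
    Nat.testBit x 1 = s₁ ∧ Nat.testBit x 2 = s₂ ∧ Nat.testBit x 3 = s₃ := by decide +kernel

variable (K : Basis4 B a b u w)
include K

theorem two_eq : (1 : F) + 1 = 0 := add_self' K.form 1

theorem chi_xor (s t : Bool) : chi F (xor s t) = chi F s + chi F t := by
  cases s <;> cases t <;> simp [chi, two_eq K]

theorem enc_xor (x y : ℕ) : enc a b u w (x ^^^ y) = enc a b u w x + enc a b u w y := by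
  simp only [enc, Nat.testBit_xor, chi_xor K]
  module

omit K in
theorem enc_zero : enc a b u w 0 = 0 := by simp [enc, chi]

theorem enc_bif (s : Bool) (m : ℕ) :
    enc a b u w (bif s then m else 0) = chi F s • enc a b u w m := by
  cases s <;> simp [chi, enc_zero]

omit K in
theorem enc_gens : enc a b u w 1 = a ∧ enc a b u w 2 = b ∧ enc a b u w 4 = u ∧
    enc a b u w 8 = w := by
  refine ⟨?_, ?_, ?_, ?_⟩ <;> simp [enc, chi, Nat.testBit]

theorem pairing : B b a = 1 ∧ B u a = 0 ∧ B w a = 0 ∧ B u b = 0 ∧ B w b = 0 ∧ B w u = 1 := by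
  have S := K.form
  exact ⟨by rw [symm S, K.ab], by rw [symm S, K.au], by rw [symm S, K.aw], by rw [symm S, K.bu],
    by rw [symm S, K.bw], by rw [symm S, K.uw]⟩

theorem form_enc (x y : ℕ) : B (enc a b u w x) (enc a b u w y) = chi F (bn x y) := by
  obtain ⟨h1, h2, h3, h4, h5, h6⟩ := pairing K
  have S := K.form
  simp only [enc, bn, chi_xor K, chi_and, map_add, map_smul, LinearMap.add_apply,
    LinearMap.smul_apply, smul_eq_mul, S.alt, K.ab, K.au, K.aw, K.bu, K.bw, K.uw, h1, h2, h3, h4,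
    h5, h6]
  ring

theorem chi_inj {s t : Bool} (h : chi F s = chi F t) : s = t := by
  cases s <;> cases t <;> simp_all [chi]

theorem enc_inj {x y : ℕ} (hx : x < 16) (hy : y < 16) (h : enc a b u w x = enc a b u w y) :
    x = y := by
  have key : ∀ z, chi F (bn x z) = chi F (bn y z) := fun z => by
    rw [← form_enc K, ← form_enc K, h]
  have h1 := chi_inj K (key 1)
  have h2 := chi_inj K (key 2)
  have h4 := chi_inj K (key 4)
  have h8 := chi_inj K (key 8)
  revert h1 h2 h4 h8
  revert hx hy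
  revert x y
  intro x y _ _ hx hy
  interval_cases x <;> interval_cases y <;> decide

theorem enc_surj (v : V) : ∃ x < 16, enc a b u w x = v := by
  obtain ⟨h1, h2, h3, h4, h5, h6⟩ := pairing K
  have S := K.form
  have hd : ∀ z : V, B z a = 0 → B z b = 0 → B z u = 0 → B z w = 0 → z = 0 := by
    let f : V →ₗ[F] (Fin 4 → F) := LinearMap.pi ![B.flip a, B.flip b, B.flip u, B.flip w]
    have hsurj : Function.Surjective f := fun c => by
      refine ⟨c 1 • a + c 0 • b + c 3 • u + c 2 • w, funext fun i => ?_⟩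
      fin_cases i <;>
        simp [f, S.alt, K.ab, K.au, K.aw, K.bu, K.bw, K.uw, h1, h2, h3, h4, h5, h6]
    have hinj : Function.Injective f :=
      (LinearMap.injective_iff_surjective_of_finrank_eq_finrank (by
        rw [Module.finrank_pi, Module.finrank_pi, K.dim, Fintype.card_fin])).2 hsurj
    intro z za zb zu zw
    refine hinj (funext fun i => ?_)
    fin_cases i <;> simp [f, za, zb, zu, zw]
  have hbit : ∀ c : F, ∃ s, chi F s = c := fun c => by
    rcases K.bool c with rfl | rfl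
    · exact ⟨false, rfl⟩
    · exact ⟨true, rfl⟩
  obtain ⟨s₀, e₀⟩ := hbit (B v b)
  obtain ⟨s₁, e₁⟩ := hbit (B v a)
  obtain ⟨s₂, e₂⟩ := hbit (B v w)
  obtain ⟨s₃, e₃⟩ := hbit (B v u)
  obtain ⟨x, hx, b0, b1, b2, b3⟩ : ∃ x, x < 16 ∧ Nat.testBit x 0 = s₀ ∧ Nat.testBit x 1 = s₁ ∧
      Nat.testBit x 2 = s₂ ∧ Nat.testBit x 3 = s₃ := exists_bits s₀ s₁ s₂ s₃
  refine ⟨x, hx, ?_⟩
  have e : enc a b u w x = B v b • a + B v a • b + B v w • u + B v u • w := by
    rw [enc, b0, b1, b2, b3, e₀, e₁, e₂, e₃]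
  have h0 : v + enc a b u w x = 0 := by
    refine hd _ ?_ ?_ ?_ ?_ <;>
      simp [e, S.alt, K.ab, K.au, K.aw, K.bu, K.bw, K.uw, h1, h2, h3, h4, h5, h6,
        add_self' S]
  calc enc a b u w x = v + (v + enc a b u w x) := by rw [← add_assoc, vadd_self S, zero_add]
    _ = v := by rw [h0, add_zero]

theorem rep_of_basis {g : GL ι F} {M : Code} (h1 : act g a = enc a b u w M.1)
    (h2 : act g b = enc a b u w M.2.1) (h3 : act g u = enc a b u w M.2.2.1)
    (h4 : act g w = enc a b u w M.2.2.2) : Rep a b u w g M := by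
  intro x
  have hl : ∀ (c : F) (y : V), act g (c • y) = c • act g y := fun c y => Matrix.mulVec_smul _ _ _
  have ha : ∀ y z : V, act g (y + z) = act g y + act g z := fun y z => Matrix.mulVec_add _ _ _
  rw [app, enc_xor K, enc_xor K, enc_xor K, enc_bif K, enc_bif K, enc_bif K, enc_bif K,
    ← h1, ← h2, ← h3, ← h4]
  conv_lhs => rw [enc]
  simp only [hl, ha]

theorem inL_one : InL L a b u w oneC := by
  obtain ⟨e1, e2, e4, e8⟩ := enc_gens (a := a) (b := b) (u := u) (w := w)
  exact ⟨1, one_mem _, rep_of_basis K (by simp [oneC, act, e1]) (by simp [oneC, act, e2])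
    (by simp [oneC, act, e4]) (by simp [oneC, act, e8])⟩

theorem rep_relC {p v : ℕ} {c : Bool} (h : bn p v = false) :
    Rep a b u w (rel B (enc a b u w p) (enc a b u w v) (chi F c)) (relC p v c) := by
  have S := K.form
  have hv : B (enc a b u w p) (enc a b u w v) = 0 := by rw [form_enc K, h]; rfl
  have key : ∀ x, act (rel B (enc a b u w p) (enc a b u w v) (chi F c)) (enc a b u w x) =
      enc a b u w (relApp p v c x) := fun x => by
    rw [act_rel S hv, relApp, enc_xor K, enc_xor K, enc_bif K, enc_bif K, chi_xor K, chi_and,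
      form_enc K, form_enc K, add_smul]
    module
  obtain ⟨e1, e2, e4, e8⟩ := enc_gens (a := a) (b := b) (u := u) (w := w)
  refine rep_of_basis K ?_ ?_ ?_ ?_
  · exact (congrArg (act _) e1.symm).trans (key _)
  · exact (congrArg (act _) e2.symm).trans (key _)
  · exact (congrArg (act _) e4.symm).trans (key _)
  · exact (congrArg (act _) e8.symm).trans (key _)

theorem rep_unique {g : GL ι F} {M N : Code} (hM : Rep a b u w g M) (hN : Rep a b u w g N)
    (bM : M.1 < 16 ∧ M.2.1 < 16 ∧ M.2.2.1 < 16 ∧ M.2.2.2 < 16)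
    (bN : N.1 < 16 ∧ N.2.1 < 16 ∧ N.2.2.1 < 16 ∧ N.2.2.2 < 16) : M = N := by
  have h := fun x => (hM x).symm.trans (hN x)
  have e : ∀ (P : Code), app P 1 = P.1 ∧ app P 2 = P.2.1 ∧ app P 4 = P.2.2.1 ∧ app P 8 = P.2.2.2 :=
    fun P => by refine ⟨?_, ?_, ?_, ?_⟩ <;> simp [app, Nat.testBit]
  refine Prod.ext ?_ (Prod.ext ?_ (Prod.ext ?_ ?_))
  · exact enc_inj K bM.1 bN.1 (by have := h 1; rwa [(e M).1, (e N).1] at this)
  · exact enc_inj K bM.2.1 bN.2.1 (by have := h 2; rwa [(e M).2.1, (e N).2.1] at this)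
  · exact enc_inj K bM.2.2.1 bN.2.2.1 (by have := h 4; rwa [(e M).2.2.1, (e N).2.2.1] at this)
  · exact enc_inj K bM.2.2.2 bN.2.2.2 (by have := h 8; rwa [(e M).2.2.2, (e N).2.2.2] at this)

theorem gl_of_rep {g h : GL ι F} {M : Code} (hg : Rep a b u w g M) (hh : Rep a b u w h M) :
    g = h := by
  refine gl_ext fun v => ?_
  obtain ⟨x, -, rfl⟩ := enc_surj K v
  rw [hg, hh]

theorem inL_words {gs : List Code} (hgs : ∀ M ∈ gs, InL L a b u w M) :
    ∀ n, ∀ M ∈ words gs n, InL L a b u w M := by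
  intro n
  induction n with
  | zero =>
    intro M hM
    rw [words, List.mem_singleton] at hM
    exact hM ▸ inL_one K
  | succ n ih =>
    intro M hM
    rw [words, step, List.mem_eraseDups, List.mem_append] at hM
    rcases hM with hM | hM
    · exact ih M hM
    · obtain ⟨g, hg, hM⟩ := List.mem_flatMap.1 hM
      obtain ⟨N, hN, rfl⟩ := List.mem_map.1 hM
      exact inL_mul (hgs g hg) (ih N hN)

theorem inL_wordC {gs : List Code} (hgs : ∀ M ∈ gs, InL L a b u w M) (v : List ℕ) :
    InL L a b u w (wordC gs v) := by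
  induction v with
  | nil => exact inL_one K
  | cons i v ih =>
    refine inL_mul ?_ ih
    by_cases h : i < gs.length
    · rw [List.getD_eq_getElem _ _ h]; exact hgs _ (List.getElem_mem _)
    · rw [List.getD_eq_default _ _ (by omega)]; exact inL_one K

theorem inL_grp {f₁ f₂ g₁ g₂ : Bool} (h : ∀ M ∈ gens f₁ f₂ g₁ g₂, InL L a b u w M) :
    ∀ M ∈ grp f₁ f₂ g₁ g₂, InL L a b u w M := fun M hM => inL_words K h 9 M hM

/-- A list of codes bounds the order from below. -/
theorem length_le_card [Finite F] {G : List Code} (hnd : G.Nodup)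
    (hbd : ∀ M ∈ G, M.1 < 16 ∧ M.2.1 < 16 ∧ M.2.2.1 < 16 ∧ M.2.2.2 < 16)
    (hin : ∀ M ∈ G, InL L a b u w M) : G.length ≤ Nat.card L := by
  haveI : Finite L := inferInstance
  choose k hk hkr using hin
  let f : Fin G.length → L := fun i => ⟨k _ (List.getElem_mem i.2), hk _ _⟩
  have hinj : Function.Injective f := fun i j h => by
    have e : k _ (List.getElem_mem i.2) = k _ (List.getElem_mem j.2) := congrArg Subtype.val h
    have h' := hkr _ (List.getElem_mem i.2)
    rw [e] at h'
    have hM := rep_unique K h' (hkr _ (List.getElem_mem j.2)) (hbd _ (List.getElem_mem i.2))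
      (hbd _ (List.getElem_mem j.2))
    exact Fin.ext ((hnd.getElem_inj_iff).1 hM)
  have := Nat.card_le_card_of_injective f hinj
  rwa [Nat.card_fin] at this

theorem bool_cases (c : F) : ∃ s, chi F s = c := by
  rcases K.bool c with rfl | rfl
  · exact ⟨false, rfl⟩
  · exact ⟨true, rfl⟩

omit K in
theorem qn_xor (f₁ f₂ : Bool) (i j : ℕ) :
    qn f₁ f₂ (i ^^^ j) = xor (xor (qn f₁ f₂ i) (qn f₁ f₂ j)) (bn i j) := by
  simp only [qn, bn, Nat.testBit_xor]
  generalize i.testBit 0 = a₀
  generalize i.testBit 1 = a₁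
  generalize i.testBit 2 = a₂
  generalize i.testBit 3 = a₃
  generalize j.testBit 0 = b₀
  generalize j.testBit 1 = b₁
  generalize j.testBit 2 = b₂
  generalize j.testBit 3 = b₃
  revert f₁ f₂ a₀ a₁ a₂ a₃ b₀ b₁ b₂ b₃
  decide +kernel

/-- The quadratic form with given values on the middle vectors. -/
theorem exists_qform (f₁ f₂ : Bool) : ∃ Q : QuadraticForm F V,
    (∀ x y, Q (x + y) = Q x + Q y + B x y) ∧
      ∀ x, Q (enc a b u w x) = chi F (qn f₁ f₂ x) := by
  have S := K.form
  set q : V → F := fun x => B x a * B x b + B x u * B x w + chi F f₁ * B x w + chi F f₂ * B x u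
    with hq
  have hsq : ∀ c : F, c * c = c := fun c => by
    rcases K.bool c with rfl | rfl <;> simp
  obtain ⟨p1, p2, p3, p4, p5, p6⟩ := pairing K
  have hqenc : ∀ x, q (enc a b u w x) = chi F (qn f₁ f₂ x) := fun x => by
    simp only [hq, qn, enc, chi_xor K, chi_and, map_add, map_smul, LinearMap.add_apply,
      LinearMap.smul_apply, smul_eq_mul, S.alt, K.ab, K.au, K.aw, K.bu, K.bw, K.uw, p1, p2, p3,
      p4, p5, p6]
    ring
  have hadd : ∀ x y, q (x + y) = q x + q y + B x y := by
    intro x y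
    obtain ⟨i, -, rfl⟩ := enc_surj K x
    obtain ⟨j, -, rfl⟩ := enc_surj K y
    rw [← enc_xor K, hqenc, hqenc, hqenc, form_enc K, ← chi_xor K, ← chi_xor K, qn_xor]
  have hsmul : ∀ (c : F) x, q (c • x) = c * c * q x := fun c x => by
    rw [hsq]
    rcases K.bool c with rfl | rfl <;> simp [hq]
  have hpol : ∀ x y, QuadraticMap.polar q x y = B x y := fun x y => by
    rw [QuadraticMap.polar, hadd]; ring
  exact ⟨QuadraticMap.ofPolar q hsmul
    (fun x x' y => by simp only [hpol, map_add, LinearMap.add_apply])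
    (fun c x y => by simp only [hpol, map_smul, LinearMap.smul_apply]), hadd, hqenc⟩

/-- The generated group lies in the orthogonal part. -/
theorem grp_in {f₁ f₂ : Bool} {Q : QuadraticForm F V}
    (hQ : ∀ x, Q (enc a b u w x) = chi F (qn f₁ f₂ x))
    (hgens : ∀ M ∈ gens f₁ f₂ f₁ f₂, InL L a b u w M) :
    ∀ M ∈ grp f₁ f₂ f₁ f₂, ∃ g ∈ L, g ∈ Cfsg.isometryGroup F ⇑Q ∧ Rep a b u w g M := by
  have hL' : ∀ M ∈ gens f₁ f₂ f₁ f₂, InL (L ⊓ Cfsg.isometryGroup F ⇑Q) a b u w M := by
    intro M hM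
    obtain ⟨g, hg, hgM⟩ := hgens M hM
    refine ⟨g, ⟨hg, mem_iso.2 fun v => ?_⟩, hgM⟩
    obtain ⟨x, hx, rfl⟩ := enc_surj K v
    rw [hgM, hQ, hQ]
    congr 1
    have hall : ∀ f₁ f₂ : Bool, ∀ M ∈ gens f₁ f₂ f₁ f₂, ∀ x ∈ List.range 16,
        qn f₁ f₂ (app M x) = qn f₁ f₂ x := by decide +kernel
    exact hall f₁ f₂ M hM x (List.mem_range.2 hx)
  intro M hM
  obtain ⟨g, hg, hgM⟩ := inL_words K hL' 9 M hM
  exact ⟨g, hg.1, hg.2, hgM⟩

end H38.SpX.Two
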