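import Cfsg.Agent.H38.SpRootTwo

/-!
The orthogonal case in dimension four over the field of two elements.
-/

set_option autoImplicit false
set_option linter.unusedSectionVars false

namespace H38.SpX.Two

open Matrix H45
open scoped MatrixGroups

variable {F : Type*} [Field F] {ι : Type} [Fintype ι] [DecidableEq ι]
  {B : (ι → F) →ₗ[F] (ι → F) →ₗ[F] F}

local notation "V" => (ι → F)

attribute [local irreducible] grp sing orths fixCount

theorem std : ∀ f₁ f₂ : Bool, (!qn f₁ f₂ 1) = true ∧ (!qn f₁ f₂ 2 && bn 1 2) = true ∧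
    ((qn f₁ f₂ 4 == f₁) && !bn 1 4 && !bn 2 4) = true ∧
    ((qn f₁ f₂ 8 == f₂) && !bn 1 8 && !bn 2 8 && bn 4 8) = true := by decide +kernel

variable {L : Subgroup (GL ι F)} {a b u w : ι → F} (K : Basis4 B a b u w)
include K

/-- The rank parity read from the fixed vectors. -/
theorem even_rank [Finite F] {g : GL ι F} {M : Code} (hM : Rep a b u w g M) (hm₀ : M.1 < 16)
    (hm₁ : M.2.1 < 16) (hm₂ : M.2.2.1 < 16) (hm₃ : M.2.2.2 < 16) :
    Even ((g : Matrix ι ι F) - 1).rank ↔ evenFix M = true := by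
  have hlt : ∀ y, app M y < 16 := by
    intro y
    have h : ∀ (s : Bool) {m : ℕ}, m < 2 ^ 4 → (bif s then m else 0) < 2 ^ 4 := by
      intro s m hm; cases s <;> simp [hm] <;> omega
    exact Nat.xor_lt_two_pow (n := 4) (Nat.xor_lt_two_pow (Nat.xor_lt_two_pow (h _ hm₀) (h _ hm₁))
      (h _ hm₂)) (h _ hm₃)
  set T := ((g : Matrix ι ι F) - 1).mulVecLin
  have hker : Nat.card (LinearMap.ker T) = fixCount M := by
    have hT : ∀ v, v ∈ LinearMap.ker T ↔ act g v = v := fun v => by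
      rw [LinearMap.mem_ker, Matrix.mulVecLin_apply, Matrix.sub_mulVec, Matrix.one_mulVec,
        sub_eq_zero]
    have hnd' : ((List.range 16).filter fun x => app M x == x).Nodup :=
      List.nodup_range.filter _
    have hmemF : ∀ x, x ∈ ((List.range 16).filter fun x => app M x == x) ↔
        x < 16 ∧ app M x = x := fun x => by simp
    let e : Fin ((List.range 16).filter fun x => app M x == x).length → LinearMap.ker T :=
      fun i => ⟨enc a b u w (((List.range 16).filter fun x => app M x == x)[i.1]), by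
        rw [hT, hM, ((hmemF _).1 (List.getElem_mem i.2)).2]⟩
    have he : Function.Bijective e := by
      refine ⟨fun i j h => ?_, fun v => ?_⟩
      · refine Fin.ext ((hnd'.getElem_inj_iff).1 (enc_inj K
          ((hmemF _).1 (List.getElem_mem i.2)).1 ((hmemF _).1 (List.getElem_mem j.2)).1
          (congrArg Subtype.val h)))
      · obtain ⟨x, hx, hxv⟩ := enc_surj K (v : V)
        have hfix : act g (enc a b u w x) = enc a b u w x := by rw [hxv]; exact (hT _).1 v.2
        rw [hM] at hfix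
        obtain ⟨i, hi, hie⟩ := List.getElem_of_mem
          ((hmemF x).2 ⟨hx, enc_inj K (hlt x) hx hfix⟩)
        exact ⟨⟨i, hi⟩, Subtype.ext ((congrArg (enc a b u w) hie).trans hxv)⟩
    rw [← Nat.card_eq_of_bijective e he, Nat.card_fin]; unfold fixCount; rfl
  have hcardF : Nat.card F = 2 := Nat.card_eq_two_iff.2
    ⟨0, 1, zero_ne_one, Set.eq_univ_of_forall fun x => (K.bool x).imp id id⟩
  rw [Module.natCard_eq_pow_finrank (K := F), hcardF] at hker
  have hr : ((g : Matrix ι ι F) - 1).rank = Module.finrank F (LinearMap.range T) := rfl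
  have hs := T.finrank_range_add_finrank_ker
  rw [Module.finrank_pi, K.dim] at hs
  rw [hr, evenFix, ← hker]
  generalize Module.finrank F (LinearMap.ker T) = k at hs
  generalize Module.finrank F (LinearMap.range T) = r at hs
  obtain rfl : r = 4 - k := by omega
  have : k ≤ 4 := by omega
  interval_cases k <;> decide

/-- A group fixing the form is the orthogonal group or its even part. -/
theorem orth_case [Finite F] {f₁ f₂ : Bool} {Q : QuadraticForm F V}
    (hQadd : ∀ x y, Q (x + y) = Q x + Q y + B x y)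
    (hQ : ∀ x, Q (enc a b u w x) = chi F (qn f₁ f₂ x))
    (hH : ∀ M ∈ grp f₁ f₂ f₁ f₂, ∃ g ∈ L, g ∈ Cfsg.isometryGroup F ⇑Q ∧ Rep a b u w g M)
    (hLQ : L ≤ Cfsg.isometryGroup F ⇑Q) :
    L = Cfsg.isometryGroup F ⇑Q ∨ ∀ g : GL ι F, g ∈ L ↔
      (g ∈ Cfsg.isometryGroup F ⇑Q ∧ Even ((g : Matrix ι ι F) - 1).rank) := by
  have S := K.form
  obtain ⟨e1, e2, e4, e8⟩ := enc_gens (a := a) (b := b) (u := u) (w := w)
  set r := rel B (enc a b u w 3) (enc a b u w 0) (chi F true)
  have hr : Rep a b u w r (relC 3 0 true) := rep_relC K (by decide)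
  have hcos : ∀ g ∈ Cfsg.isometryGroup F ⇑Q,
      (Even ((g : Matrix ι ι F) - 1).rank ∧ g ∈ L) ∨
        (¬ Even ((g : Matrix ι ι F) - 1).rank ∧ r * g ∈ L) := by
    intro g hg
    have hgB := mem_spG.1 (iso_le_spG S hQadd hg)
    obtain ⟨m₀, hm₀, e₀⟩ := enc_surj K (act g a)
    obtain ⟨m₁, hm₁, e₁⟩ := enc_surj K (act g b)
    obtain ⟨m₂, hm₂, e₂⟩ := enc_surj K (act g u)
    obtain ⟨m₃, hm₃, e₃⟩ := enc_surj K (act g w)
    set M : Code := (m₀, m₁, m₂, m₃) with hMdef
    have hM : Rep a b u w g M := rep_of_basis K e₀.symm e₁.symm e₂.symm e₃.symm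
    have hb : ∀ i j s t, enc a b u w i = act g (enc a b u w s) →
        enc a b u w j = act g (enc a b u w t) → bn i j = bn s t := fun i j s t h h' =>
      chi_inj K (by rw [← form_enc K, ← form_enc K, h, h', hgB])
    have hv : ∀ i s, enc a b u w i = act g (enc a b u w s) → qn f₁ f₂ i = qn f₁ f₂ s :=
      fun i s h => chi_inj K (by rw [← hQ, ← hQ, h, mem_iso.1 hg])
    replace e₀ : enc a b u w m₀ = act g (enc a b u w 1) := by rw [e1]; exact e₀
    replace e₁ : enc a b u w m₁ = act g (enc a b u w 2) := by rw [e2]; exact e₁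
    replace e₂ : enc a b u w m₂ = act g (enc a b u w 4) := by rw [e4]; exact e₂
    replace e₃ : enc a b u w m₃ = act g (enc a b u w 8) := by rw [e8]; exact e₃
    have hmem : M ∈ orths f₁ f₂ := by
      simp only [orths, List.mem_flatMap, List.mem_filter, List.mem_range, List.mem_map]
      refine ⟨m₀, ⟨hm₀, ?_⟩, m₁, ⟨hm₁, ?_⟩, m₂, ⟨hm₂, ?_⟩, m₃, ⟨hm₃, ?_⟩, rfl⟩
      · rw [hv _ _ e₀]; exact (std f₁ f₂).1
      · rw [hv _ _ e₁, hb _ _ _ _ e₀ e₁]; exact (std f₁ f₂).2.1
      · rw [hv _ _ e₂, hb _ _ _ _ e₀ e₂, hb _ _ _ _ e₁ e₂]; exact (std f₁ f₂).2.2.1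
      · rw [hv _ _ e₃, hb _ _ _ _ e₀ e₃, hb _ _ _ _ e₁ e₃, hb _ _ _ _ e₂ e₃]
        exact (std f₁ f₂).2.2.2
    obtain ⟨hE, hO⟩ := orth_facts f₁ f₂ M hmem
    have heven := even_rank K hM hm₀ hm₁ hm₂ hm₃
    by_cases hev : evenFix M = true
    · refine Or.inl ⟨heven.2 hev, ?_⟩
      obtain ⟨h, hh, -, hhM⟩ := hH M (hE hev)
      rwa [gl_of_rep K hM hhM]
    · rw [Bool.not_eq_true] at hev
      refine Or.inr ⟨fun h => by rw [heven.1 h] at hev; exact Bool.noConfusion hev, ?_⟩
      obtain ⟨h, hh, -, hhM⟩ := hH _ (hO hev)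
      rwa [gl_of_rep K (rep_mul hr hM) hhM]
  by_cases hrL : r ∈ L
  · left
    refine le_antisymm hLQ fun g hg => ?_
    rcases hcos g hg with ⟨-, h⟩ | ⟨-, h⟩
    · exact h
    · exact (Subgroup.mul_mem_cancel_left L hrL).1 h
  · right
    refine fun g => ⟨fun hg => ⟨hLQ hg, ?_⟩, fun h => ?_⟩
    · rcases hcos g (hLQ hg) with ⟨e, -⟩ | ⟨-, h⟩
      · exact e
      · exact absurd ((Subgroup.mul_mem_cancel_right L hg).1 h) hrL
    · rcases hcos g h.1 with ⟨-, e⟩ | ⟨n, -⟩
      · exact e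
      · exact absurd h.2 n

end H38.SpX.Two
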