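import Cfsg.Agent.H38.SpRootTwoFix

/-!
The dichotomy in dimension four over the field of two elements.
-/

set_option autoImplicit false
set_option linter.unusedSectionVars false

namespace H38.SpX.Two

open Matrix H45
open scoped MatrixGroups

variable {F : Type*} [Field F] {ι : Type} [Fintype ι] [DecidableEq ι]
  {B : (ι → F) →ₗ[F] (ι → F) →ₗ[F] F}

local notation "V" => (ι → F)

attribute [local irreducible] grp sing orths fixCount

variable {L : Subgroup (GL ι F)} {a b u w : ι → F} (K : Basis4 B a b u w)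
include K

/-- A group moving the form is large. -/
theorem move_case [Finite F] (hL : L ≤ spG B) {f₁ f₂ : Bool} {Q : QuadraticForm F V}
    (hQadd : ∀ x y, Q (x + y) = Q x + Q y + B x y)
    (hQ : ∀ x, Q (enc a b u w x) = chi F (qn f₁ f₂ x))
    (hH : ∀ M ∈ grp f₁ f₂ f₁ f₂, ∃ g ∈ L, g ∈ Cfsg.isometryGroup F ⇑Q ∧ Rep a b u w g M)
    (hLQ : ¬ L ≤ Cfsg.isometryGroup F ⇑Q) : 120 ≤ Nat.card L := by
  have S := K.form
  obtain ⟨e1, e2, e4, e8⟩ := enc_gens (a := a) (b := b) (u := u) (w := w)
  obtain ⟨p1, p2, p3, p4, p5, p6⟩ := pairing K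
  have hsq : ∀ c : F, c * c = c := fun c => by
    rcases K.bool c with rfl | rfl <;> simp
  obtain ⟨hlen, hnd, hbd⟩ := grp_facts f₁ f₂
  obtain ⟨g₀, hg₀, hg₀Q⟩ := SetLike.not_le_iff_exists.1 hLQ
  -- the translated forms
  let Moves : GL ι F → V → Prop := fun k p => ∀ x, Q (act k⁻¹ x) = Q x + B x p
  have hiso : ∀ {k : GL ι F}, k ∈ Cfsg.isometryGroup F ⇑Q → ∀ x, Q (act k⁻¹ x) = Q x :=
    fun hk x => mem_iso.1 (inv_mem hk) x
  have hunique : ∀ {k p p'}, Moves k p → Moves k p' → p = p' := by
    intro k p p' h h'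
    have : ∀ x, B (p + p') x = 0 := fun x => by
      rw [symm S, map_add]
      linear_combination h x - h' x + add_self' S (B x p)
    calc p = (p + p') + p' := by rw [add_assoc, vadd_self S, add_zero]
      _ = p' := by rw [eq_zero_of_forall S this, zero_add]
  set p₁ : V := enc a b u w 0
  obtain ⟨p, hp⟩ : ∃ p, Moves g₀ p := by
    let D : V →ₗ[F] F :=
      { toFun := fun x => Q (act g₀⁻¹ x) + Q x
        map_add' := fun x y => by
          rw [show act g₀⁻¹ (x + y) = act g₀⁻¹ x + act g₀⁻¹ y from Matrix.mulVec_add _ _ _,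
            hQadd, hQadd, mem_spG.1 (hL (inv_mem hg₀))]
          linear_combination add_self' S (B x y)
        map_smul' := fun c x => by
          rw [show act g₀⁻¹ (c • x) = c • act g₀⁻¹ x from Matrix.mulVec_smul _ _ _,
            RingHom.id_apply, QuadraticMap.map_smul, QuadraticMap.map_smul, hsq]
          simp [mul_add] }
    obtain ⟨i, -, hi⟩ := enc_surj K (D b • a + D a • b + D w • u + D u • w)
    refine ⟨enc a b u w i, fun x => ?_⟩
    have hDx : D x = B x (enc a b u w i) := by
      obtain ⟨j, -, rfl⟩ := enc_surj K x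
      conv_lhs => rw [enc]
      rw [hi]
      conv_rhs => rw [enc]
      simp only [map_add, map_smul, LinearMap.add_apply, LinearMap.smul_apply, smul_eq_mul,
        S.alt, K.ab, K.au, K.aw, K.bu, K.bw, K.uw, p1, p2, p3, p4, p5, p6]
      ring
    have : Q (act g₀⁻¹ x) + Q x = B x (enc a b u w i) := hDx
    linear_combination this - add_self' S (Q x)
  obtain ⟨n, hn, rfl⟩ := enc_surj K p
  have hn0 : n ≠ 0 := fun e => hg₀Q (by
    have : g₀⁻¹ ∈ Cfsg.isometryGroup F ⇑Q := mem_iso.2 fun x => by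
      rw [hp x, e, enc_zero, map_zero, add_zero]
    simpa using inv_mem this)
  have hsing : qn f₁ f₂ n = false := by
    by_contra hcon
    rw [Bool.not_eq_false] at hcon
    refine zero_facts f₁ f₂ n (List.mem_range.2 hn) hcon ?_
    let A : Finset ℕ := (Finset.range 16).filter fun x => xor (qn f₁ f₂ x) (bn x n) = false
    let C : Finset ℕ := (Finset.range 16).filter fun x => qn f₁ f₂ x = false
    have hAC : A.card = C.card := by
      choose d hd hde using enc_surj K
      refine Finset.card_bij' (fun x _ => d (act g₀⁻¹ (enc a b u w x)))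
        (fun x _ => d (act g₀ (enc a b u w x))) ?_ ?_ ?_ ?_
      · intro x hx
        simp only [A, Finset.mem_filter, Finset.mem_range] at hx
        simp only [C, Finset.mem_filter, Finset.mem_range]
        refine ⟨hd _, chi_inj K ?_⟩
        rw [← hQ, hde, hp, hQ, form_enc K, ← chi_xor K, hx.2]
      · intro x hx
        simp only [C, Finset.mem_filter, Finset.mem_range] at hx
        simp only [A, Finset.mem_filter, Finset.mem_range]
        refine ⟨hd _, chi_inj K ?_⟩
        rw [chi_xor K, ← hQ, ← form_enc K, hde, ← hp, act_inv_act, hQ, hx.2]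
      · intro x hx
        simp only [A, Finset.mem_filter, Finset.mem_range] at hx
        refine enc_inj K (hd _) hx.1 ?_
        rw [hde, hde, act_act_inv]
      · intro x hx
        simp only [C, Finset.mem_filter, Finset.mem_range] at hx
        refine enc_inj K (hd _) hx.1 ?_
        rw [hde, hde, act_inv_act]
    have conv1 : ∀ (P : ℕ → Bool), ((List.range 16).filter fun x => !P x).length =
        ((Finset.range 16).filter fun x => P x = false).card := fun P => by
      rw [← List.toFinset_card_of_nodup (List.nodup_range.filter _)]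
      congr 1
      ext x
      simp
    rw [sing, conv1 (fun x => xor (qn f₁ f₂ x) (bn x n)), conv1]
    exact hAC
  have hshift : ∀ {h k : GL ι F} {p : V}, h ∈ Cfsg.isometryGroup F ⇑Q → Moves k p →
      Moves (h * k) (act h p) ∧ Moves (k * h) p := by
    intro h k p hh hk
    refine ⟨fun x => ?_, fun x => ?_⟩
    · rw [_root_.mul_inv_rev, act_mul, hk, hiso hh]
      congr 1
      conv_rhs => rw [← act_act_inv h x, mem_spG.1 (iso_le_spG S hQadd hh)]
    · rw [_root_.mul_inv_rev, act_mul, hiso hh, hk]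
  have hreach : ∀ m ∈ sing f₁ f₂, ∃ k ∈ L, Moves k (enc a b u w m) := by
    intro m hm
    by_cases hm0 : m = 0
    · exact ⟨1, one_mem _, fun x => by rw [hm0, enc_zero, map_zero, add_zero, inv_one]; simp [act]⟩
    obtain ⟨M, hM, hMm⟩ := orbit_facts f₁ f₂ m hm hm0
    obtain ⟨N, hN, hNn⟩ := orbit_facts f₁ f₂ n
      (by unfold sing; exact List.mem_filter.2 ⟨List.mem_range.2 hn, by rw [hsing]; rfl⟩) hn0
    obtain ⟨h, hh, hhQ, hhM⟩ := hH M hM
    obtain ⟨h', hh', hhQ', hhN⟩ := hH N hN
    refine ⟨h * h'⁻¹ * g₀, mul_mem (mul_mem hh (inv_mem hh')) hg₀, ?_⟩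
    have := (hshift (mul_mem hhQ (inv_mem hhQ')) hp).1
    rwa [act_mul, ← hNn, ← hhN, e1, act_inv_act, ← e1, hhM, hMm] at this
  choose k hk hkp using hreach
  choose h hh hhQ hhM using hH
  have hPlt : ∀ x ∈ sing f₁ f₂, x < 16 := fun x hx => by
    unfold sing at hx; exact List.mem_range.1 (List.mem_filter.1 hx).1
  have hPnd : (sing f₁ f₂).Nodup := by unfold sing; exact List.nodup_range.filter _
  generalize sing f₁ f₂ = P at k hk hkp hPlt hPnd hlen
  generalize grp f₁ f₂ f₁ f₂ = G at h hh hhQ hhM hlen hnd hbd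
  let f : Fin P.length × Fin G.length → L := fun i =>
    ⟨k _ (List.getElem_mem i.1.2) * h _ (List.getElem_mem i.2.2),
      mul_mem (hk _ _) (hh _ _)⟩
  have hinj : Function.Injective f := by
    rintro ⟨i, j⟩ ⟨i', j'⟩ e
    have e' : k _ (List.getElem_mem i.2) * h _ (List.getElem_mem j.2) =
        k _ (List.getElem_mem i'.2) * h _ (List.getElem_mem j'.2) := congrArg Subtype.val e
    have m1 := (hshift (hhQ _ (List.getElem_mem j.2)) (hkp _ (List.getElem_mem i.2))).2
    have m2 := (hshift (hhQ _ (List.getElem_mem j'.2)) (hkp _ (List.getElem_mem i'.2))).2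
    rw [e'] at m1
    have hi : i = i' := by
      refine Fin.ext ((hPnd.getElem_inj_iff).1
        (enc_inj K (hPlt _ (List.getElem_mem i.2)) (hPlt _ (List.getElem_mem i'.2))
          (hunique m1 m2)))
    subst hi
    have e'' := mul_left_cancel e'
    have h' := hhM _ (List.getElem_mem j.2)
    rw [e''] at h'
    have := rep_unique K h' (hhM _ (List.getElem_mem j'.2)) (hbd _ (List.getElem_mem j.2))
      (hbd _ (List.getElem_mem j'.2))
    rw [Fin.ext ((hnd.getElem_inj_iff).1 this)]
  have := Nat.card_le_card_of_injective f hinj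
  rw [Nat.card_prod, Nat.card_fin, Nat.card_fin] at this
  omega

/-- The dichotomy: one quadratic form, or at least one hundred and twenty elements. -/
theorem main [Finite F] (hL : L ≤ spG B) (hA : Ctr B L a) (hB : Ctr B L b) :
    120 ≤ Nat.card L ∨ ∃ Q : QuadraticForm F V, (∀ x y, Q (x + y) = Q x + Q y + B x y) ∧
      (L = Cfsg.isometryGroup F ⇑Q ∨ ∀ g : GL ι F, g ∈ L ↔
        (g ∈ Cfsg.isometryGroup F ⇑Q ∧ Even ((g : Matrix ι ι F) - 1).rank)) := by
  have S := K.form
  obtain ⟨e1, e2, e4, e8⟩ := enc_gens (a := a) (b := b) (u := u) (w := w)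
  have hbit := bool_cases K
  obtain ⟨f₁, hf₁⟩ := hbit (phi B L a u)
  obtain ⟨f₂, hf₂⟩ := hbit (phi B L a w)
  obtain ⟨g₁, hg₁⟩ := hbit (phi B L b u)
  obtain ⟨g₂, hg₂⟩ := hbit (phi B L b w)
  have hgens : ∀ M ∈ gens f₁ f₂ g₁ g₂, InL L a b u w M := by
    intro M hM
    simp only [gens, List.mem_cons, List.not_mem_nil, or_false] at hM
    rcases hM with rfl | rfl | rfl | rfl
    · refine ⟨_, ?_, rep_relC K (by decide)⟩
      rw [e1, e4, hf₁]; exact (phi_rt hA.proj K.au).2
    · refine ⟨_, ?_, rep_relC K (by decide)⟩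
      rw [e1, e8, hf₂]; exact (phi_rt hA.proj K.aw).2
    · refine ⟨_, ?_, rep_relC K (by decide)⟩
      rw [e2, e4, hg₁]; exact (phi_rt hB.proj K.bu).2
    · refine ⟨_, ?_, rep_relC K (by decide)⟩
      rw [e2, e8, hg₂]; exact (phi_rt hB.proj K.bw).2
  haveI : Finite L := inferInstance
  rcases trichotomy f₁ f₂ g₁ g₂ with htv | ⟨h1, h2⟩ | ⟨hlen, hnd, hbd⟩
  · exfalso
    obtain ⟨g, hg, hgM⟩ := inL_wordC K hgens (tvWord f₁ f₂ g₁ g₂)
    rw [htv] at hgM
    have hr : bn 1 0 = false := by decide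
    have := gl_of_rep K hgM (rep_relC K hr)
    rw [e1, enc_zero, show chi F true = 1 from rfl] at this
    exact one_ne_zero (hA.rgd 1 ⟨map_zero _, this ▸ hg⟩)
  swap
  · exact Or.inl (le_trans hlen (length_le_card K hnd hbd (inL_grp K hgens)))
  rw [h1, h2] at hgens
  obtain ⟨Q, hQadd, hQ⟩ := exists_qform K f₁ f₂
  have hH := grp_in K hQ hgens
  by_cases hLQ : L ≤ Cfsg.isometryGroup F ⇑Q
  · exact Or.inr ⟨Q, hQadd, orth_case K hQadd hQ hH hLQ⟩
  · exact Or.inl (move_case K hL hQadd hQ hH hLQ)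

end H38.SpX.Two
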