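import Cfsg.Prelude.Def_ClassicalGeometry
import Cfsg.Agent.H49.Transvec

/-! Stabilisers of coordinate subspaces in GL_n: block form, order, maximality, conjugacy. -/

set_option autoImplicit false

namespace H38

open Matrix

variable {F : Type*} [Field F] {n : ℕ}

/-- The span of the first `k` coordinate vectors. -/
def coordSub (F : Type*) [Field F] (n k : ℕ) : Submodule F (Fin n → F) where
  carrier := {v | ∀ i : Fin n, k ≤ (i : ℕ) → v i = 0}
  add_mem' ha hb i hi := by simp [ha i hi, hb i hi]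
  zero_mem' i _ := rfl
  smul_mem' c v hv i hi := by simp [hv i hi]

theorem mem_coordSub {k : ℕ} {v : Fin n → F} :
    v ∈ coordSub F n k ↔ ∀ i : Fin n, k ≤ (i : ℕ) → v i = 0 := Iff.rfl

/-- The stabiliser of `coordSub`. -/
abbrev stabCoord (F : Type*) [Field F] (n k : ℕ) : Subgroup (GL (Fin n) F) :=
  Cfsg.stabilizing (Cfsg.glToMat (Fin n) F) {v : Fin n → F | ∀ i : Fin n, k ≤ (i : ℕ) → v i = 0}

theorem stabCoord_def {k : ℕ} {g : GL (Fin n) F} :
    g ∈ stabCoord F n k ↔
      ∀ v, v ∈ coordSub F n k ↔ (g : Matrix (Fin n) (Fin n) F) *ᵥ v ∈ coordSub F n k :=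
  Iff.rfl

theorem stabCoord_of_maps {k : ℕ} {g : GL (Fin n) F}
    (h : ∀ v ∈ coordSub F n k, (g : Matrix (Fin n) (Fin n) F) *ᵥ v ∈ coordSub F n k) :
    g ∈ stabCoord F n k := by
  rw [stabCoord_def]
  refine fun v => ⟨h v, fun hv => ?_⟩
  let f : coordSub F n k →ₗ[F] coordSub F n k :=
    ((g : Matrix (Fin n) (Fin n) F).mulVecLin).restrict h
  have hinj : Function.Injective f := fun a b hab => by
    apply Subtype.ext
    exact H49.gl_mulVec_injective g (congrArg Subtype.val hab)
  obtain ⟨a, ha⟩ := LinearMap.injective_iff_surjective.mp hinj ⟨_, hv⟩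
  have := H49.gl_mulVec_injective g (congrArg Subtype.val ha)
  rw [← this]
  exact a.2

theorem mem_stabCoord {k : ℕ} {g : GL (Fin n) F} :
    g ∈ stabCoord F n k ↔
      ∀ i j : Fin n, k ≤ (i : ℕ) → (j : ℕ) < k → (g : Matrix (Fin n) (Fin n) F) i j = 0 := by
  constructor
  · intro hg i j hi hj
    have hs : (Pi.single j 1 : Fin n → F) ∈ coordSub F n k := fun l hl =>
      Pi.single_eq_of_ne (fun h => by subst h; omega) _
    have := (stabCoord_def.mp hg _).mp hs i hi
    simpa [Matrix.mulVec_single] using this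
  · intro h
    refine stabCoord_of_maps fun v hv i hi => ?_
    show ∑ j, (g : Matrix (Fin n) (Fin n) F) i j * v j = 0
    refine Finset.sum_eq_zero fun j _ => ?_
    by_cases hj : (j : ℕ) < k
    · rw [h i j hi hj, zero_mul]
    · rw [hv j (not_lt.mp hj), mul_zero]

theorem card_GL_fin [Fintype F] (n : ℕ) :
    Nat.card (GL (Fin n) F) = ∏ i : Fin n, (Fintype.card F ^ n - Fintype.card F ^ (i : ℕ)) :=
  Matrix.card_GL_field n

/-- Block decomposition of the stabiliser. -/
theorem card_stabCoord [Fintype F] (k m : ℕ) :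
    Nat.card (stabCoord F (k + m) k) =
      Fintype.card F ^ (k * m) * (∏ i : Fin k, (Fintype.card F ^ k - Fintype.card F ^ (i : ℕ))) *
        ∏ i : Fin m, (Fintype.card F ^ m - Fintype.card F ^ (i : ℕ)) := by
  classical
  let e : Fin k ⊕ Fin m ≃ Fin (k + m) := finSumFinEquiv
  let mat : (GL (Fin k) F × GL (Fin m) F) × Matrix (Fin k) (Fin m) F →
      Matrix (Fin (k + m)) (Fin (k + m)) F := fun x =>
    (Matrix.fromBlocks (x.1.1 : Matrix _ _ F) x.2 0 (x.1.2 : Matrix _ _ F)).submatrix e.symm e.symm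
  have hdet : ∀ x, (mat x).det ≠ 0 := fun x => by
    rw [Matrix.det_submatrix_equiv_self, Matrix.det_fromBlocks_zero₂₁]
    exact mul_ne_zero (((Matrix.isUnit_iff_isUnit_det _).mp x.1.1.isUnit).ne_zero)
      (((Matrix.isUnit_iff_isUnit_det _).mp x.1.2.isUnit).ne_zero)
  let T : (GL (Fin k) F × GL (Fin m) F) × Matrix (Fin k) (Fin m) F → stabCoord F (k + m) k :=
    fun x => ⟨Matrix.GeneralLinearGroup.mkOfDetNeZero (mat x) (hdet x), by
      rw [mem_stabCoord]
      intro i j hi hj
      obtain ⟨i, rfl⟩ := e.surjective i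
      obtain ⟨j, rfl⟩ := e.surjective j
      rcases i with i | i
      · simp [e] at hi; omega
      rcases j with j | j
      · simp [Matrix.GeneralLinearGroup.mkOfDetNeZero, mat]
      · simp [e] at hj⟩
  have hT : Function.Bijective T := by
    constructor
    · rintro ⟨⟨A, D⟩, B⟩ ⟨⟨A', D'⟩, B'⟩ h
      have h1 : mat ⟨⟨A, D⟩, B⟩ = mat ⟨⟨A', D'⟩, B'⟩ :=
        congrArg (fun g : stabCoord F (k + m) k => g.1.1) h
      have h2 := congrArg (fun M : Matrix _ _ F => M.submatrix e e) h1
      simp [mat, Matrix.fromBlocks_inj] at h2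
      obtain ⟨hA, hB, hD⟩ := h2
      rw [Units.ext hA, Units.ext hD, hB]
    · rintro ⟨g, hg⟩
      set M := ((g : Matrix (Fin (k + m)) (Fin (k + m)) F)).submatrix e e with hM
      have h21 : M.toBlocks₂₁ = 0 := by
        ext i j
        exact mem_stabCoord.mp hg _ _ (by simp [e]) (by simp [e])
      have hMdet : M.det ≠ 0 := by
        rw [hM, Matrix.det_submatrix_equiv_self]
        exact ((Matrix.isUnit_iff_isUnit_det _).mp g.isUnit).ne_zero
      rw [← Matrix.fromBlocks_toBlocks M, h21, Matrix.det_fromBlocks_zero₂₁] at hMdet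
      refine ⟨⟨⟨Matrix.GeneralLinearGroup.mkOfDetNeZero M.toBlocks₁₁ (left_ne_zero_of_mul hMdet),
        Matrix.GeneralLinearGroup.mkOfDetNeZero M.toBlocks₂₂ (right_ne_zero_of_mul hMdet)⟩,
        M.toBlocks₁₂⟩, Subtype.ext (Units.ext ?_)⟩
      show (Matrix.fromBlocks M.toBlocks₁₁ M.toBlocks₁₂ 0 M.toBlocks₂₂).submatrix e.symm e.symm = _
      rw [← h21, Matrix.fromBlocks_toBlocks, hM]
      simp
  rw [← Nat.card_congr (Equiv.ofBijective T hT), Nat.card_prod, Nat.card_prod, card_GL_fin,
    card_GL_fin, show Matrix (Fin k) (Fin m) F = (Fin k → Fin m → F) from rfl, Nat.card_fun,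
    Nat.card_fun]
  simp only [Nat.card_eq_fintype_card, Fintype.card_fin]
  rw [← pow_mul, mul_comm m k]
  ring

theorem stabCoord_isCoatom (k : ℕ) (hk0 : 0 < k) (hkn : k < n) : IsCoatom (stabCoord F n k) := by
  classical
  haveI : Nontrivial (Fin n) := Fin.nontrivial_iff_two_le.mpr (by omega)
  constructor
  · intro htop
    have hij : (⟨k, hkn⟩ : Fin n) ≠ ⟨0, by omega⟩ := fun h => by
      have := congrArg Fin.val h; simp at this; omega
    have hmem : H49.elem (⟨k, hkn⟩ : Fin n) ⟨0, by omega⟩ hij (1 : F) ∈ stabCoord F n k := by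
      rw [htop]; trivial
    have := mem_stabCoord.mp hmem ⟨k, hkn⟩ ⟨0, by omega⟩ le_rfl hk0
    simp [H49.elem, H49.tr_val, H49.trM, hij, Matrix.vecMulVec_apply] at this
  intro H hH
  obtain ⟨g, hgH, hgP⟩ := SetLike.exists_of_lt hH
  have hmaps : ¬ ∀ i j : Fin n, k ≤ (i : ℕ) → (j : ℕ) < k → (g : Matrix (Fin n) (Fin n) F) i j = 0 :=
    fun h => hgP (mem_stabCoord.mpr h)
  push Not at hmaps
  obtain ⟨i0, j0, hi0, hj0, hne⟩ := hmaps
  let U : Set (Fin n → F) := {v | ∀ φ (h : φ ⬝ᵥ v = 0), H49.tr v φ h ∈ H}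
  have hconj : ∀ (x : GL (Fin n) F) v, x ∈ H → v ∈ U → (x : Matrix _ _ F) *ᵥ v ∈ U := by
    intro x v hx hv φ h
    have hψ : (φ ᵥ* (x : Matrix (Fin n) (Fin n) F)) ⬝ᵥ v = 0 := by
      rw [← Matrix.dotProduct_mulVec, h]
    have heq : H49.tr ((x : Matrix _ _ F) *ᵥ v) φ h = x * H49.tr v _ hψ * x⁻¹ := by
      rw [eq_mul_inv_iff_mul_eq]
      refine H49.gl_ext_mulVec fun z => ?_
      rw [Units.val_mul, ← Matrix.mulVec_mulVec, H49.tr_mulVec, Units.val_mul, ← Matrix.mulVec_mulVec,
        H49.tr_mulVec, Matrix.mulVec_add, Matrix.mulVec_smul, Matrix.dotProduct_mulVec]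
    rw [heq]
    exact mul_mem (mul_mem hx (hv _ hψ)) (inv_mem hx)
  have hW : ∀ v ∈ coordSub F n k, v ∈ U := fun v hv φ h => hH.le (stabCoord_of_maps fun z hz => by
    rw [H49.tr_mulVec]; exact add_mem hz (Submodule.smul_mem _ _ hv))
  have hscale : ∀ (c : F), ∀ v ∈ U, c ≠ 0 → c • v ∈ U := fun c v hv hc φ h => by
    have h' : (c • φ) ⬝ᵥ v = 0 := by rw [smul_dotProduct, ← dotProduct_smul, h]
    have : H49.tr (c • v) φ h = H49.tr v (c • φ) h' := H49.gl_ext_mulVec fun z => by
      rw [H49.tr_mulVec, H49.tr_mulVec, smul_smul, smul_dotProduct, smul_eq_mul, mul_comm]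
    rw [this]; exact hv _ h'
  set u := (g : Matrix (Fin n) (Fin n) F) *ᵥ Pi.single j0 1 with hu
  have huU : u ∈ U := hconj g _ hgH (hW _ fun l hl =>
    Pi.single_eq_of_ne (fun h => by subst h; omega) _)
  have hui0 : u i0 ≠ 0 := by simpa [hu] using hne
  have hmove : ∀ (i : Fin n) (w : Fin n → F) (χ : Fin n → F), w ∈ U → k ≤ (i : ℕ) →
      (∀ j : Fin n, (j : ℕ) < k → χ j = 0) → χ i = 1 → χ ⬝ᵥ w = 1 → Pi.single i 1 ∈ U := by
    intro i w χ hw hi hχW hχi hχw
    have h : χ ⬝ᵥ (Pi.single i 1 - w) = 0 := by rw [dotProduct_sub, hχw]; simp [hχi]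
    have hP : H49.tr _ χ h ∈ stabCoord F n k := stabCoord_of_maps fun z hz => by
      rw [H49.tr_mulVec]
      have : χ ⬝ᵥ z = 0 := Finset.sum_eq_zero fun j _ => by
        by_cases hj : (j : ℕ) < k
        · simp [hχW j hj]
        · simp [hz j (not_lt.mp hj)]
      rw [this, zero_smul, add_zero]; exact hz
    have := hconj _ w (hH.le hP) hw
    rwa [H49.tr_mulVec, hχw, one_smul, add_sub_cancel] at this
  have hbasis : ∀ i : Fin n, k ≤ (i : ℕ) → (Pi.single i 1 : Fin n → F) ∈ U := by
    intro i hi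
    by_cases h : ∃ l : Fin n, k ≤ (l : ℕ) ∧ l ≠ i ∧ u l ≠ 0
    · obtain ⟨l, hl, hli, hul⟩ := h
      refine hmove i u (Pi.single i 1 + Pi.single l ((1 - u i) / u l)) huU hi ?_ ?_ ?_
      · intro j hj
        simp [show j ≠ i from fun h => by subst h; omega, show j ≠ l from fun h => by subst h; omega]
      · simp [hli.symm]
      · simp [add_dotProduct, div_mul_cancel₀ _ hul]
    · push Not at h
      have hui : u i ≠ 0 := by
        rcases eq_or_ne i0 i with rfl | hne'
        · exact hui0
        · exact absurd (h i0 hi0 hne') hui0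
      refine hmove i ((u i)⁻¹ • u) (Pi.single i 1) (hscale _ _ huU (inv_ne_zero hui)) hi ?_ ?_ ?_
      · intro j hj
        simp [show j ≠ i from fun h => by subst h; omega]
      · simp
      · simp [hui]
  have helem : ∀ i j hij (c : F), H49.elem i j hij c ∈ H := by
    intro i j hij c
    by_cases hi : k ≤ (i : ℕ)
    · exact hbasis i hi _ _
    · exact hW _ (fun l hl => Pi.single_eq_of_ne (fun h => by subst h; exact hi hl) _) _ _
  rw [eq_top_iff]
  intro x _
  let i1 : Fin n := ⟨0, by omega⟩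
  let d : F := (x : Matrix (Fin n) (Fin n) F).det
  have hd : d ≠ 0 := ((Matrix.isUnit_iff_isUnit_det _).mp x.isUnit).ne_zero
  have hDdet : (Matrix.diagonal (Function.update (fun _ : Fin n => (1 : F)) i1 d)).det = d := by
    rw [Matrix.det_diagonal, Finset.prod_eq_single i1]
    · simp
    · intro b _ hb; simp [hb]
    · simp
  let D : GL (Fin n) F := Matrix.GeneralLinearGroup.mkOfDetNeZero
    (Matrix.diagonal (Function.update (fun _ : Fin n => (1 : F)) i1 d)) (by rw [hDdet]; exact hd)
  have hD : D ∈ H := hH.le (mem_stabCoord.mpr fun i j hi hj => by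
    simp [D, Matrix.GeneralLinearGroup.mkOfDetNeZero,
      Matrix.diagonal_apply_ne _ (show i ≠ j from fun h => by subst h; omega)])
  have hrest : D⁻¹ * x ∈ H := by
    refine H49.sl_le_of_elem_mem H helem _ ?_
    have h1 := congrArg (fun g : GL (Fin n) F => (g : Matrix (Fin n) (Fin n) F).det)
      (mul_inv_cancel_left D x)
    simp only [Units.val_mul, Matrix.det_mul] at h1
    rw [Units.val_mul, Matrix.det_mul]
    have h2 : (D : Matrix (Fin n) (Fin n) F).det = d := hDdet
    rw [h2] at h1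
    exact mul_left_cancel₀ hd (h1.trans (mul_one d).symm)
  simpa using mul_mem hD hrest

/-- Inverse transpose followed by reversing the basis. -/
def dualAut (F : Type*) [Field F] (n : ℕ) : GL (Fin n) F ≃* GL (Fin n) F := MulEquiv.mk'
  { toFun := fun g =>
      ⟨((g⁻¹ : GL (Fin n) F) : Matrix _ _ F).transpose.submatrix Fin.rev Fin.rev,
        (g : Matrix _ _ F).transpose.submatrix Fin.rev Fin.rev,
        by rw [← Matrix.submatrix_mul _ _ _ _ _ Fin.rev_bijective, ← Matrix.transpose_mul,
          ← Units.val_mul, mul_inv_cancel, Units.val_one, Matrix.transpose_one,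
          Matrix.submatrix_one _ Fin.rev_bijective.injective],
        by rw [← Matrix.submatrix_mul _ _ _ _ _ Fin.rev_bijective, ← Matrix.transpose_mul,
          ← Units.val_mul, inv_mul_cancel, Units.val_one, Matrix.transpose_one,
          Matrix.submatrix_one _ Fin.rev_bijective.injective]⟩
    invFun := fun g =>
      ⟨((g⁻¹ : GL (Fin n) F) : Matrix _ _ F).transpose.submatrix Fin.rev Fin.rev,
        (g : Matrix _ _ F).transpose.submatrix Fin.rev Fin.rev,
        by rw [← Matrix.submatrix_mul _ _ _ _ _ Fin.rev_bijective, ← Matrix.transpose_mul,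
          ← Units.val_mul, mul_inv_cancel, Units.val_one, Matrix.transpose_one,
          Matrix.submatrix_one _ Fin.rev_bijective.injective],
        by rw [← Matrix.submatrix_mul _ _ _ _ _ Fin.rev_bijective, ← Matrix.transpose_mul,
          ← Units.val_mul, inv_mul_cancel, Units.val_one, Matrix.transpose_one,
          Matrix.submatrix_one _ Fin.rev_bijective.injective]⟩
    left_inv := fun g => by ext i j; simp [Units.inv_mk]
    right_inv := fun g => by ext i j; simp [Units.inv_mk] }
  (fun g h => by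
    apply Units.ext
    show (Units.val (g * h)⁻¹).transpose.submatrix Fin.rev Fin.rev =
      (Units.val g⁻¹).transpose.submatrix Fin.rev Fin.rev *
      (Units.val h⁻¹).transpose.submatrix Fin.rev Fin.rev
    rw [← Matrix.submatrix_mul _ _ _ _ _ Fin.rev_bijective, ← Matrix.transpose_mul, ← Units.val_mul,
      _root_.mul_inv_rev])

theorem dualAut_map (k : ℕ) (hk : k ≤ n) :
    (stabCoord F n k).map (dualAut F n).toMonoidHom = stabCoord F n (n - k) := by
  have key : ∀ {a b : ℕ}, a + b = n → ∀ g : GL (Fin n) F, g ∈ stabCoord F n a →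
      dualAut F n g ∈ stabCoord F n b := by
    intro a b hab g hg
    rw [mem_stabCoord]
    intro i j hi hj
    exact mem_stabCoord.mp (inv_mem hg) _ _
      (by rw [Fin.val_rev]; omega) (by rw [Fin.val_rev]; omega)
  refine le_antisymm ?_ fun g hg => ?_
  · rintro _ ⟨g, hg, rfl⟩
    exact key (by omega) g hg
  · refine ⟨dualAut F n g, key (by omega) g hg, ?_⟩
    exact (dualAut F n).symm_apply_apply g

theorem invariant_subspace {k : ℕ} (U : Submodule F (Fin n → F))
    (hU : ∀ g ∈ stabCoord F n k, ∀ v ∈ U, (g : Matrix (Fin n) (Fin n) F) *ᵥ v ∈ U) :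
    U = ⊥ ∨ U = coordSub F n k ∨ U = ⊤ := by
  classical
  have hspan : ∀ (S : Fin n → Prop), (∀ i, S i → (Pi.single i 1 : Fin n → F) ∈ U) →
      ∀ v : Fin n → F, (∀ i, ¬ S i → v i = 0) → v ∈ U := fun S hS v hv => by
    rw [← Finset.univ_sum_single v]
    refine Submodule.sum_mem _ fun i _ => ?_
    by_cases hi : S i
    · rw [show Pi.single i (v i) = v i • (Pi.single i 1 : Fin n → F) by
        rw [← Pi.single_smul, smul_eq_mul, mul_one]]
      exact U.smul_mem _ (hS i hi)
    · rw [hv i hi, Pi.single_zero]; exact U.zero_mem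
  have hshift : ∀ u ∈ U, ∀ i j : Fin n, i ≠ j → ((i : ℕ) < k ∨ k ≤ (j : ℕ)) → u j ≠ 0 →
      (Pi.single i 1 : Fin n → F) ∈ U := by
    intro u hu i j hij hcase huj
    have hP : H49.elem i j hij (1 : F) ∈ stabCoord F n k := stabCoord_of_maps fun z hz l hl => by
      rw [H49.elem_mulVec, hz l hl]
      split_ifs with h
      · subst h
        rcases hcase with h1 | h1
        · omega
        · simp [hz j h1]
      · simp
    have := U.sub_mem (hU _ hP u hu) hu
    have heq : ((H49.elem i j hij (1 : F) : GL (Fin n) F) : Matrix _ _ F) *ᵥ u - u =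
        u j • (Pi.single i 1 : Fin n → F) := by
      funext l
      rw [Pi.sub_apply, H49.elem_mulVec]
      by_cases h : l = i <;> simp [h]
    rw [heq] at this
    have := U.smul_mem (u j)⁻¹ this
    rwa [smul_smul, inv_mul_cancel₀ huj, one_smul] at this
  by_cases hbot : U = ⊥
  · exact Or.inl hbot
  right
  obtain ⟨u, hu, hu0⟩ := Submodule.exists_mem_ne_zero_of_ne_bot hbot
  by_cases hle : U ≤ coordSub F n k
  · left
    refine le_antisymm hle fun v hv => hspan (fun i => (i : ℕ) < k) (fun i hi => ?_) v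
      (fun i hi => hv i (not_lt.mp hi))
    obtain ⟨j, hj⟩ : ∃ j, u j ≠ 0 := Function.ne_iff.mp hu0
    rcases eq_or_ne i j with rfl | hij
    · have h1 : u - (fun l => if l = i then 0 else u l) = u i • (Pi.single i 1 : Fin n → F) := by
        funext l; by_cases h : l = i <;> simp [h]
      have h2 : (fun l => if l = i then 0 else u l) ∈ U := by
        refine hspan (fun l => l ≠ i ∧ (l : ℕ) < k)
          (fun l hl => hshift u hu l i hl.1 (Or.inl hl.2) hj) _ fun l hl => ?_
        by_cases h : l = i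
        · simp [h]
        · simp only [h, if_false]
          exact hle hu l (not_lt.mp fun h' => hl ⟨h, h'⟩)
      have := U.smul_mem (u i)⁻¹ (h1 ▸ U.sub_mem hu h2)
      rwa [smul_smul, inv_mul_cancel₀ hj, one_smul] at this
    · exact hshift u hu i j hij (Or.inl hi) hj
  · right
    obtain ⟨w, hw, hwn⟩ := SetLike.not_le_iff_exists.mp hle
    obtain ⟨j, hjk, hj⟩ : ∃ j : Fin n, k ≤ (j : ℕ) ∧ w j ≠ 0 := by
      by_contra h; push Not at h; exact hwn h
    have hother : ∀ i, i ≠ j → (Pi.single i 1 : Fin n → F) ∈ U :=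
      fun i hi => hshift w hw i j hi (Or.inr hjk) hj
    rw [eq_top_iff]
    intro v _
    refine hspan (fun _ => True) (fun i _ => ?_) v (fun i hi => absurd trivial hi)
    rcases eq_or_ne i j with rfl | hij
    · have h1 : w - (fun l => if l = i then 0 else w l) = w i • (Pi.single i 1 : Fin n → F) := by
        funext l; by_cases h : l = i <;> simp [h]
      have h2 : (fun l => if l = i then 0 else w l) ∈ U :=
        hspan (fun l => l ≠ i) hother _ fun l hl => by simp [not_ne_iff.mp hl]
      have := U.smul_mem (w i)⁻¹ (h1 ▸ U.sub_mem hw h2)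
      rwa [smul_smul, inv_mul_cancel₀ hj, one_smul] at this
    · exact hother i hij

theorem finrank_coordSub (k : ℕ) (hk : k ≤ n) : Module.finrank F (coordSub F n k) = k := by
  have e : coordSub F n k ≃ₗ[F] (Fin k → F) :=
    { toFun := fun v i => (v : Fin n → F) (Fin.castLE hk i)
      invFun := fun w => ⟨fun i => if h : (i : ℕ) < k then w ⟨i, h⟩ else 0,
        fun i hi => by simp [not_lt.mpr hi]⟩
      left_inv := fun v => by
        ext i
        by_cases h : (i : ℕ) < k
        · simp [h]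
        · simp [h, v.2 i (not_lt.mp h)]
      right_inv := fun w => by ext i; simp
      map_add' := fun u v => rfl
      map_smul' := fun c v => rfl }
  rw [e.finrank_eq, Module.finrank_fin_fun]

theorem stabCoord_not_conj (k : ℕ) (hk0 : 0 < k) (hkn : k < n) (h2 : 2 * k ≠ n) (g : GL (Fin n) F) :
    (stabCoord F n k).map (MulAut.conj g).toMonoidHom ≠ stabCoord F n (n - k) := by
  intro heq
  set L := ((g : Matrix (Fin n) (Fin n) F)).mulVecLin
  have hinj : Function.Injective L := H49.gl_mulVec_injective g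
  let U : Submodule F (Fin n → F) := (coordSub F n (n - k)).comap L
  have hUdim : Module.finrank F U = n - k := by
    have e : (U.map L) = coordSub F n (n - k) :=
      Submodule.map_comap_eq_of_surjective (LinearMap.injective_iff_surjective.mp hinj) _
    rw [← finrank_coordSub (F := F) (n - k) (Nat.sub_le n k), ← e]
    exact (Submodule.equivMapOfInjective L hinj U).finrank_eq
  have hU : ∀ p ∈ stabCoord F n k, ∀ v ∈ U, (p : Matrix (Fin n) (Fin n) F) *ᵥ v ∈ U := by
    intro p hp v hv
    have hq : g * p * g⁻¹ ∈ stabCoord F n (n - k) := heq ▸ ⟨p, hp, rfl⟩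
    have := (stabCoord_def.mp hq _).mp hv
    rw [Matrix.mulVecLin_apply, Matrix.mulVec_mulVec, ← Units.val_mul, inv_mul_cancel_right,
      Units.val_mul, ← Matrix.mulVec_mulVec] at this
    exact this
  rcases invariant_subspace U hU with h | h | h
  · rw [h, finrank_bot] at hUdim; omega
  · rw [h, finrank_coordSub k hkn.le] at hUdim; omega
  · rw [h, finrank_top, Module.finrank_fin_fun] at hUdim; omega

end H38
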