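import Cfsg.Agent.H49.OrthUnitaryOver
import Cfsg.Agent.H45.OrthTransfer

/-!
A rational structure on a quadratic space: rational vectors, Eichler elements in a subgroup.
-/

set_option autoImplicit false
set_option linter.unusedSectionVars false

namespace H38.SubO

open H43 H49 Matrix

variable {F : Type*} [Field F] [Finite F] {ι : Type} [Fintype ι] [DecidableEq ι]

local notation "V" => (ι → F)

/-- Vectors with rational coordinates for the basis given by `P`. -/
def remb {F₀ : Subfield F} (P : GL ι F) (u : ι → F₀) : ι → F :=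
  (P : Matrix ι ι F) *ᵥ fun i => (u i : F)

variable {F₀ : Subfield F} {P : GL ι F}

theorem remb_add (u v : ι → F₀) : remb P (u + v) = remb P u + remb P v := by
  rw [remb, remb, remb, ← Matrix.mulVec_add]
  rfl

theorem remb_smul (c : F₀) (u : ι → F₀) : remb P (c • u) = (c : F) • remb P u := by
  rw [remb, remb, ← Matrix.mulVec_smul]
  rfl

theorem remb_zero : remb P (0 : ι → F₀) = 0 := by
  rw [remb]
  exact Matrix.mulVec_zero _

theorem remb_sub (u v : ι → F₀) : remb P (u - v) = remb P u - remb P v := by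
  rw [sub_eq_add_neg, remb_add, ← neg_one_smul F₀ v, remb_smul]
  simp [sub_eq_add_neg]

theorem remb_apply_inv (u : ι → F₀) (i : ι) :
    (((P⁻¹ : GL ι F) : Matrix ι ι F) *ᵥ remb P u) i = u i := by
  rw [remb, Matrix.mulVec_mulVec, ← Units.val_mul, inv_mul_cancel, Units.val_one, one_mulVec]

theorem remb_injective : Function.Injective (remb (F₀ := F₀) P) := by
  intro u v h
  funext i
  have := congrArg (fun x => (((P⁻¹ : GL ι F) : Matrix ι ι F) *ᵥ x) i) h
  simp only [remb_apply_inv] at this
  exact Subtype.ext this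

theorem remb_ne_zero {u : ι → F₀} (hu : u ≠ 0) : remb P u ≠ 0 := fun h =>
  hu (remb_injective (h.trans remb_zero.symm))

theorem remb_single (i : ι) :
    remb P (Pi.single i (1 : F₀)) = (P : Matrix ι ι F) *ᵥ Pi.single i 1 := by
  rw [remb]
  congr 1
  funext j
  by_cases h : j = i <;> simp [h]

theorem remb_sum (x : V) :
    ∑ i, (((P⁻¹ : GL ι F) : Matrix ι ι F) *ᵥ x) i • remb P (Pi.single i (1 : F₀)) = x := by
  simp only [remb_single, ← Matrix.mulVec_smul, ← Matrix.mulVec_sum]
  rw [← pi_eq_sum_univ', Matrix.mulVec_mulVec, ← Units.val_mul, mul_inv_cancel, Units.val_one,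
    one_mulVec]

/-- A non-degenerate form with a rational structure, in dimension at least thirteen. -/
structure Dat (q : QuadraticForm F (ι → F)) (F₀ : Subfield F) (P : GL ι F) : Prop where
  nd : (polB q).Nondegenerate
  big : 10 ≤ Fintype.card ι
  rat : ∀ u : ι → F₀, q (remb P u) ∈ F₀

variable {q : QuadraticForm F (ι → F)} (D : Dat q F₀ P)
include D

theorem rat_polar (u v : ι → F₀) : polB q (remb P u) (remb P v) ∈ F₀ := by
  have e : polB q (remb P u) (remb P v) = q (remb P (u + v)) - q (remb P u) - q (remb P v) := by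
    rw [remb_add, qmap_add]; ring
  rw [e]
  exact sub_mem (sub_mem (D.rat _) (D.rat _)) (D.rat _)

/-- The form on the rational vectors. -/
def q₀ : QuadraticForm F₀ (ι → F₀) where
  toFun u := ⟨q (remb P u), D.rat u⟩
  toFun_smul a u := Subtype.ext (by
    show q (remb P (a • u)) = (a : F) * (a : F) * q (remb P u)
    rw [remb_smul, qmap_smul])
  exists_companion' :=
    ⟨LinearMap.mk₂ F₀ (fun u v => (⟨_, rat_polar D u v⟩ : F₀))
      (fun a b c => Subtype.ext (by
        show polB q (remb P (a + b)) _ = polB q _ _ + polB q _ _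
        rw [remb_add, map_add, LinearMap.add_apply]))
      (fun k a c => Subtype.ext (by
        show polB q (remb P (k • a)) _ = (k : F) * polB q _ _
        rw [remb_smul, map_smul, LinearMap.smul_apply, smul_eq_mul]))
      (fun a b c => Subtype.ext (by
        show polB q _ (remb P (b + c)) = polB q _ _ + polB q _ _
        rw [remb_add, map_add]))
      (fun k a c => Subtype.ext (by
        show polB q _ (remb P (k • c)) = (k : F) * polB q _ _
        rw [remb_smul, map_smul, smul_eq_mul])),
      fun u v => Subtype.ext (by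
        show q (remb P (u + v)) = q (remb P u) + q (remb P v) + polB q _ _
        rw [remb_add, qmap_add])⟩

theorem q₀_val (u : ι → F₀) : ((q₀ D u : F₀) : F) = q (remb P u) := rfl

theorem b₀_val (u v : ι → F₀) :
    ((polB (q₀ D) u v : F₀) : F) = polB q (remb P u) (remb P v) := by
  rw [polB_apply, polB_apply, QuadraticMap.polar, QuadraticMap.polar, ← remb_add]
  push_cast [q₀_val]
  rfl

theorem b_eq_zero {u v : ι → F₀} (h : polB (q₀ D) u v = 0) :
    polB q (remb P u) (remb P v) = 0 := by
  rw [← b₀_val D, h]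
  exact ZeroMemClass.coe_zero _

theorem q_eq_zero {u : ι → F₀} (h : q₀ D u = 0) : q (remb P u) = 0 := by
  rw [← q₀_val D, h]
  exact ZeroMemClass.coe_zero _

theorem eq_zero_of_rat {x : V} (h : ∀ u : ι → F₀, polB q x (remb P u) = 0) : x = 0 := by
  refine eq_zero_of_polB_eq_zero D.nd fun y => ?_
  rw [← remb_sum (F₀ := F₀) (P := P) y, map_sum]
  exact Finset.sum_eq_zero fun i _ => by rw [map_smul, h, smul_zero]

theorem nd₀ : (polB (q₀ D)).Nondegenerate := by
  have key : ∀ u, (∀ v, polB (q₀ D) u v = 0) → u = 0 := fun u hu => by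
    by_contra h0
    exact remb_ne_zero h0 (eq_zero_of_rat D fun v => b_eq_zero D (hu v))
  exact ⟨key, fun u hu => key u fun v => by rw [polB_comm]; exact hu v⟩

theorem finrank₀ : Module.finrank F₀ (ι → F₀) = Fintype.card ι := Module.finrank_fintype_fun_eq_card F₀

theorem exists_partner {v : ι → F₀} (hv : v ≠ 0) : ∃ y, polB (q₀ D) v y = 1 :=
  exists_polB_eq (nd₀ D) hv 1

/-- A rational singular vector orthogonal to a small space, with a given value outside it. -/
theorem exists_sing_eq {W : Submodule F₀ (ι → F₀)}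
    (hdim : 2 * Module.finrank F₀ W + 3 ≤ Fintype.card ι) {k : ι → F₀} (hk : k ∉ W) (t : F₀) :
    ∃ z, q₀ D z = 0 ∧ (∀ w ∈ W, polB (q₀ D) w z = 0) ∧ polB (q₀ D) k z = t := by
  obtain ⟨x, hx, hxk⟩ := exists_orth_polB_eq (nd₀ D) hk 1
  obtain ⟨z, hz, hzq, hzP⟩ := exists_sing_notMem (nd₀ D) (W := W) (by rw [finrank₀ D]; exact hdim)
    (P := (polB (q₀ D)).orthogonal (F₀ ∙ k))
    ⟨x, hx, fun h => one_ne_zero (α := F₀) (by rw [← hxk]; exact mem_orth_singleton.1 h)⟩
  have hne : polB (q₀ D) k z ≠ 0 := fun h => hzP (mem_orth_singleton.2 h)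
  refine ⟨(t / polB (q₀ D) k z) • z, by rw [qmap_smul, hzq, mul_zero], fun w hw => ?_, ?_⟩
  · rw [map_smul, hz w hw, smul_zero]
  · rw [map_smul, smul_eq_mul, div_mul_cancel₀ _ hne]

/-- A rational singular vector orthogonal to a small space and outside it. -/
theorem exists_sing_out {W : Submodule F₀ (ι → F₀)}
    (hdim : 2 * Module.finrank F₀ W + 3 ≤ Fintype.card ι) :
    ∃ z, q₀ D z = 0 ∧ (∀ w ∈ W, polB (q₀ D) w z = 0) ∧ z ∉ W := by
  obtain ⟨z, hz, hzq, hzP⟩ := exists_sing_notMem (nd₀ D) (W := W) (P := W)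
    (by rw [finrank₀ D]; exact hdim) (exists_orth_notMem (nd₀ D) (by rw [finrank₀ D]; omega))
  exact ⟨z, hzq, hz, hzP⟩

theorem finrank_pair (u v : ι → F₀) :
    Module.finrank F₀ (Submodule.span F₀ (Set.range ![u, v])) ≤ 2 := finrank_span_tuple _

theorem finrank_triple (u v w : ι → F₀) :
    Module.finrank F₀ (Submodule.span F₀ (Set.range ![u, v, w])) ≤ 3 := finrank_span_tuple _

/-- Rational values on the rational orthogonal of a rational vector. -/
theorem exists_rat_add {v : ι → F₀} (hv : v ≠ 0) {x : V}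
    (h : ∀ w, polB (q₀ D) v w = 0 → polB q x (remb P w) ∈ F₀) :
    ∃ (r : ι → F₀) (k : F), x = remb P r + k • remb P v := by
  obtain ⟨y, hy⟩ := exists_partner D hv
  set k := polB q x (remb P y) with hk
  have hval : ∀ u : ι → F₀, polB q (x - k • remb P v) (remb P u) ∈ F₀ := by
    intro u
    have h1 := h (u - polB (q₀ D) v u • y) (by rw [map_sub, map_smul, hy, smul_eq_mul, mul_one, sub_self])
    rw [remb_sub, remb_smul, map_sub, map_smul, smul_eq_mul, ← hk, b₀_val D] at h1
    rw [map_sub, map_smul, LinearMap.sub_apply, LinearMap.smul_apply, smul_eq_mul, mul_comm]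
    exact h1
  let φ : (ι → F₀) →ₗ[F₀] F₀ :=
    { toFun := fun u => ⟨_, hval u⟩
      map_add' := fun a b => Subtype.ext (by
        show polB q _ (remb P (a + b)) = polB q _ _ + polB q _ _
        rw [remb_add, map_add])
      map_smul' := fun c a => Subtype.ext (by
        show polB q _ (remb P (c • a)) = (c : F) * polB q _ _
        rw [remb_smul, map_smul, smul_eq_mul]) }
  refine ⟨((polB (q₀ D)).toDual (nd₀ D)).symm φ, k, ?_⟩
  have h0 : x - k • remb P v - remb P (((polB (q₀ D)).toDual (nd₀ D)).symm φ) = 0 := by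
    refine eq_zero_of_rat D fun u => ?_
    have e : polB (q₀ D) (((polB (q₀ D)).toDual (nd₀ D)).symm φ) u = φ u := by
      rw [← LinearMap.BilinForm.toDual_def (nd₀ D), LinearEquiv.apply_symm_apply]
    rw [map_sub, LinearMap.sub_apply, ← b₀_val D, e]
    exact sub_self _
  rw [sub_sub, sub_eq_zero, add_comm] at h0
  exact h0

/-- Vanishing on the rational orthogonal of a rational vector. -/
theorem exists_smul_of_orth {v : ι → F₀} (hv : v ≠ 0) {x : V}
    (h : ∀ w, polB (q₀ D) v w = 0 → polB q x (remb P w) = 0) : ∃ k : F, x = k • remb P v := by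
  obtain ⟨y, hy⟩ := exists_partner D hv
  refine ⟨polB q x (remb P y), sub_eq_zero.1 (eq_zero_of_rat D fun u => ?_)⟩
  have h1 := h (u - polB (q₀ D) v u • y) (by rw [map_sub, map_smul, hy, smul_eq_mul, mul_one, sub_self])
  rw [remb_sub, remb_smul, map_sub, map_smul, smul_eq_mul, b₀_val D] at h1
  rw [map_sub, map_smul, LinearMap.sub_apply, LinearMap.smul_apply, smul_eq_mul, mul_comm]
  exact h1

omit D

/-- A multiple of a rational vector. -/
def Point (F₀ : Subfield F) (P : GL ι F) (z : ι → F) : Prop :=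
  ∃ (l : F) (r : ι → F₀), z = l • remb P r

theorem point_smul {z : V} {c : F} (hc : c ≠ 0) (h : Point F₀ P (c • z)) : Point F₀ P z := by
  obtain ⟨l, r, he⟩ := h
  refine ⟨c⁻¹ * l, r, ?_⟩
  rw [← smul_smul, ← he, smul_smul, inv_mul_cancel₀ hc, one_smul]

/-- The Eichler element with centre `z` and vector `w` lies in `M`. -/
def InE (q : QuadraticForm F (ι → F)) (M : Subgroup (orthGroup q)) (z w : ι → F) : Prop :=
  polB q z w = 0 ∧ eichler q z w ∈ M

variable {M : Subgroup (orthGroup q)}

theorem inE_self {z : V} (hz : q z = 0) (c : F) : InE q M z (c • z) := by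
  have h : polB q z (c • z) = 0 := by rw [map_smul, polB_self, hz, mul_zero, smul_zero]
  refine ⟨h, ?_⟩
  have : eichler q z (c • z) = 1 := orth_ext fun x => by
    rw [eichler_apply hz h, qmap_smul, hz, orth_one_apply, map_smul, smul_eq_mul]
    module
  rw [this]
  exact one_mem M

theorem inE_add {z a b : V} (hz : q z = 0) (ha : InE q M z a) (hb : InE q M z b) :
    InE q M z (a + b) := by
  refine ⟨by rw [map_add, ha.1, hb.1, add_zero], ?_⟩
  rw [← eichler_mul hz ha.1 hb.1]
  exact mul_mem ha.2 hb.2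

theorem inE_neg {z a : V} (hz : q z = 0) (ha : InE q M z a) : InE q M z (-a) := by
  refine ⟨by rw [map_neg, ha.1, neg_zero], ?_⟩
  rw [← eichler_inv hz ha.1]
  exact inv_mem ha.2

theorem inE_sub {z a b : V} (hz : q z = 0) (ha : InE q M z a) (hb : InE q M z b) :
    InE q M z (a - b) := by
  rw [sub_eq_add_neg]
  exact inE_add hz ha (inE_neg hz hb)

theorem inE_map {z a : V} (hz : q z = 0) (ha : InE q M z a) {g : orthGroup q} (hg : g ∈ M) :
    InE q M (g.1 z) (g.1 a) := by
  refine ⟨by rw [orth_polB_map, ha.1], ?_⟩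
  rw [← eichler_conj g hz ha.1]
  exact mul_mem (mul_mem hg ha.2) (inv_mem hg)

theorem inE_scale {z a : V} (hz : q z = 0) (ha : InE q M z a) {t : F} (ht : t ≠ 0) :
    InE q M (t • z) (t⁻¹ • a) := by
  refine ⟨by rw [map_smul, map_smul, LinearMap.smul_apply, ha.1, smul_zero, smul_zero], ?_⟩
  rw [eichler_smul_left hz ha.1 ht]
  exact ha.2

theorem inE_swap {z w : V} {t : F} (hz : q z = 0) (hw : q w = 0) (h : InE q M z (t • w))
    (ht : t ≠ 0) : InE q M w (-(t • z)) := by
  have hzw : polB q z w = 0 := by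
    have := h.1
    rw [map_smul, smul_eq_mul, mul_eq_zero] at this
    exact this.resolve_left ht
  have h1 : polB q w (-(t • z)) = 0 := by rw [map_neg, map_smul, polB_comm, hzw, smul_zero, neg_zero]
  refine ⟨h1, ?_⟩
  have e : eichler q w (-(t • z)) = eichler q z (t • w) := orth_ext fun x => by
    rw [eichler_apply hz h.1, eichler_apply hw h1, qmap_neg, qmap_smul, qmap_smul, hz, hw]
    simp only [map_neg, map_smul, smul_eq_mul, mul_zero, zero_mul, zero_smul, sub_zero]
    module
  rw [e]
  exact h.2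

theorem inE_fix_sub {z x : V} (hz : q z = 0) (hx : InE q M z x) {h : orthGroup q} (hh : h ∈ M)
    (hfix : h.1 z = z) : InE q M z (h.1 x - x) := by
  have h1 := inE_map hz hx hh
  rw [hfix] at h1
  exact inE_sub hz h1 hx

/-- The rational Eichler elements lie in `M`. -/
def HasRatO (q : QuadraticForm F (ι → F)) (F₀ : Subfield F) (P : GL ι F)
    (M : Subgroup (orthGroup q)) : Prop :=
  ∀ u w : ι → F₀, q (remb P u) = 0 → polB q (remb P u) (remb P w) = 0 →
    eichler q (remb P u) (remb P w) ∈ M

include D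
variable (hM : HasRatO q F₀ P M)
include hM

theorem inE_rat {u w : ι → F₀} (hu : q₀ D u = 0) (huw : polB (q₀ D) u w = 0) :
    InE q M (remb P u) (remb P w) :=
  ⟨b_eq_zero D huw, hM u w (q_eq_zero D hu) (b_eq_zero D huw)⟩

theorem step {z x : V} (hz : q z = 0) (hx : InE q M z x) {a b : ι → F₀} (ha : q₀ D a = 0)
    (hb : q₀ D b = 0) (hab : polB (q₀ D) a b = 0) (hza : polB q z (remb P a) = 0)
    (hzb : polB q z (remb P b) = 0) :
    InE q M z (polB q x (remb P a) • remb P b - polB q x (remb P b) • remb P a) := by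
  have hab' := b_eq_zero D hab
  have h1 := inE_fix_sub hz hx (hM a b (q_eq_zero D ha) hab')
    (eichler_fix (q_eq_zero D ha) hab' hza hzb)
  convert h1 using 1
  rw [eichler_apply (q_eq_zero D ha) hab', q_eq_zero D hb, zero_mul, zero_smul, sub_zero]
  abel

/-- Two rational moves isolate one rational vector. -/
theorem double {z x : V} (hz : q z = 0) (hx : InE q M z x) {a b c d : ι → F₀} (ha : q₀ D a = 0)
    (hb : q₀ D b = 0) (hc : q₀ D c = 0) (hd : q₀ D d = 0) (hab : polB (q₀ D) a b = 0)
    (hcd : polB (q₀ D) c d = 0) (hac : polB (q₀ D) a c = 0) (hbc : polB (q₀ D) b c = 1)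
    (had : polB (q₀ D) a d = 0) (hbd : polB (q₀ D) b d = 0) (hza : polB q z (remb P a) = 0)
    (hzb : polB q z (remb P b) = 0) (hzc : polB q z (remb P c) = 0)
    (hzd : polB q z (remb P d) = 0) : InE q M z (polB q x (remb P a) • remb P d) := by
  have h2 := step D hM hz (step D hM hz hx ha hb hab hza hzb) hc hd hcd hzc hzd
  have e1 : polB q (remb P b) (remb P c) = 1 := by
    rw [← b₀_val D, hbc]; exact OneMemClass.coe_one _
  simp only [map_sub, map_smul, LinearMap.sub_apply, LinearMap.smul_apply, smul_eq_mul,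
    b_eq_zero D hac, e1, b_eq_zero D had, b_eq_zero D hbd, mul_zero, mul_one, sub_zero,
    zero_smul] at h2
  exact h2

end H38.SubO
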