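import Cfsg.Agent.H38.SubORigid
import Cfsg.Agent.S5639

/-!
Subfield subgroups of prime index are maximal in the commutator subgroup of an orthogonal group.
-/

set_option autoImplicit false
set_option linter.unusedSectionVars false

namespace H38.SubO

open H43 H49 Matrix

variable {F : Type*} [Field F] [Finite F] {ι : Type} [Fintype ι] [DecidableEq ι] {F₀ : Subfield F}
  {P : GL ι F}

local notation "V" => (ι → F)

theorem mem_subfield (g : GL ι F) :
    g ∈ Cfsg.Geo.subfieldSubgroup F₀ P ↔
      ∃ c : F, c ≠ 0 ∧ ∀ i j, c * ((P⁻¹ * g * P : GL ι F) : Matrix ι ι F) i j ∈ F₀ := by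
  rw [Cfsg.Geo.subfieldSubgroup, Subgroup.mem_map_equiv, MulAut.conj_symm_apply,
    Cfsg.Agent.S5639.mem_std]

theorem conj_single (g : GL ι F) (j : ι) :
    ((P⁻¹ * g * P : GL ι F) : Matrix ι ι F) *ᵥ Pi.single j 1 =
      ((P⁻¹ : GL ι F) : Matrix ι ι F) *ᵥ
        ((g : Matrix ι ι F) *ᵥ remb P (Pi.single j (1 : F₀))) := by
  rw [remb_single, Matrix.mulVec_mulVec, Matrix.mulVec_mulVec, Units.val_mul, Units.val_mul]

/-- Elements of the subfield group send rational vectors to rational points. -/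
theorem point_of_mem {g : GL ι F} (hg : g ∈ Cfsg.Geo.subfieldSubgroup F₀ P) (u : ι → F₀) :
    Point F₀ P ((g : Matrix ι ι F) *ᵥ remb P u) := by
  obtain ⟨c, hc, h⟩ := (mem_subfield g).1 hg
  set B := ((P⁻¹ * g * P : GL ι F) : Matrix ι ι F) with hB
  have hmem : ∀ i, c * (B *ᵥ fun j => (u j : F)) i ∈ F₀ := fun i => by
    rw [Matrix.mulVec, dotProduct, Finset.mul_sum]
    exact sum_mem fun j _ => by rw [← mul_assoc]; exact mul_mem (h i j) (u j).2
  refine ⟨c⁻¹, fun i => ⟨_, hmem i⟩, ?_⟩
  have e : (fun i => ((⟨_, hmem i⟩ : F₀) : F)) = c • (B *ᵥ fun j => (u j : F)) := rfl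
  rw [remb, remb, e, Matrix.mulVec_smul, smul_smul, inv_mul_cancel₀ hc, one_smul, hB,
    Matrix.mulVec_mulVec, Matrix.mulVec_mulVec, Units.val_mul, Units.val_mul, ← mul_assoc,
    ← mul_assoc, Units.mul_inv, one_mul]

variable {q : QuadraticForm F (ι → F)} (D : Dat q F₀ P)
include D

theorem finrank_pi5 : 5 ≤ Module.finrank F (ι → F) := by
  have := D.big
  rw [Module.finrank_fintype_fun_eq_card]; omega

/-- Rational Eichler elements lie in the subfield group. -/
theorem hasRatO_subfield :
    HasRatO q F₀ P (((Cfsg.Geo.subfieldSubgroup F₀ P).comap (H45.toGL q)) ⊓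
      commutator (orthGroup q)) := by
  intro u w hu huw
  refine ⟨(mem_subfield _).2 ⟨1, one_ne_zero, fun i j => ?_⟩, ?_⟩
  · have e : ((P⁻¹ * H45.toGL q (eichler q (remb P u) (remb P w)) * P : GL ι F) : Matrix ι ι F) i j =
        (((P⁻¹ * H45.toGL q (eichler q (remb P u) (remb P w)) * P : GL ι F) : Matrix ι ι F) *ᵥ
          Pi.single j 1) i := by simp
    rw [one_mul, e, conj_single (F₀ := F₀), H45.toGL_apply, eichler_apply hu huw]
    simp only [Matrix.mulVec_add, Matrix.mulVec_sub, Matrix.mulVec_smul, Pi.add_apply,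
      Pi.sub_apply, Pi.smul_apply, smul_eq_mul, remb_apply_inv]
    exact sub_mem (sub_mem (add_mem (Subtype.prop _) (mul_mem (rat_polar D _ _) (Subtype.prop _)))
      (mul_mem (rat_polar D _ _) (Subtype.prop _)))
      (mul_mem (mul_mem (D.rat w) (rat_polar D _ _)) (Subtype.prop _))
  · rw [commutator_eq_eichlerSub D.nd (finrank_pi5 D)]
    exact eichler_mem hu huw

/-- If rational singular vectors go to rational points, so does every rational vector. -/
theorem mem_of_points {g : orthGroup q}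
    (h : ∀ u : ι → F₀, u ≠ 0 → q (remb P u) = 0 → Point F₀ P (g.1 (remb P u))) :
    H45.toGL q g ∈ Cfsg.Geo.subfieldSubgroup F₀ P := by
  have hbig := D.big
  obtain ⟨a, ha, -, han⟩ := exists_sing_out D (W := (⊥ : Submodule F₀ (ι → F₀)))
    (by rw [finrank_bot]; omega)
  have ha0 : a ≠ 0 := fun e => han (e ▸ Submodule.zero_mem _)
  obtain ⟨L, wa, hwa⟩ := h a ha0 (q_eq_zero D ha)
  let S : Submodule F₀ (ι → F₀) :=
    { carrier := {u | ∃ w : ι → F₀, g.1 (remb P u) = L • remb P w}
      zero_mem' := ⟨0, by rw [remb_zero, map_zero, smul_zero]⟩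
      add_mem' := by
        rintro x y ⟨w, hw⟩ ⟨w', hw'⟩
        exact ⟨w + w', by rw [remb_add, remb_add, map_add, hw, hw', smul_add]⟩
      smul_mem' := by
        rintro c x ⟨w, hw⟩
        exact ⟨c • w, by rw [remb_smul, remb_smul, map_smul, hw, smul_comm]⟩ }
  have haS : a ∈ S := ⟨wa, hwa⟩
  have step : ∀ x y : ι → F₀, q₀ D x = 0 → q₀ D y = 0 → x ≠ 0 →
      y ∉ Submodule.span F₀ (Set.range ![x]) → polB (q₀ D) x y = 0 → x ∈ S → y ∈ S := by
    intro x y hx hy hx0 hyn hxy hxS
    obtain ⟨wx, hwx⟩ := hxS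
    have hy0 : y ≠ 0 := fun e => hyn (e ▸ Submodule.zero_mem _)
    have hxy0 : x + y ≠ 0 := fun e => hyn (by
      rw [eq_neg_of_add_eq_zero_right e]
      exact Submodule.neg_mem _ (Submodule.subset_span ⟨0, rfl⟩))
    obtain ⟨l, wy, hwy⟩ := h y hy0 (q_eq_zero D hy)
    obtain ⟨l', w', hw'⟩ := h (x + y) hxy0 (q_eq_zero D (by rw [qmap_add, hx, hy, hxy]; simp))
    have hg0 : ∀ {z : ι → F₀}, z ≠ 0 → g.1 (remb P z) ≠ 0 := fun hz e =>
      remb_ne_zero hz (g.1.map_eq_zero_iff.1 e)
    have hL : L ≠ 0 := fun e => hg0 hx0 (by rw [hwx, e, zero_smul])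
    have hl : l ≠ 0 := fun e => hg0 hy0 (by rw [hwy, e, zero_smul])
    have hwx0 : wx ≠ 0 := fun e => hg0 hx0 (by rw [hwx, e, remb_zero, smul_zero])
    have hind : wy ∉ Submodule.span F₀ (Set.range ![wx]) := by
      intro hmem
      obtain ⟨c, hc⟩ := (Submodule.mem_span_range_iff_exists_fun F₀).1 hmem
      simp at hc
      have h1 : g.1 (remb P y) = g.1 ((l * (c 0 : F) / L) • remb P x) := by
        rw [map_smul, hwx, hwy, ← hc, remb_smul, smul_smul, smul_smul, div_mul_cancel₀ _ hL]
      have h2 := g.1.injective h1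
      obtain ⟨p, hp⟩ := exists_partner D hx0
      have h3 := congrArg (fun z => polB q z (remb P p)) h2
      simp only [map_smul, LinearMap.smul_apply, ← b₀_val D, hp, OneMemClass.coe_one, smul_eq_mul,
        mul_one] at h3
      apply hyn
      refine (Submodule.mem_span_range_iff_exists_fun F₀).2 ⟨![polB (q₀ D) y p], ?_⟩
      apply remb_injective (P := P)
      simp only [Fin.sum_univ_one, Matrix.cons_val_fin_one]
      rw [remb_smul, h3, h2]
    -- compare the scalars through a separating functional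
    have hd1 : Module.finrank F₀ (Submodule.span F₀ (Set.range ![wx])) ≤ 1 := finrank_span_tuple _
    obtain ⟨p, -, hpW, hpy⟩ := exists_sing_eq D (W := Submodule.span F₀ (Set.range ![wx]))
      (by omega) hind 1
    have hwxn : wx ∉ Submodule.span F₀ (Set.range ![wy]) := by
      intro hmem
      obtain ⟨c, hc⟩ := (Submodule.mem_span_range_iff_exists_fun F₀).1 hmem
      simp at hc
      have hc0 : c 0 ≠ 0 := fun e => hwx0 (by rw [← hc, e, zero_smul])
      apply hind
      refine (Submodule.smul_mem_iff _ hc0).1 ?_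
      rw [hc]
      exact Submodule.subset_span ⟨0, rfl⟩
    have hd1' : Module.finrank F₀ (Submodule.span F₀ (Set.range ![wy])) ≤ 1 := finrank_span_tuple _
    obtain ⟨p', -, hp'W, hp'x⟩ := exists_sing_eq D (W := Submodule.span F₀ (Set.range ![wy]))
      (by omega) hwxn 1
    rw [remb_add, map_add, hwx, hwy] at hw'
    have e1 := congrArg (fun z => polB q z (remb P p)) hw'
    have e2 := congrArg (fun z => polB q z (remb P p')) hw'
    simp only [map_add, LinearMap.add_apply, map_smul, LinearMap.smul_apply, smul_eq_mul,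
      show polB q (remb P wx) (remb P p) = 0 from b_eq_zero D (orth_span D hpW 0),
      show polB q (remb P wy) (remb P p') = 0 from b_eq_zero D (orth_span D hp'W 0),
      ← b₀_val D wy p, hpy, ← b₀_val D wx p', hp'x, OneMemClass.coe_one, mul_zero, mul_one,
      zero_add, add_zero] at e1 e2
    have hl' : l' ≠ 0 := fun e0 => hl (by rw [e1, e0, zero_mul])
    have hr : l / L ∈ F₀ := by
      rw [e1, e2, mul_div_mul_left _ _ hl']
      exact div_mem (rat_polar D _ _) (rat_polar D _ _)
    refine ⟨(⟨_, hr⟩ : F₀) • wy, ?_⟩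
    rw [remb_smul, smul_smul, hwy, mul_div_cancel₀ _ hL]
  have hiso : ∀ b, q₀ D b = 0 → b ∈ S := by
    intro b hb
    by_cases hin : b ∈ Submodule.span F₀ (Set.range ![a])
    · refine (Submodule.span_le.2 ?_) hin
      rintro _ ⟨i, rfl⟩
      fin_cases i
      exact haS
    have hd := finrank_pair D a b
    obtain ⟨w, hw, hwW, hwn⟩ := exists_sing_out D (W := Submodule.span F₀ (Set.range ![a, b]))
      (by omega)
    have hw0 : w ≠ 0 := fun e => hwn (e ▸ Submodule.zero_mem _)
    have h1 : w ∉ Submodule.span F₀ (Set.range ![a]) := fun hm => hwn ((Submodule.span_le.2 (by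
      rintro _ ⟨i, rfl⟩
      fin_cases i
      exact Submodule.subset_span ⟨0, rfl⟩)) hm)
    have h2 : b ∉ Submodule.span F₀ (Set.range ![w]) := by
      intro hm
      obtain ⟨c, hc⟩ := (Submodule.mem_span_range_iff_exists_fun F₀).1 hm
      simp at hc
      have hc0 : c 0 ≠ 0 := fun e => hin (by rw [← hc, e, zero_smul]; exact Submodule.zero_mem _)
      apply hwn
      refine (Submodule.smul_mem_iff _ hc0).1 ?_
      rw [hc]
      exact Submodule.subset_span ⟨1, rfl⟩
    exact step w b hw hb hw0 h2 (by rw [polB_comm]; exact orth_span D hwW 1)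
      (step a w ha hw ha0 h1 (orth_span D hwW 0) haS)
  have hall : ∀ u, u ∈ S := by
    intro u
    have hmem : u ∈ (polB (q₀ D)).orthogonal (⊥ : Submodule F₀ (ι → F₀)) := fun y hy => by
      rw [(Submodule.mem_bot F₀).1 hy]; simp [LinearMap.BilinForm.IsOrtho]
    have hspan := span_singular_orth (nd₀ D) (W := (⊥ : Submodule F₀ (ι → F₀)))
      (by rw [finrank_bot, finrank₀ D]; omega) hmem
    exact (Submodule.span_le (p := S)).2 (fun z hz => hiso z hz.2) hspan
  have hL : L ≠ 0 := fun e => remb_ne_zero ha0 (g.1.map_eq_zero_iff.1 (by rw [hwa, e, zero_smul]))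
  rw [mem_subfield]
  refine ⟨L⁻¹, inv_ne_zero hL, fun i j => ?_⟩
  obtain ⟨w, hw⟩ := hall (Pi.single j 1)
  have e : ((P⁻¹ * H45.toGL q g * P : GL ι F) : Matrix ι ι F) i j =
      (((P⁻¹ * H45.toGL q g * P : GL ι F) : Matrix ι ι F) *ᵥ Pi.single j 1) i := by simp
  rw [e, conj_single (F₀ := F₀), H45.toGL_apply, hw, Matrix.mulVec_smul, Pi.smul_apply,
    remb_apply_inv, smul_eq_mul, ← mul_assoc, inv_mul_cancel₀ hL, one_mul]
  exact (w i).2

/-- The subfield subgroup is maximal. -/
theorem subfield_maximal {r : ℕ} (hr : r.Prime) (hcard : Nat.card F = Nat.card F₀ ^ r) :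
    Cfsg.Geo.IsMaximalIn (Cfsg.Geo.omegaGL ⇑q)
      (Cfsg.Geo.subfieldSubgroup F₀ P ⊓ Cfsg.Geo.omegaGL ⇑q) := by
  have hbig := D.big
  set S := (Cfsg.Geo.subfieldSubgroup F₀ P).comap (H45.toGL q) with hS
  refine H45.isMaximalIn_of_orth q _ S (fun g _ => Iff.rfl)
    ⟨lt_of_le_of_ne inf_le_right fun heq => ?_, fun M hHM hMC => ?_⟩
  · -- an element of the commutator subgroup moving a rational vector off the rational points
    obtain ⟨θ, hθ⟩ : ∃ θ : F, θ ∉ F₀ := by
      by_contra hall
      push Not at hall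
      have h1 : Nat.card F₀ = Nat.card F := Nat.card_congr (Equiv.subtypeUnivEquiv hall)
      rw [h1] at hcard
      have := Nat.pow_lt_pow_right (Finite.one_lt_card (α := F)) hr.one_lt
      rw [pow_one, ← hcard] at this
      omega
    obtain ⟨u, hu, -, hun⟩ := exists_sing_out D (W := (⊥ : Submodule F₀ (ι → F₀)))
      (by rw [finrank_bot]; omega)
    obtain ⟨v, hv, -, huv⟩ := exists_sing_eq D (W := (⊥ : Submodule F₀ (ι → F₀)))
      (by rw [finrank_bot]; omega) hun 1
    have hd := finrank_pair D u v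
    obtain ⟨w, hw, hwW, hwn⟩ := exists_sing_out D (W := Submodule.span F₀ (Set.range ![u, v]))
      (by omega)
    have huw : polB q (remb P u) (θ • remb P w) = 0 := by
      rw [map_smul, show polB q (remb P u) (remb P w) = 0 from b_eq_zero D (orth_span D hwW 0),
        smul_zero]
    have hg : eichler q (remb P u) (θ • remb P w) ∈ S := by
      have h1 : eichler q (remb P u) (θ • remb P w) ∈ commutator (orthGroup q) := by
        rw [commutator_eq_eichlerSub D.nd (finrank_pi5 D)]
        exact eichler_mem (q_eq_zero D hu) huw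
      rw [← heq] at h1
      exact h1.1
    obtain ⟨l, p, hlp⟩ := point_of_mem hg v
    rw [H45.toGL_apply, eichler_apply (q_eq_zero D hu) huw, map_smul,
      show polB q (remb P v) (remb P w) = 0 from b_eq_zero D (orth_span D hwW 1),
      polB_comm (remb P v) (remb P u), ← b₀_val D u v, huv, qmap_smul, q_eq_zero D hw] at hlp
    simp at hlp
    obtain ⟨p₁, -, hp₁W, hp₁w⟩ := exists_sing_eq D (W := Submodule.span F₀ (Set.range ![u, v]))
      (by omega) hwn 1
    have hd1 : Module.finrank F₀ (Submodule.span F₀ (Set.range ![w])) ≤ 1 := finrank_span_tuple _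
    have hvw : v ∉ Submodule.span F₀ (Set.range ![w]) := by
      intro hm
      obtain ⟨c, hc⟩ := (Submodule.mem_span_range_iff_exists_fun F₀).1 hm
      simp at hc
      rw [← hc, map_smul, show polB (q₀ D) u w = 0 from orth_span D hwW 0, smul_zero] at huv
      exact zero_ne_one huv
    obtain ⟨p₂, -, hp₂W, hp₂v⟩ := exists_sing_eq D (W := Submodule.span F₀ (Set.range ![w]))
      (by omega) hvw 1
    have e1 := congrArg (fun z => polB q z (remb P p₁)) hlp
    have e2 := congrArg (fun z => polB q z (remb P p₂)) hlp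
    simp only [map_add, LinearMap.add_apply, map_smul, LinearMap.smul_apply, smul_eq_mul,
      show polB q (remb P v) (remb P p₁) = 0 from b_eq_zero D (orth_span D hp₁W 1),
      show polB q (remb P w) (remb P p₂) = 0 from b_eq_zero D (orth_span D hp₂W 0),
      ← b₀_val D w p₁, hp₁w, ← b₀_val D v p₂, hp₂v, OneMemClass.coe_one, mul_zero, mul_one,
      zero_add, add_zero] at e1 e2
    have hne : ((polB (q₀ D) p p₂ : F₀) : F) ≠ 0 := fun e0 =>
      one_ne_zero (α := F) (by rw [e2, b₀_val D p p₂] at *; rw [e0, mul_zero])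
    apply hθ
    have : θ = ((polB (q₀ D) p p₁ : F₀) : F) / ((polB (q₀ D) p p₂ : F₀) : F) := by
      rw [eq_div_iff hne, b₀_val D, b₀_val D, e1]
      linear_combination (-(polB q (remb P p) (remb P p₁))) * e2
    rw [this]
    exact div_mem (Subtype.prop _) (Subtype.prop _)
  by_cases hle : M ≤ S
  · exact Or.inl (le_antisymm (le_inf hle hMC) hHM)
  obtain ⟨g, hgM, hgS⟩ := SetLike.not_le_iff_exists.mp hle
  have hM : HasRatO q F₀ P M := fun u w hu huw => hHM (hasRatO_subfield D u w hu huw)
  refine Or.inr (le_antisymm hMC (commutator_le_of_not_rigid D hM hr hcard fun hR => hgS ?_))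
  exact mem_of_points D fun u hu0 hu => points_of_rigid D hM hr hcard hR hgM hu hu0

end H38.SubO
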