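import Cfsg.Agent.H38.SubOFull
import Cfsg.Agent.H38.SL2BigUnipNd

/-!
Without irrational Eichler elements at rational centres all centres are rational points.
-/

set_option autoImplicit false
set_option linter.unusedSectionVars false

namespace H38.SubO

open H43 H49 Matrix
open scoped MatrixGroups

variable {F : Type*} [Field F] [Finite F] {ι : Type} [Fintype ι] [DecidableEq ι] {F₀ : Subfield F}
  {P : GL ι F}

local notation "V" => (ι → F)

variable {q : QuadraticForm F (ι → F)} {M : Subgroup (orthGroup q)}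

/-- A multiple of an image under `M` of a rational singular vector. -/
def Ctr (q : QuadraticForm F (ι → F)) (F₀ : Subfield F) (P : GL ι F)
    (M : Subgroup (orthGroup q)) (z : ι → F) : Prop :=
  ∃ g ∈ M, ∃ (μ : F) (v : ι → F₀), μ ≠ 0 ∧ v ≠ 0 ∧ q (remb P v) = 0 ∧ z = μ • g.1 (remb P v)

theorem Ctr.sing {z : V} (h : Ctr q F₀ P M z) : q z = 0 := by
  obtain ⟨g, -, μ, v, -, -, hv, rfl⟩ := h
  rw [qmap_smul, orth_qmap, hv, mul_zero]

variable (D : Dat q F₀ P) (hM : HasRatO q F₀ P M)
include D hM

theorem ctr_inE {g : orthGroup q} (hg : g ∈ M) {μ : F} (hμ : μ ≠ 0) {v w : ι → F₀}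
    (hv : q (remb P v) = 0) (hvw : polB (q₀ D) v w = 0) :
    InE q M (μ • g.1 (remb P v)) (μ⁻¹ • g.1 (remb P w)) :=
  inE_scale (by rw [orth_qmap, hv]) (inE_map hv (inE_rat D hM (q₀_eq_zero D hv) hvw) hg) hμ

/-- A centre orthogonal to a large rational subspace is a rational point. -/
theorem kill (hR : Rigid q F₀ P M) {z : V} (hz : Ctr q F₀ P M z) (hzp : ¬ Point F₀ P z)
    (W : Submodule F₀ (ι → F₀)) (hW : 2 * Module.finrank F₀ W + 5 ≤ Fintype.card ι)
    (horth : ∀ a : ι → F₀, (∀ w ∈ W, polB (q₀ D) w a = 0) → polB q z (remb P a) = 0) : False := by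
  have hbig := D.big
  have hzq := hz.sing
  have hz0 : z ≠ 0 := fun e => hzp ⟨0, 0, by rw [e, zero_smul]⟩
  have one : ∀ (W' : Submodule F₀ (ι → F₀)), 2 * Module.finrank F₀ W' + 5 ≤ Fintype.card ι →
      (∀ a : ι → F₀, (∀ w ∈ W', polB (q₀ D) w a = 0) → polB q z (remb P a) = 0) →
      ∀ a, q₀ D a = 0 → (∀ w ∈ W', polB (q₀ D) w a = 0) → a ∉ W' →
      ∃ (t : F) (r : ι → F₀) (k : F), t ≠ 0 ∧ t • z = remb P r + k • remb P a := by
    intro W' hW' horth' a ha haW han
    have ha0 : a ≠ 0 := fun e => han (e ▸ W'.zero_mem)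
    obtain ⟨g, hg, μ, v, hμ, hv0, hv, hzdef⟩ := hz
    obtain ⟨w, hvw, hne⟩ : ∃ w, polB (q₀ D) v w = 0 ∧
        polB q (μ⁻¹ • g.1 (remb P w)) (remb P a) ≠ 0 := by
      by_contra hcon
      push Not at hcon
      obtain ⟨k, hk⟩ := exists_smul_of_orth D hv0 (x := (g⁻¹).1 (remb P a)) fun w hw => by
        have h1 := hcon w hw
        rw [map_smul, LinearMap.smul_apply, smul_eq_mul, mul_eq_zero] at h1
        rw [← orth_polB_map g, orth_apply_inv_self, polB_comm]
        exact h1.resolve_left (inv_ne_zero hμ)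
      have h2 : remb P a = k • g.1 (remb P v) := by
        rw [← map_smul, ← hk, orth_apply_inv_self]
      have hk0 : k ≠ 0 := fun e => remb_ne_zero ha0 (by rw [h2, e, zero_smul])
      refine hzp ⟨μ / k, a, ?_⟩
      rw [hzdef, h2, smul_smul, div_mul_cancel₀ _ hk0]
    have hx : InE q M z (μ⁻¹ • g.1 (remb P w)) := by
      rw [hzdef]; exact ctr_inE D hM hg hμ hv hvw
    set W'' := W' ⊔ F₀ ∙ a with hW''
    have hdW : Module.finrank F₀ W'' ≤ Module.finrank F₀ W' + 1 := by
      have h1 := Submodule.finrank_add_le_finrank_add_finrank W' (F₀ ∙ a)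
      rw [← hW'', finrank_span_singleton ha0] at h1
      omega
    obtain ⟨b, hb, hbW, hbn⟩ := exists_sing_out D (W := W'') (by omega)
    obtain ⟨c, hc, hcW, hbc⟩ := exists_sing_eq D (W := W'') (by omega) hbn 1
    have haW'' : a ∈ W'' := Submodule.mem_sup_right (Submodule.mem_span_singleton_self a)
    have hW'le : ∀ {y}, y ∈ W' → y ∈ W'' := fun h => Submodule.mem_sup_left h
    have haa : polB (q₀ D) a a = 0 := by rw [polB_self, ha, mul_zero]
    have h3 := double D hM hzq hx ha hb hc ha (hbW a haW'') (by rw [polB_comm]; exact hcW a haW'')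
      (hcW a haW'') hbc haa (by rw [polB_comm]; exact hbW a haW'') (horth' a haW)
      (horth' b fun y hy => hbW y (hW'le hy)) (horth' c fun y hy => hcW y (hW'le hy))
      (horth' a haW)
    set t := polB q (μ⁻¹ • g.1 (remb P w)) (remb P a)
    obtain ⟨r, k, hr⟩ := hR a ha0 (q_eq_zero D ha) _ (inE_swap hzq (q_eq_zero D ha) h3 hne)
    exact ⟨-t, r, k, neg_ne_zero.2 hne, by rw [neg_smul, hr]⟩
  obtain ⟨a, ha, haW, han⟩ := exists_sing_out D (W := W) (by omega)
  obtain ⟨t, r, k, ht, he⟩ := one W hW horth a ha haW han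
  set W₂ := Submodule.span F₀ (Set.range ![r, a]) with hW₂
  have hd2 : Module.finrank F₀ W₂ ≤ 2 := finrank_pair D r a
  have horth2 : ∀ b : ι → F₀, (∀ w ∈ W₂, polB (q₀ D) w b = 0) → polB q z (remb P b) = 0 := by
    intro b hb
    have h1 : polB q (t • z) (remb P b) = 0 := by
      rw [he, map_add, LinearMap.add_apply, map_smul, LinearMap.smul_apply]
      rw [show polB q (remb P r) (remb P b) = 0 from b_eq_zero D (orth_span D hb 0),
        show polB q (remb P a) (remb P b) = 0 from b_eq_zero D (orth_span D hb 1), smul_zero,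
        add_zero]
    rw [map_smul, LinearMap.smul_apply, smul_eq_mul, mul_eq_zero] at h1
    exact h1.resolve_left ht
  obtain ⟨a', ha', ha'W, ha'n⟩ := exists_sing_out D (W := W₂) (by omega)
  obtain ⟨t', r', k', ht', he'⟩ := one W₂ (by omega) horth2 a' ha' ha'W ha'n
  obtain ⟨y, -, hyW, hay⟩ := exists_sing_eq D (W := W₂) (by omega) ha'n 1
  have h1 := congrArg (fun x => polB q x (remb P y)) he'
  simp only [map_add, LinearMap.add_apply, map_smul, LinearMap.smul_apply, smul_eq_mul,
    horth2 y hyW, mul_zero, ← b₀_val D a' y, hay, OneMemClass.coe_one, mul_one] at h1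
  have hk' : k' = -((polB (q₀ D) r' y : F₀) : F) := by rw [b₀_val D]; linear_combination -h1
  refine hzp (point_smul ht' ⟨1, r' + (-(polB (q₀ D) r' y)) • a', ?_⟩)
  rw [one_smul, he', remb_add, remb_smul, hk', NegMemClass.coe_neg]

omit hM in
/-- The rational vectors orthogonal to `u` and to `z`. -/
def zker (_D : Dat q F₀ P) (z : ι → F) (u : ι → F₀) : Submodule F₀ (ι → F₀) where
  carrier := {c | polB q (remb P u) (remb P c) = 0 ∧ polB q z (remb P c) = 0}
  add_mem' := fun {a b} ha hb => ⟨by rw [remb_add, map_add, ha.1, hb.1, add_zero],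
    by rw [remb_add, map_add, ha.2, hb.2, add_zero]⟩
  zero_mem' := ⟨by rw [remb_zero, map_zero], by rw [remb_zero, map_zero]⟩
  smul_mem' := fun c a ha => ⟨by rw [remb_smul, map_smul, ha.1, smul_zero],
    by rw [remb_smul, map_smul, ha.2, smul_zero]⟩

variable {r : ℕ} (hr : r.Prime) (hcard : Nat.card F = Nat.card F₀ ^ r)
include hr hcard

/-- A centre orthogonal to a rational singular vector, with at least three independent values on
its orthogonal, is a rational point. -/
theorem case_orth_big (hR : Rigid q F₀ P M) {z : V} (hz : Ctr q F₀ P M z) (hzp : ¬ Point F₀ P z)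
    {u : ι → F₀} (hu : q₀ D u = 0) (hu0 : u ≠ 0) (hzu : polB q z (remb P u) = 0)
    (hK4 : Module.finrank F₀ (zker D z u) + 4 ≤ Fintype.card ι) : False := by
  classical
  have hbig := D.big
  have hzq := hz.sing
  have huq := q_eq_zero D hu
  have hz0 : z ≠ 0 := fun e => hzp ⟨0, 0, by rw [e, zero_smul]⟩
  set U := (polB (q₀ D)).orthogonal (F₀ ∙ u) with hU
  have hUmem : ∀ c, c ∈ U ↔ polB (q₀ D) u c = 0 := fun c => mem_orth_singleton
  let φ : U →ₗ[F₀] F :=
    { toFun := fun c => polB q z (remb P (c : ι → F₀))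
      map_add' := fun a b => by rw [Submodule.coe_add, remb_add, map_add]
      map_smul' := fun k a => by
        rw [Submodule.coe_smul, remb_smul, map_smul, RingHom.id_apply]
        rfl }
  by_cases hrank : 2 * Module.finrank F₀ (LinearMap.range φ) + 7 ≤ Fintype.card ι
  · set K := (LinearMap.ker φ).map U.subtype with hK
    set W := (polB (q₀ D)).orthogonal K with hW
    have hdim : 2 * Module.finrank F₀ W + 5 ≤ Fintype.card ι := by
      have h1 := φ.finrank_range_add_finrank_ker
      have h2 := finrank_orth_add (nd₀ D) K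
      have h3 : Module.finrank F₀ K = Module.finrank F₀ (LinearMap.ker φ) :=
        (Submodule.equivMapOfInjective _ U.injective_subtype _).finrank_eq.symm
      have h4 := finrank_orth_singleton (nd₀ D) hu0
      rw [← hU] at h4
      rw [finrank₀ D] at h2 h4
      rw [← hW] at h2
      omega
    refine kill D hM hR hz hzp W hdim fun a ha => ?_
    have haK : a ∈ K := by
      rw [← LinearMap.BilinForm.orthogonal_orthogonal (nd₀ D) (polB_isRefl _) K]
      exact ha
    obtain ⟨c, hc, rfl⟩ := haK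
    exact LinearMap.mem_ker.1 hc
  -- a large space of transvection scalars on the plane
  push Not at hrank
  haveI := Fintype.ofFinite F
  obtain ⟨g, hg, μ, v, hμ, hv0, hv, hzdef⟩ := hz
  obtain ⟨w, hvw, hwne⟩ : ∃ w, polB (q₀ D) v w = 0 ∧
      polB q (μ⁻¹ • g.1 (remb P w)) (remb P u) ≠ 0 := by
    by_contra hcon
    push Not at hcon
    obtain ⟨k, hk⟩ := exists_smul_of_orth D hv0 (x := (g⁻¹).1 (remb P u)) fun w hw => by
      have h1 := hcon w hw
      rw [map_smul, LinearMap.smul_apply, smul_eq_mul, mul_eq_zero] at h1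
      rw [← orth_polB_map g, orth_apply_inv_self, polB_comm]
      exact h1.resolve_left (inv_ne_zero hμ)
    have h2 : remb P u = k • g.1 (remb P v) := by
      rw [← map_smul, ← hk, orth_apply_inv_self]
    have hk0 : k ≠ 0 := fun e => remb_ne_zero hu0 (by rw [h2, e, zero_smul])
    refine hzp ⟨μ / k, u, ?_⟩
    rw [hzdef, h2, smul_smul, div_mul_cancel₀ _ hk0]
  set b := μ⁻¹ • g.1 (remb P w)
  have hb : InE q M z b := by rw [hzdef]; exact ctr_inE D hM hg hμ hv hvw
  set β := polB q b (remb P u) with hβ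
  let Acts : orthGroup q → SL(2, F) → Prop := fun h x =>
    h.1 z = x 0 0 • z + x 1 0 • remb P u ∧ h.1 (remb P u) = x 0 1 • z + x 1 1 • remb P u
  let Gm : Submonoid SL(2, F) :=
    { carrier := {x | ∃ h ∈ M, Acts h x}
      one_mem' := ⟨1, one_mem M, by simp [orth_one_apply], by simp [orth_one_apply]⟩
      mul_mem' := fun {x y} hx hy => by
        obtain ⟨h, hh, h1, h2⟩ := hx
        obtain ⟨h', hh', h1', h2'⟩ := hy
        refine ⟨h * h', mul_mem hh hh', ?_, ?_⟩
        · rw [orth_mul_apply, h1', map_add, map_smul, map_smul, h1, h2,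
            Matrix.SpecialLinearGroup.coe_mul]
          simp only [Matrix.mul_apply, Fin.sum_univ_two]
          module
        · rw [orth_mul_apply, h2', map_add, map_smul, map_smul, h1, h2,
            Matrix.SpecialLinearGroup.coe_mul]
          simp only [Matrix.mul_apply, Fin.sum_univ_two]
          module }
  let G : Subgroup SL(2, F) :=
    { Gm with
      inv_mem' := fun {x} hx => by
        have h1 : x ^ (orderOf x - 1) = x⁻¹ := by
          refine eq_inv_of_mul_eq_one_left ?_
          rw [← pow_succ, Nat.sub_add_cancel (orderOf_pos x), pow_orderOf_eq_one]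
        rw [← h1]
        exact Submonoid.pow_mem Gm hx _ }
  let S : AddSubgroup F := (LinearMap.range φ).toAddSubgroup
  have hlow : ∀ s ∈ S, loSL s ∈ G := by
    intro s hs
    obtain ⟨c, hcs⟩ := LinearMap.mem_range.1 (neg_mem hs : -s ∈ LinearMap.range φ)
    have hcs' : polB q z (remb P (c : ι → F₀)) = -s := hcs
    have hc := (hUmem c).1 c.2
    have hin := inE_rat D hM hu hc
    refine ⟨_, hin.2, ?_, ?_⟩
    · rw [eichler_apply huq hin.1, hzu, hcs', coe_loSL]
      simp
    · rw [eichler_fix huq hin.1 (by rw [polB_self, huq, mul_zero]) (b_eq_zero D hc), coe_loSL]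
      simp
  have hup : H39.upSL (-β) ∈ G := by
    refine ⟨_, hb.2, ?_, ?_⟩
    · rw [eichler_fix hzq hb.1 (by rw [polB_self, hzq, mul_zero]) hb.1, H39.coe_upSL]
      simp
    · rw [eichler_apply hzq hb.1, polB_comm (remb P u) z, hzu, polB_comm (remb P u) b, ← hβ,
        H39.coe_upSL]
      simp [sub_eq_neg_add]
  have hSF : ∀ c ∈ F₀, ∀ s ∈ S, c * s ∈ S := fun c hc s hs =>
    (LinearMap.range φ).smul_mem (⟨c, hc⟩ : F₀) hs
  have h2 : 2 ≤ Nat.card F₀ := Finite.one_lt_card
  have hScard : Nat.card S = Nat.card F₀ ^ Module.finrank F₀ (LinearMap.range φ) :=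
    (Nat.card_congr (Equiv.refl (LinearMap.range φ))).trans (Module.natCard_eq_pow_finrank (K := F₀))
  have hr3 : 3 ≤ Module.finrank F₀ (LinearMap.range φ) := by
    have h1 := φ.finrank_range_add_finrank_ker
    have h3 : Module.finrank F₀ ((LinearMap.ker φ).map U.subtype) =
        Module.finrank F₀ (LinearMap.ker φ) :=
      (Submodule.equivMapOfInjective _ U.injective_subtype _).finrank_eq.symm
    have h4 := finrank_orth_singleton (nd₀ D) hu0
    rw [← hU, finrank₀ D] at h4
    have h5 : (LinearMap.ker φ).map U.subtype ≤ zker D z u := by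
      rintro _ ⟨c, hc, rfl⟩
      exact ⟨b_eq_zero D ((hUmem c).1 c.2), LinearMap.mem_ker.1 hc⟩
    have h6 := Submodule.finrank_mono h5
    have h7 : zker D z u ≤ (LinearMap.ker φ).map U.subtype := fun c hc =>
      ⟨⟨c, (hUmem c).2 (b₀_eq_zero D hc.1)⟩, LinearMap.mem_ker.2 hc.2, rfl⟩
    have h8 := Submodule.finrank_mono h7
    omega
  have h8 : 8 ≤ Nat.card S := by
    rw [hScard]
    calc 8 = 2 ^ 3 := by norm_num
      _ ≤ Nat.card F₀ ^ 3 := Nat.pow_le_pow_left h2 3
      _ ≤ _ := Nat.pow_le_pow_right (by omega) hr3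
  have hnd : ¬ Nat.card S ∣ 120 ∨ (Nat.card S = 8 ∧ ringChar F = 2) := by
    rw [hScard]
    by_cases hdiv : Nat.card F₀ ^ Module.finrank F₀ (LinearMap.range φ) ∣ 120
    swap
    · exact Or.inl hdiv
    have h4 : Nat.card F₀ ^ 3 ∣ 120 := (pow_dvd_pow _ hr3).trans hdiv
    have hle := Nat.le_of_dvd (by norm_num) h4
    have h3 : Nat.card F₀ ≤ 4 := by
      by_contra hgt
      have := Nat.pow_le_pow_left (show 5 ≤ Nat.card F₀ by omega) 3
      omega
    rcases (show Nat.card F₀ = 2 ∨ Nat.card F₀ = 3 ∨ Nat.card F₀ = 4 by omega) with e | e | e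
    · right
      have h5 : Module.finrank F₀ (LinearMap.range φ) = 3 := by
        by_contra hne
        have h6 : Nat.card F₀ ^ 4 ∣ 120 := (pow_dvd_pow _ (by omega)).trans hdiv
        rw [e] at h6; revert h6; decide
      rw [h5, e]
      refine ⟨rfl, CharP.ringChar_of_prime_eq_zero Nat.prime_two ?_⟩
      haveI : Fintype F₀ := Fintype.ofFinite _
      have h0 := FiniteField.cast_card_eq_zero F₀
      rw [← Nat.card_eq_fintype_card, e] at h0
      have h2F : (2 : F₀) = 0 := by exact_mod_cast h0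
      exact_mod_cast (map_ofNat F₀.subtype 2).symm.trans ((congrArg F₀.subtype h2F).trans (map_zero F₀.subtype))
    all_goals exact absurd h4 (by rw [e]; decide)
  have hp : ringChar F ^ 3 ≤ Nat.card S := by
    haveI : CharP F (ringChar F) := ringChar.charP F
    haveI : Fintype F₀ := Fintype.ofFinite _
    haveI : CharP F₀ (ringChar F) := RingHom.charP F₀.subtype F₀.subtype.injective (ringChar F)
    obtain ⟨e, -, he⟩ := FiniteField.card F₀ (ringChar F)
    have hple : ringChar F ≤ Nat.card F₀ := by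
      rw [Nat.card_eq_fintype_card, he]
      exact Nat.le_self_pow e.ne_zero _
    rw [hScard]
    exact (Nat.pow_le_pow_left hple 3).trans (Nat.pow_le_pow_right (by omega) (by omega))
  have hlt : Nat.card F₀ < Nat.card S := by
    rw [hScard]
    calc Nat.card F₀ = Nat.card F₀ ^ 1 := (pow_one _).symm
      _ < _ := Nat.pow_lt_pow_right (by omega) (by omega)
  have htop := proj_map_eq_top_of_nd G F₀ hr hcard S hSF h8 hnd hp hlt (neg_ne_zero.2 hwne)
    hlow hup
  obtain ⟨s, hs⟩ : ∃ s : F, s * s ∉ F₀ := by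
    by_contra hall
    push Not at hall
    have hF : ∀ x : F, x ∈ F₀ := by
      intro x
      by_cases h2 : (2 : F) = 0
      · obtain ⟨y, hy⟩ := FiniteField.isSquare_of_char_two (CharP.ringChar_of_prime_eq_zero
          Nat.prime_two (by exact_mod_cast h2)) x
        rw [hy]; exact hall y
      · have e : x = ((x + 1) * (x + 1) - x * x - 1 * 1) / (1 + 1) := by
          have h2' : (1 : F) + 1 ≠ 0 := by rwa [one_add_one_eq_two]
          rw [eq_div_iff h2']
          ring
        rw [e]
        exact div_mem (sub_mem (sub_mem (hall _) (hall _)) (hall 1))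
          (add_mem (one_mem _) (one_mem _))
    have h1 : Nat.card F₀ = Nat.card F := Nat.card_congr (Equiv.subtypeUnivEquiv hF)
    rw [h1] at hcard
    have := Nat.pow_lt_pow_right (Finite.one_lt_card (α := F)) hr.one_lt
    rw [pow_one, ← hcard] at this
    omega
  have hs0 : s ≠ 0 := fun e => hs (by rw [e, mul_zero]; exact F₀.zero_mem)
  let d : SL(2, F) := ⟨!![s⁻¹, 0; 0, s], by simp [Matrix.det_fin_two, hs0]⟩
  obtain ⟨x, ⟨h, hhM, -, hhu⟩, hxd⟩ :=
    (show H39.proj d ∈ G.map H39.proj by rw [htop]; exact Subgroup.mem_top _)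
  obtain ⟨lam, hlam, hx01, hx11⟩ : ∃ lam : F, lam * lam = s * s ∧ x 0 1 = 0 ∧ x 1 1 = lam := by
    rcases H39.proj_eq_proj_iff.1 hxd with h' | h'
    · exact ⟨s, rfl, by rw [← h']; simp [d], by rw [← h']; simp [d]⟩
    · refine ⟨-s, by ring, ?_, ?_⟩ <;>
        rw [show x = -d by rw [h', neg_neg], Matrix.SpecialLinearGroup.coe_neg] <;> simp [d]
  have hlam0 : lam ≠ 0 := fun e => hs (by rw [← hlam, e, mul_zero]; exact F₀.zero_mem)
  rw [hx01, hx11, zero_smul, zero_add] at hhu
  have hrig : ∀ c, polB (q₀ D) u c = 0 → ∃ (r₁ : ι → F₀) (k : F),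
      lam • h.1 (remb P c) = remb P r₁ + k • remb P u := by
    intro c hc
    have hq' : q (h.1 (remb P u)) = 0 := by rw [orth_qmap, huq]
    have h1 := inE_scale hq' (inE_map huq (inE_rat D hM hu hc) hhM) (inv_ne_zero hlam0)
    rw [inv_inv, hhu, smul_smul, inv_mul_cancel₀ hlam0, one_smul] at h1
    exact hR u hu0 huq _ h1
  have hd1 : Module.finrank F₀ (Submodule.span F₀ (Set.range ![u])) ≤ 1 := finrank_span_tuple _
  obtain ⟨c, -, hcW, hcn⟩ := exists_sing_out D (W := Submodule.span F₀ (Set.range ![u])) (by omega)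
  obtain ⟨c', -, hc'W, hcc⟩ := exists_sing_eq D (W := Submodule.span F₀ (Set.range ![u]))
    (by omega) hcn 1
  obtain ⟨r₁, k₁, e₁⟩ := hrig c (orth_span D hcW 0)
  obtain ⟨r₂, k₂, e₂⟩ := hrig c' (orth_span D hc'W 0)
  have hperp : ∀ {c₀ r₀ : ι → F₀} {k₀ : F}, polB (q₀ D) u c₀ = 0 →
      lam • h.1 (remb P c₀) = remb P r₀ + k₀ • remb P u →
      polB q (remb P u) (remb P r₀) = 0 := by
    intro c₀ r₀ k₀ hc₀ he
    have h1 : polB q (h.1 (remb P u)) (lam • h.1 (remb P c₀)) = 0 := by
      rw [map_smul, orth_polB_map, b_eq_zero D hc₀, smul_zero]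
    rw [he, hhu, map_smul, LinearMap.smul_apply, map_add, map_smul, polB_self, huq, mul_zero,
      smul_zero, add_zero, smul_eq_mul, mul_eq_zero] at h1
    exact h1.resolve_left hlam0
  have h3 : polB q (lam • h.1 (remb P c)) (lam • h.1 (remb P c')) = lam * lam := by
    rw [map_smul, map_smul, LinearMap.smul_apply, orth_polB_map, ← b₀_val D, hcc,
      OneMemClass.coe_one, smul_eq_mul, smul_eq_mul, mul_one]
  rw [e₁, e₂] at h3
  simp only [map_add, map_smul, LinearMap.add_apply, LinearMap.smul_apply, polB_self, huq,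
    smul_eq_mul, mul_zero, add_zero, hperp (orth_span D hc'W 0) e₂,
    polB_comm (remb P r₁) (remb P u), hperp (orth_span D hcW 0) e₁] at h3
  apply hs
  rw [← hlam, ← h3]
  exact rat_polar D _ _

/-- A centre orthogonal to a rational singular vector is a rational point. -/
theorem case_orth (hR : Rigid q F₀ P M) {z : V} (hz : Ctr q F₀ P M z) (hzp : ¬ Point F₀ P z)
    {u : ι → F₀} (hu : q₀ D u = 0) (hu0 : u ≠ 0) (hzu : polB q z (remb P u) = 0) : False := by
  have hbig := D.big
  set K := zker D z u with hKdef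
  by_cases hK4 : Module.finrank F₀ K + 4 ≤ Fintype.card ι
  · exact case_orth_big D hM hr hcard hR hz hzp hu hu0 hzu hK4
  -- move the rational singular vector off the support of the centre
  set W := (polB (q₀ D)).orthogonal K with hW
  have hWd := finrank_orth_add (nd₀ D) K
  rw [← hW, finrank₀ D] at hWd
  obtain ⟨u', hu', hu'W, hu'n⟩ := exists_sing_out D (W := W) (by omega)
  have hu'K : u' ∈ K := by
    rw [← LinearMap.BilinForm.orthogonal_orthogonal (nd₀ D) (polB_isRefl _) K]
    exact hu'W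
  have hu'0 : u' ≠ 0 := fun e => hu'n (e ▸ W.zero_mem)
  set K' := zker D z u' with hK'def
  by_cases hK4' : Module.finrank F₀ K' + 4 ≤ Fintype.card ι
  · exact case_orth_big D hM hr hcard hR hz hzp hu' hu'0 hu'K.2 hK4'
  -- the support is a plane
  set W' := (polB (q₀ D)).orthogonal K' with hW'
  have hW'd := finrank_orth_add (nd₀ D) K'
  rw [← hW', finrank₀ D] at hW'd
  have hu'W' : u' ∈ W' := fun c hc => by
    change polB (q₀ D) c u' = 0
    rw [polB_comm]
    exact b₀_eq_zero D hc.1
  set W₀ := (polB (q₀ D)).orthogonal (K ⊔ K') with hW₀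
  have hle : W₀ ≤ W := fun x hx c hc => hx c (Submodule.mem_sup_left hc)
  have hlt : W₀ < W' := lt_of_le_of_ne (fun x hx c hc => hx c (Submodule.mem_sup_right hc))
    fun e => hu'n (hle (e ▸ hu'W'))
  have hW₀d := Submodule.finrank_lt_finrank_of_lt hlt
  refine kill D hM hR hz hzp W₀ (by omega) fun a ha => ?_
  have haK : a ∈ K ⊔ K' := by
    rw [← LinearMap.BilinForm.orthogonal_orthogonal (nd₀ D) (polB_isRefl _) (K ⊔ K')]
    exact ha
  obtain ⟨c, hc, c', hc', rfl⟩ := Submodule.mem_sup.1 haK
  rw [remb_add, map_add, hc.2, hc'.2, add_zero]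

/-- All images of rational singular vectors are rational points. -/
theorem points_of_rigid (hR : Rigid q F₀ P M) {g : orthGroup q} (hg : g ∈ M) {v : ι → F₀}
    (hv : q (remb P v) = 0) (hv0 : v ≠ 0) : Point F₀ P (g.1 (remb P v)) := by
  by_contra hp
  have hbig := D.big
  set y₀ := g.1 (remb P v) with hy₀def
  have hy₀ : y₀ ≠ 0 := fun e => hp ⟨0, 0, by rw [e, zero_smul]⟩
  obtain ⟨u, hu, huy⟩ : ∃ u, q₀ D u = 0 ∧ polB q y₀ (remb P u) ≠ 0 := by
    by_contra hcon
    push Not at hcon
    apply hy₀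
    refine eq_zero_of_rat D fun p => ?_
    have hmem : p ∈ (polB (q₀ D)).orthogonal (⊥ : Submodule F₀ (ι → F₀)) := fun y hy => by
      rw [(Submodule.mem_bot F₀).1 hy]; simp [LinearMap.BilinForm.IsOrtho]
    have hspan := span_singular_orth (nd₀ D) (W := (⊥ : Submodule F₀ (ι → F₀)))
      (by rw [finrank_bot, finrank₀ D]; omega) hmem
    clear hmem
    induction hspan using Submodule.span_induction with
    | mem z hz => exact hcon z hz.2
    | zero => rw [remb_zero, map_zero]
    | add a b _ _ h1 h2 => rw [remb_add, map_add, h1, h2, add_zero]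
    | smul c a _ h1 => rw [remb_smul, map_smul, h1, smul_zero]
  have huq := q_eq_zero D hu
  have hu0 : u ≠ 0 := fun e => huy (by rw [e, remb_zero, map_zero])
  set μ := (polB q y₀ (remb P u))⁻¹ with hμdef
  have hμ : μ ≠ 0 := inv_ne_zero huy
  set y := μ • y₀ with hy
  clear_value y
  have hyp : ¬ Point F₀ P y := fun h => hp (point_smul hμ (hy ▸ h))
  have hyq : q y = 0 := by rw [hy, qmap_smul, hy₀def, orth_qmap, hv, mul_zero]
  have hyu : polB q y (remb P u) = 1 := by
    rw [hy, map_smul, LinearMap.smul_apply, smul_eq_mul, hμdef, inv_mul_cancel₀ huy]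
  have hv₀ := q₀_eq_zero D hv
  have hd1 : Module.finrank F₀ (Submodule.span F₀ (Set.range ![v])) ≤ 1 := finrank_span_tuple _
  obtain ⟨w, hw, hwW, hwn⟩ := exists_sing_out D (W := Submodule.span F₀ (Set.range ![v])) (by omega)
  set b₀ := μ⁻¹ • g.1 (remb P w) with hb₀def
  clear_value b₀
  have hb₀ : InE q M y b₀ := by
    rw [hy, hb₀def]; exact ctr_inE D hM hg hμ hv (orth_span D hwW 0)
  set b := b₀ - polB q b₀ (remb P u) • y with hbdef
  clear_value b
  have hb : InE q M y b := hbdef ▸ inE_sub hyq hb₀ (inE_self hyq _)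
  have hbq : q b = 0 := by
    rw [hbdef, qmap_sub, qmap_smul, hyq, hb₀def, qmap_smul, orth_qmap, q_eq_zero D hw,
      ← hb₀def, map_smul, polB_comm b₀ y, hb₀.1]
    simp
  have hbu : polB q (remb P u) b = 0 := by
    rw [hbdef, map_sub, map_smul, polB_comm _ y, hyu, smul_eq_mul, mul_one, polB_comm, sub_self]
  have hbne : b ≠ 0 := by
    intro e
    rw [hbdef, sub_eq_zero] at e
    generalize polB q b₀ (remb P u) = c at e
    rw [hb₀def, hy, smul_smul] at e
    have e' : g.1 (remb P w) = (μ * (c * μ)) • y₀ := by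
      rw [← smul_smul, ← e, smul_smul, mul_inv_cancel₀ hμ, one_smul]
    rw [hy₀def, ← map_smul] at e'
    have e'' := g.1.injective e'
    obtain ⟨p, hp'⟩ := exists_partner D hv0
    have h1 := congrArg (fun x => polB q x (remb P p)) e''
    simp only [map_smul, LinearMap.smul_apply, ← b₀_val D, hp', OneMemClass.coe_one, smul_eq_mul,
      mul_one] at h1
    apply hwn
    refine (Submodule.mem_span_range_iff_exists_fun F₀).2 ⟨![polB (q₀ D) w p], ?_⟩
    apply remb_injective (P := P)
    simp only [Fin.sum_univ_one, Matrix.cons_val_fin_one]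
    rw [remb_smul, h1, e'']
  have hctry : Ctr q F₀ P M y := ⟨g, hg, μ, v, hμ, hv0, hv, hy⟩
  set z := remb P u + b with hzdef
  clear_value z
  have him : (eichler q y b).1 (remb P u) = z := by
    rw [eichler_apply hyq hb.1, polB_comm (remb P u) y, hyu, hbu, hbq]
    simp [hzdef]
  have hzctr : Ctr q F₀ P M z :=
    ⟨_, hb.2, 1, u, one_ne_zero, hu0, huq, by rw [one_smul, him]⟩
  by_cases hzp : Point F₀ P z
  swap
  · exact case_orth D hM hr hcard hR hzctr hzp hu hu0
      (by rw [hzdef, map_add, LinearMap.add_apply, polB_self, huq, polB_comm b, hbu]; simp)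
  obtain ⟨l, p, hlp⟩ := hzp
  have hbe : b = l • remb P p - remb P u := by rw [← hlp, hzdef]; abel
  have hl : l ≠ 0 := by
    intro e
    rw [e, zero_smul, zero_sub] at hbe
    have := hb.1
    rw [hbe, map_neg, hyu] at this
    exact neg_ne_zero.2 one_ne_zero this
  have hup : polB (q₀ D) u p = 0 := b₀_eq_zero D (by
    have h1 := hbu
    rw [hbe, map_sub, map_smul, polB_self, huq, mul_zero, sub_zero, smul_eq_mul, mul_eq_zero] at h1
    exact h1.resolve_left hl)
  have hpn : p ∉ Submodule.span F₀ (Set.range ![u]) := by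
    intro hmem
    obtain ⟨c, hc⟩ := (Submodule.mem_span_range_iff_exists_fun F₀).1 hmem
    simp at hc
    have := hb.1
    rw [hbe, ← hc, remb_smul, smul_smul, map_sub, map_smul, hyu, smul_eq_mul, mul_one,
      sub_eq_zero] at this
    apply hbne
    rw [hbe, ← hc, remb_smul, smul_smul, this, one_smul, sub_self]
  set W := Submodule.span F₀ (Set.range ![u, p]) with hW
  have hdW : Module.finrank F₀ W ≤ 2 := finrank_pair D u p
  obtain ⟨a, ha, haW, han⟩ := exists_sing_out D (W := W) (by omega)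
  have hua : polB (q₀ D) u a = 0 := orth_span D haW 0
  have hba : polB q b (remb P a) = 0 := by
    rw [hbe, map_sub, map_smul, LinearMap.sub_apply, LinearMap.smul_apply,
      show polB q (remb P p) (remb P a) = 0 from b_eq_zero D (orth_span D haW 1),
      b_eq_zero D hua]
    simp
  set a' := remb P a - polB q y (remb P a) • remb P u with ha'def
  clear_value a'
  have ha' : InE q M (remb P u) a' := ha'def ▸
    inE_sub huq (inE_rat D hM hu hua) (inE_self huq _)
  have ha'q : q a' = 0 := by
    rw [ha'def, qmap_sub, qmap_smul, huq, q_eq_zero D ha, map_smul,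
      polB_comm (remb P a) (remb P u), b_eq_zero D hua]
    simp
  have hya' : polB q y a' = 0 := by
    rw [ha'def, map_sub, map_smul, hyu, smul_eq_mul, mul_one, sub_self]
  have hba' : polB q b a' = 0 := by
    rw [ha'def, map_sub, map_smul, hba, polB_comm b, hbu]; simp
  have hab' : polB q a' b = 0 := by rw [polB_comm]; exact hba'
  have him1 : (eichler q (remb P u) a').1 y = y + a' := by
    rw [eichler_apply huq ha'.1, hyu, hya', ha'q]; simp
  have him2 : (eichler q (remb P u) a').1 b = b :=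
    eichler_fix huq ha'.1 (by rw [polB_comm]; exact hbu) hba'
  have hyb := hb
  have h1 := inE_map hyq hb ha'.2
  rw [him1, him2] at h1
  have hya'q : q (y + a') = 0 := by rw [qmap_add, hyq, ha'q, hya']; simp
  have s1 : InE q M b (-((1 : F) • (y + a'))) :=
    inE_swap hya'q hbq (by rwa [one_smul]) one_ne_zero
  have s2 : InE q M b (-((1 : F) • y)) := inE_swap hyq hbq (by rwa [one_smul]) one_ne_zero
  rw [one_smul] at s1 s2
  have s3 : InE q M b ((-1 : F) • a') := by
    have := inE_sub hbq s1 s2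
    rwa [show -(y + a') - -y = (-1 : F) • a' by module] at this
  have s4 := inE_swap hbq ha'q s3 (neg_ne_zero.2 one_ne_zero)
  rw [neg_one_smul, neg_neg] at s4
  have hWp : p ∉ Submodule.span F₀ (Set.range ![u]) := hpn
  obtain ⟨x₀, hx₀, hx₀W, hax₀⟩ := exists_sing_eq D (W := W) (by omega) han 1
  have hux₀ : polB (q₀ D) u x₀ = 0 := orth_span D hx₀W 0
  have hbx₀ : polB q b (remb P x₀) = 0 := by
    rw [hbe, map_sub, map_smul, LinearMap.sub_apply, LinearMap.smul_apply,
      show polB q (remb P p) (remb P x₀) = 0 from b_eq_zero D (orth_span D hx₀W 1),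
      b_eq_zero D hux₀]
    simp
  have h2 := inE_fix_sub huq (inE_rat D hM hu hux₀) s4.2
    (eichler_fix ha'q s4.1 ha'.1 hbu)
  have hx₀a' : polB q (remb P x₀) a' = 1 := by
    rw [ha'def, map_sub, map_smul, polB_comm _ (remb P a), ← b₀_val D a x₀, hax₀,
      polB_comm _ (remb P u), b_eq_zero D hux₀]
    simp
  rw [eichler_apply ha'q s4.1, hx₀a', polB_comm (remb P x₀) b, hbx₀, hbq] at h2
  simp only [zero_mul, zero_smul, sub_zero, one_smul, add_sub_cancel_left] at h2
  obtain ⟨r₁, k, hr₁⟩ := hR u hu0 huq _ h2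
  obtain ⟨p', -, hp'W, hpp⟩ := exists_sing_eq D (W := Submodule.span F₀ (Set.range ![u]))
    (by have : Module.finrank F₀ (Submodule.span F₀ (Set.range ![u])) ≤ 1 := finrank_span_tuple _
        omega) hWp 1
  have hlF : l ∈ F₀ := by
    have h3 := congrArg (fun x => polB q x (remb P p')) (hbe.symm.trans hr₁)
    simp only [map_add, map_sub, map_smul, LinearMap.add_apply, LinearMap.sub_apply,
      LinearMap.smul_apply, smul_eq_mul, ← b₀_val D p p', hpp, OneMemClass.coe_one, mul_one,
      show polB q (remb P u) (remb P p') = 0 from b_eq_zero D (orth_span D hp'W 0), mul_zero,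
      add_zero, sub_zero] at h3
    rw [h3]
    exact rat_polar D _ _
  set b₁ := (⟨l, hlF⟩ : F₀) • p - u with hb₁
  have hb₁e : remb P b₁ = b := by rw [hb₁, remb_sub, remb_smul, hbe]
  have hb₁0 : b₁ ≠ 0 := fun e => hbne (by rw [← hb₁e, e, remb_zero])
  rw [← hb₁e] at s2 hbq
  obtain ⟨r₂, k₂, hr₂⟩ := hR b₁ hb₁0 hbq _ s2
  refine kill D hM hR hctry hyp (Submodule.span F₀ (Set.range ![r₂, b₁]))
    (by have h5 := finrank_pair D r₂ b₁; omega) fun e he => ?_
  have h4 := congrArg (fun x => polB q x (remb P e)) hr₂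
  simp only [map_add, map_neg, map_smul, LinearMap.add_apply, LinearMap.neg_apply,
    LinearMap.smul_apply,
    show polB q (remb P r₂) (remb P e) = 0 from b_eq_zero D (orth_span D he 0),
    show polB q (remb P b₁) (remb P e) = 0 from b_eq_zero D (orth_span D he 1), smul_zero,
    add_zero, neg_eq_zero] at h4
  exact h4

end H38.SubO
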