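import Cfsg.Agent.H49.Transvec

/-!
Bookkeeping for the transvections `1 + v φ` inside a subgroup of `GL`.
-/

set_option autoImplicit false

namespace H38

open Matrix
open scoped MatrixGroups

variable {ι : Type*} [Fintype ι] [DecidableEq ι] {F : Type*} [Field F]

/-- The transvection `x ↦ x + (φ x) v` lies in `M`. -/
def Tv (M : Subgroup (GL ι F)) (v φ : ι → F) : Prop :=
  ∃ h : φ ⬝ᵥ v = 0, H49.tr v φ h ∈ M

variable {M : Subgroup (GL ι F)}

theorem Tv.orth {v φ : ι → F} (h : Tv M v φ) : φ ⬝ᵥ v = 0 := h.1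

theorem tv_of_trM_eq {v φ v' φ' : ι → F} (h : Tv M v φ) (h' : φ' ⬝ᵥ v' = 0)
    (e : H49.trM v' φ' = H49.trM v φ) : Tv M v' φ' := by
  obtain ⟨h0, hm⟩ := h
  refine ⟨h', ?_⟩
  rwa [show H49.tr v' φ' h' = H49.tr v φ h0 from Units.ext (by rw [H49.tr_val, H49.tr_val, e])]

theorem tv_of_mem {v φ : ι → F} (h : φ ⬝ᵥ v = 0) {g : GL ι F} (hg : g ∈ M)
    (e : (g : Matrix ι ι F) = H49.trM v φ) : Tv M v φ :=
  ⟨h, by rwa [show H49.tr v φ h = g from Units.ext (by rw [H49.tr_val, e])]⟩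

theorem tv_smul {v φ : ι → F} {c : F} (h : Tv M (c • v) φ) (hc : c ≠ 0) : Tv M v (c • φ) := by
  have h0 := h.1
  rw [dotProduct_smul, smul_eq_mul] at h0
  refine tv_of_trM_eq h (by rw [smul_dotProduct, smul_eq_mul, h0]) ?_
  rw [H49.trM, H49.trM, Matrix.vecMulVec_smul, Matrix.smul_vecMulVec]

theorem tv_smul' {v φ : ι → F} {c : F} (h : Tv M v (c • φ)) (hc : c ≠ 0) : Tv M (c • v) φ := by
  have h0 := h.1
  rw [smul_dotProduct, smul_eq_mul] at h0
  refine tv_of_trM_eq h (by rw [dotProduct_smul, smul_eq_mul, h0]) ?_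
  rw [H49.trM, H49.trM, Matrix.vecMulVec_smul, Matrix.smul_vecMulVec]

theorem tv_zero (v : ι → F) : Tv M v 0 :=
  tv_of_mem (zero_dotProduct v) M.one_mem (by rw [Units.val_one, H49.trM_zero])

theorem tv_add {v φ ψ : ι → F} (h : Tv M v φ) (h' : Tv M v ψ) : Tv M v (φ + ψ) := by
  obtain ⟨h0, hm⟩ := h
  obtain ⟨h0', hm'⟩ := h'
  have := mul_mem hm hm'
  rw [H49.tr_mul] at this
  exact ⟨_, this⟩

theorem tv_add_left {v w φ : ι → F} (h : Tv M v φ) (h' : Tv M w φ) : Tv M (v + w) φ := by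
  obtain ⟨h0, hm⟩ := h
  obtain ⟨h0', hm'⟩ := h'
  refine tv_of_mem (by rw [dotProduct_add, h0, h0', add_zero]) (mul_mem hm hm') ?_
  rw [Units.val_mul, H49.tr_val, H49.tr_val, H49.trM, H49.trM, H49.trM, mul_add, add_mul, add_mul,
    one_mul, mul_one, one_mul, Matrix.vecMulVec_mul_vecMulVec, h0', zero_smul,
    Matrix.vecMulVec_zero, add_zero, Matrix.add_vecMulVec]
  abel

theorem tv_neg {v φ : ι → F} (h : Tv M v φ) : Tv M v (-φ) := by
  obtain ⟨h0, hm⟩ := h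
  exact tv_of_mem (by rw [neg_dotProduct, h0, neg_zero]) (inv_mem hm) rfl

theorem tv_neg_left {v φ : ι → F} (h : Tv M (-v) φ) : Tv M v φ := by
  have := tv_neg (tv_smul (M := M) (v := v) (φ := φ) (c := (-1 : F)) (by rwa [neg_one_smul]) (neg_ne_zero.2 one_ne_zero))
  rwa [neg_one_smul, neg_neg] at this

theorem tv_conj {g : GL ι F} (hg : g ∈ M) {v φ : ι → F} (h : Tv M v φ) :
    Tv M ((g : Matrix ι ι F) *ᵥ v) (φ ᵥ* ((g⁻¹ : GL ι F) : Matrix ι ι F)) := by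
  obtain ⟨h0, hm⟩ := h
  refine tv_of_mem ?_ (mul_mem (mul_mem hg hm) (inv_mem hg)) ?_
  · rw [← Matrix.dotProduct_mulVec, H49.gl_inv_mulVec, h0]
  · rw [Units.val_mul, Units.val_mul, H49.tr_val, H49.trM, H49.trM, mul_add, add_mul, mul_one,
      ← Units.val_mul, mul_inv_cancel, Units.val_one, Matrix.mul_vecMulVec, Matrix.vecMulVec_mul]

theorem trM_neg_vecMul (b ψ φ : ι → F) :
    φ ᵥ* H49.trM b (-ψ) = φ - (φ ⬝ᵥ b) • ψ := by
  rw [H49.trM, Matrix.vecMul_add, Matrix.vecMul_one, Matrix.vecMul_vecMulVec, smul_neg,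
    sub_eq_add_neg]

/-- Commutator rule: same centre. -/
theorem tv_comm {a b φ ψ : ι → F} (h : Tv M a φ) (h' : Tv M b ψ) (ha : ψ ⬝ᵥ a = 0) :
    Tv M a ((φ ⬝ᵥ b) • ψ) := by
  obtain ⟨h0', hm'⟩ := h'
  have h1 := tv_conj hm' h
  rw [H49.tr_mulVec, ha, zero_smul, add_zero] at h1
  rw [show (((H49.tr b ψ h0')⁻¹ : GL ι F) : Matrix ι ι F) = H49.trM b (-ψ) from rfl,
    trM_neg_vecMul] at h1
  have h2 := tv_neg (tv_add h1 (tv_neg h))
  rwa [show -((φ - (φ ⬝ᵥ b) • ψ) + -φ) = (φ ⬝ᵥ b) • ψ by abel] at h2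

/-- Commutator rule: same axis. -/
theorem tv_comm_left {a b φ ψ : ι → F} (h : Tv M a φ) (h' : Tv M b ψ) (hb : φ ⬝ᵥ b = 0) :
    Tv M ((ψ ⬝ᵥ a) • b) φ := by
  obtain ⟨h0', hm'⟩ := h'
  have h1 := tv_conj hm' h
  rw [H49.tr_mulVec,
    show (((H49.tr b ψ h0')⁻¹ : GL ι F) : Matrix ι ι F) = H49.trM b (-ψ) from rfl,
    trM_neg_vecMul, hb, zero_smul, sub_zero] at h1
  have h2 : Tv M (-a) φ := by
    refine tv_neg_left ?_
    rwa [neg_neg]
  have h3 := tv_add_left h1 h2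
  rwa [show a + (ψ ⬝ᵥ a) • b + -a = (ψ ⬝ᵥ a) • b by abel] at h3

/-- Transpose-inverse on `GL`. -/
def dualHom (ι F : Type*) [Fintype ι] [DecidableEq ι] [Field F] : GL ι F →* GL ι F where
  toFun g := ⟨((g⁻¹ : GL ι F) : Matrix ι ι F)ᵀ, ((g : Matrix ι ι F))ᵀ,
    by rw [← Matrix.transpose_mul, ← Units.val_mul, mul_inv_cancel, Units.val_one,
      Matrix.transpose_one],
    by rw [← Matrix.transpose_mul, ← Units.val_mul, inv_mul_cancel, Units.val_one,
      Matrix.transpose_one]⟩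
  map_one' := Units.ext (by simp)
  map_mul' g h := Units.ext (by
    show (((g * h)⁻¹ : GL ι F) : Matrix ι ι F)ᵀ = _
    rw [_root_.mul_inv_rev, Units.val_mul, Matrix.transpose_mul]
    rfl)

theorem dualHom_val (g : GL ι F) :
    (dualHom ι F g : Matrix ι ι F) = ((g⁻¹ : GL ι F) : Matrix ι ι F)ᵀ := rfl

theorem dualHom_dualHom (g : GL ι F) : dualHom ι F (dualHom ι F g) = g :=
  Units.ext (by
    rw [dualHom_val]
    show ((g : Matrix ι ι F)ᵀ)ᵀ = _
    rw [Matrix.transpose_transpose])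

theorem mem_map_dualHom {g : GL ι F} :
    g ∈ M.map (dualHom ι F) ↔ dualHom ι F g ∈ M := by
  constructor
  · rintro ⟨h, hh, rfl⟩
    rwa [dualHom_dualHom]
  · intro h
    exact ⟨_, h, dualHom_dualHom g⟩

theorem tv_dual {v φ : ι → F} : Tv (M.map (dualHom ι F)) v φ ↔ Tv M φ (-v) := by
  constructor
  · rintro ⟨h0, hm⟩
    refine tv_of_mem (by rw [neg_dotProduct, dotProduct_comm, h0, neg_zero])
      (mem_map_dualHom.1 hm) ?_
    rw [dualHom_val, show (((H49.tr v φ h0)⁻¹ : GL ι F) : Matrix ι ι F) = H49.trM v (-φ) from rfl,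
      H49.trM, H49.trM, Matrix.transpose_add, Matrix.transpose_one, Matrix.transpose_vecMulVec,
      Matrix.neg_vecMulVec, Matrix.vecMulVec_neg]
  · rintro ⟨h0, hm⟩
    have h0' : φ ⬝ᵥ v = 0 := by
      rw [neg_dotProduct, neg_eq_zero, dotProduct_comm] at h0
      exact h0
    refine tv_of_mem h0' (Subgroup.mem_map_of_mem _ hm) ?_
    rw [dualHom_val, show (((H49.tr φ (-v) h0)⁻¹ : GL ι F) : Matrix ι ι F) = H49.trM φ (- -v) from rfl,
      neg_neg, H49.trM, H49.trM, Matrix.transpose_add, Matrix.transpose_one,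
      Matrix.transpose_vecMulVec]

/-- A subgroup with all elementary transvections contains `SL`. -/
theorem sl_le_of_tv [Nontrivial ι]
    (h : ∀ i j : ι, i ≠ j → ∀ c : F, Tv M (Pi.single i 1) (Pi.single j c)) (g : GL ι F)
    (hg : (g : Matrix ι ι F).det = 1) : g ∈ M :=
  H49.sl_le_of_elem_mem M (fun i j hij c => (h i j hij c).2) g hg

end H38
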