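import Cfsg.Prelude.Def_GeometricClasses
import Cfsg.Agent.H38.TvAlg
import Cfsg.Agent.H38.WittHerm

/-!
A group containing the unitary transvections and a non-similarity contains `SL`.
-/

set_option autoImplicit false
set_option linter.unusedSectionVars false

namespace H38

open Matrix
open scoped MatrixGroups
open Cfsg.Geo (IsUnitaryForm)

variable {ι : Type} [Fintype ι] [DecidableEq ι] {F : Type*} [Field F]

/-- The functional `x ↦ f x v` as a vector. -/
def ufv (f : (ι → F) → (ι → F) → F) (v : ι → F) : ι → F := fun j => f (Pi.single j 1) v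

/-- Isolating a vector from a submodule by the dot product. -/
theorem exists_dot_sep (K : Submodule F (ι → F)) {φ : ι → F} (h : φ ∉ K) :
    ∃ x : ι → F, φ ⬝ᵥ x ≠ 0 ∧ ∀ ψ ∈ K, ψ ⬝ᵥ x = 0 := by
  obtain ⟨g, hg, hK⟩ := Submodule.exists_dual_map_eq_bot_of_notMem h inferInstance
  have key : ∀ ψ : ι → F, ψ ⬝ᵥ (fun j => g (Pi.single j 1)) = g ψ := fun ψ => by
    conv_rhs => rw [pi_eq_sum_univ' ψ]
    simp [dotProduct]
  refine ⟨_, by rwa [key], fun ψ hψ => ?_⟩
  rw [key]
  have : g ψ ∈ K.map g := Submodule.mem_map_of_mem hψ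
  rwa [hK, Submodule.mem_bot] at this

variable {σ : F ≃+* F} {f : (ι → F) → (ι → F) → F}

section basics

variable (hf : IsUnitaryForm σ f)
include hf

theorem uf_add_right (v x y : ι → F) : f v (x + y) = f v x + f v y := by
  rw [hf.herm, hf.add_left, map_add, ← hf.herm, ← hf.herm]

theorem uf_smul_right (c : F) (v x : ι → F) : f v (c • x) = σ c * f v x := by
  rw [hf.herm, hf.smul_left, map_mul, ← hf.herm]

theorem uf_zero_left (x : ι → F) : f 0 x = 0 := by
  have := hf.smul_left 0 0 x
  simpa using this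

theorem uf_zero_right (x : ι → F) : f x 0 = 0 := by
  rw [hf.herm, uf_zero_left hf, map_zero]

theorem ufv_dot (v x : ι → F) : ufv f v ⬝ᵥ x = f x v := by
  let L : (ι → F) →ₗ[F] F :=
    { toFun := fun x => f x v, map_add' := fun a b => hf.add_left a b v,
      map_smul' := fun c a => hf.smul_left c a v }
  show _ = L x
  conv_rhs => rw [pi_eq_sum_univ' x]
  simp [dotProduct, ufv, mul_comm]
  rfl

theorem ufv_add (v w : ι → F) : ufv f (v + w) = ufv f v + ufv f w :=
  funext fun j => uf_add_right hf _ v w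

theorem ufv_smul (c : F) (v : ι → F) : ufv f (c • v) = σ c • ufv f v :=
  funext fun j => uf_smul_right hf c _ v

theorem ufv_injective : Function.Injective (ufv f) := by
  intro v w h
  by_contra hne
  obtain ⟨x, hx⟩ := (hf.nondegenerate (v - w) (sub_ne_zero.2 hne)).1
  apply hx
  rw [sub_eq_add_neg, ← neg_one_smul F w, uf_add_right hf, uf_smul_right hf, ← ufv_dot hf,
    ← ufv_dot hf, h, map_neg, map_one]
  ring

theorem ufv_surjective [Finite F] : Function.Surjective (ufv f) :=
  (Finite.injective_iff_bijective.1 (ufv_injective hf)).2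

theorem ufv_ne_zero {v : ι → F} (hv : v ≠ 0) : ufv f v ≠ 0 := fun h => hv (ufv_injective hf (by
  rw [h]; funext j; exact (uf_zero_right hf _).symm))

theorem sigma_ne : (σ : F →+* F) ≠ RingHom.id F := fun h =>
  hf.ne_refl (RingEquiv.ext fun a => RingHom.congr_fun h a)

theorem exists_anti : ∃ s : F, s ≠ 0 ∧ σ s = -s := by
  by_contra h
  push Not at h
  apply hf.ne_refl
  ext a
  by_contra ha
  exact h (a - σ a) (sub_ne_zero.2 (Ne.symm ha)) (by rw [map_sub, hf.involutive]; ring)

/-- Isotropic vectors with three prescribed values. -/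
theorem exists_iso_three [Finite F] (hn : 7 ≤ Fintype.card ι) (a b c : ι → F)
    (hind : ∀ r s t : F, r • a + s • b + t • c = 0 → r = 0 ∧ s = 0 ∧ t = 0) (x₁ x₂ x₃ : F) :
    ∃ y, f y y = 0 ∧ f y a = x₁ ∧ f y b = x₂ ∧ f y c = x₃ := by
  have hdual : ∀ a b c : ι → F, (∀ r s t : F, r • a + s • b + t • c = 0 → r = 0) →
      ∃ y, f y a = 1 ∧ f y b = 0 ∧ f y c = 0 := by
    intro a b c h
    have hnot : ufv f a ∉ Submodule.span F ({ufv f b, ufv f c} : Set (ι → F)) := by
      rw [Submodule.mem_span_pair]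
      rintro ⟨r, s, hrs⟩
      have : a = σ r • b + σ s • c := ufv_injective hf (by
        rw [ufv_add hf, ufv_smul hf, ufv_smul hf, hf.involutive, hf.involutive, hrs])
      exact one_ne_zero (h 1 (-σ r) (-σ s) (by rw [this, one_smul, neg_smul, neg_smul]; abel))
    obtain ⟨y, hy, hK⟩ := exists_dot_sep _ hnot
    rw [ufv_dot hf] at hy
    have hb := hK _ (Submodule.subset_span (Set.mem_insert _ _))
    have hc := hK _ (Submodule.subset_span (Set.mem_insert_of_mem _ rfl))
    rw [ufv_dot hf] at hb hc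
    exact ⟨(f y a)⁻¹ • y, by rw [hf.smul_left, inv_mul_cancel₀ hy],
      by rw [hf.smul_left, hb, mul_zero], by rw [hf.smul_left, hc, mul_zero]⟩
  obtain ⟨ya, a1, a2, a3⟩ := hdual a b c fun r s t h => (hind r s t h).1
  obtain ⟨yb, b1, b2, b3⟩ := hdual b a c fun r s t h => (hind s r t (by rw [← h]; abel)).2.1
  obtain ⟨yc, c1, c2, c3⟩ := hdual c a b fun r s t h => (hind s t r (by rw [← h]; abel)).2.2
  set z := x₁ • ya + x₂ • yb + x₃ • yc with hz
  let L : (ι → F) →ₗ[F] (Fin 3 → F) :=
    { toFun := fun x => ![f x a, f x b, f x c]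
      map_add' := fun x y => by simp [hf.add_left]
      map_smul' := fun r x => by simp [hf.smul_left] }
  have hker : ∀ u ∈ LinearMap.ker L, f u a = 0 ∧ f u b = 0 ∧ f u c = 0 := by
    intro u hu
    have h := LinearMap.mem_ker.1 hu
    exact ⟨congrFun h 0, congrFun h 1, congrFun h 2⟩
  obtain ⟨e, he, hee⟩ : ∃ e ∈ LinearMap.ker L, f e e ≠ 0 := by
    by_contra hall
    push Not at hall
    have htot : ∀ u ∈ LinearMap.ker L, ∀ w ∈ LinearMap.ker L, f u w = 0 := by
      intro u hu w hw
      have key : ∀ k : F, σ k * f u w + k * σ (f u w) = 0 := by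
        intro k
        have := hall (u + k • w) (add_mem hu (Submodule.smul_mem _ k hw))
        rw [hf.add_left, uf_add_right hf, uf_add_right hf, hf.smul_left, hf.smul_left,
          uf_smul_right hf, uf_smul_right hf, hall u hu, hall w hw, hf.herm w u] at this
        linear_combination this
      by_contra hne
      apply hf.ne_refl
      ext k
      have h1 := key 1
      rw [map_one] at h1
      have : (σ k - k) * f u w = 0 := by linear_combination key k - k * h1
      exact sub_eq_zero.1 ((mul_eq_zero.1 this).resolve_right hne)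
    let S := Submodule.span F (Set.range ![ufv f a, ufv f b, ufv f c])
    have hmem : ∀ u ∈ LinearMap.ker L, ufv f u ∈ S := by
      intro u hu
      by_contra hnm
      obtain ⟨x, hx, hK⟩ := exists_dot_sep S hnm
      have h1 := hK _ (Submodule.subset_span ⟨0, rfl⟩)
      have h2 := hK _ (Submodule.subset_span ⟨1, rfl⟩)
      have h3 := hK _ (Submodule.subset_span ⟨2, rfl⟩)
      simp only [Matrix.cons_val_zero, Matrix.cons_val_one, Matrix.cons_val, ufv_dot hf] at h1 h2 h3
      have hxL : x ∈ LinearMap.ker L := by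
        rw [LinearMap.mem_ker]
        funext i
        fin_cases i <;> simp [L, h1, h2, h3]
      exact hx (by rw [ufv_dot hf, htot x hxL u hu])
    have hcard := Nat.card_le_card_of_injective
      (fun u : LinearMap.ker L => (⟨ufv f u, hmem u u.2⟩ : S))
      fun u w h => Subtype.ext (ufv_injective hf (congrArg Subtype.val h))
    rw [Module.natCard_eq_pow_finrank (K := F), Module.natCard_eq_pow_finrank (K := F) (V := S)]
      at hcard
    have h4 := (Nat.pow_le_pow_iff_right (Finite.one_lt_card (α := F))).1 hcard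
    have h5 : Module.finrank F S ≤ 3 := (finrank_range_le_card _).trans_eq (Fintype.card_fin 3)
    have h6 := L.finrank_range_add_finrank_ker
    have h7 : Module.finrank F (LinearMap.range L) ≤ 3 :=
      (Submodule.finrank_le _).trans_eq (by rw [Module.finrank_fintype_fun_eq_card, Fintype.card_fin])
    rw [Module.finrank_fintype_fun_eq_card] at h6
    omega
  obtain ⟨e1, e2, e3⟩ := hker e he
  have hee' : σ (f e e) = f e e := (hf.herm e e).symm
  set k := f z e / f e e with hk
  set z' := z + (-k) • e with hz'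
  have hz'e : f z' e = 0 := by
    rw [hz', hf.add_left, hf.smul_left, hk]
    field_simp
    ring
  obtain ⟨l, hl⟩ := exists_norm_eq (σ := (σ : F →+* F)) (sigma_ne hf) hf.involutive
    (μ := -f z' z' / f e e) (by
      show σ _ = _
      rw [map_div₀, map_neg, hee', ← hf.herm])
  refine ⟨z' + l • e, ?_, ?_, ?_, ?_⟩
  · have hl' : σ l * l = -f z' z' / f e e := hl
    clear_value z'
    rw [hf.add_left, uf_add_right hf, uf_add_right hf, hf.smul_left, hf.smul_left,
      uf_smul_right hf, uf_smul_right hf, hf.herm e z', hz'e, map_zero]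
    rw [eq_div_iff hee] at hl'
    linear_combination hl'
  all_goals
    rw [hz', hz]
    simp only [hf.add_left, hf.smul_left, a1, a2, a3, b1, b2, b3, c1, c2, c3, e1, e2, e3]
    ring

theorem exists_iso_two [Finite F] (hn : 7 ≤ Fintype.card ι) (a b : ι → F)
    (hind : ∀ r s : F, r • a + s • b = 0 → r = 0 ∧ s = 0) (x₁ x₂ : F) :
    ∃ y, f y y = 0 ∧ f y a = x₁ ∧ f y b = x₂ ∧ y ≠ 0 := by
  obtain ⟨c, hc⟩ : ∃ c, c ∉ Submodule.span F (Set.range ![a, b]) := by
    by_contra h
    push Not at h
    have h1 : Module.finrank F (Submodule.span F (Set.range ![a, b])) ≤ 2 :=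
      (finrank_range_le_card _).trans_eq (Fintype.card_fin 2)
    rw [show Submodule.span F (Set.range ![a, b]) = ⊤ from eq_top_iff.2 fun x _ => h x, finrank_top,
      Module.finrank_fintype_fun_eq_card] at h1
    omega
  obtain ⟨y, h0, h1, h2, h3⟩ := exists_iso_three hf hn a b c (fun r s t h => by
    by_cases ht : t = 0
    · rw [ht, zero_smul, add_zero] at h
      exact ⟨(hind r s h).1, (hind r s h).2, ht⟩
    · exfalso
      apply hc
      have : c = (-t⁻¹ * r) • a + (-t⁻¹ * s) • b := by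
        have h' := congrArg (fun x => t⁻¹ • x) h
        simp only [smul_add, smul_smul, smul_zero, inv_mul_cancel₀ ht, one_smul] at h'
        rw [neg_mul, neg_mul, neg_smul, neg_smul, ← neg_add, eq_neg_iff_add_eq_zero, ← h']
        abel
      rw [this]
      exact add_mem (Submodule.smul_mem _ _ (Submodule.subset_span ⟨0, rfl⟩))
        (Submodule.smul_mem _ _ (Submodule.subset_span ⟨1, rfl⟩))) x₁ x₂ 1
  exact ⟨y, h0, h1, h2, fun hy => by rw [hy, uf_zero_left hf] at h3; exact zero_ne_one h3⟩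

theorem exists_iso_one [Finite F] (hn : 7 ≤ Fintype.card ι) {a : ι → F} (ha : a ≠ 0) (x : F) :
    ∃ y, f y y = 0 ∧ f y a = x := by
  obtain ⟨b, hb⟩ : ∃ b, b ∉ Submodule.span F (Set.range ![a]) := by
    by_contra h
    push Not at h
    have h1 : Module.finrank F (Submodule.span F (Set.range ![a])) ≤ 1 :=
      (finrank_range_le_card _).trans_eq (Fintype.card_fin 1)
    rw [show Submodule.span F (Set.range ![a]) = ⊤ from eq_top_iff.2 fun x _ => h x, finrank_top,
      Module.finrank_fintype_fun_eq_card] at h1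
    omega
  obtain ⟨y, h0, h1, -, -⟩ := exists_iso_two hf hn a b (fun r s h => by
    by_cases hs : s = 0
    · rw [hs, zero_smul, add_zero, smul_eq_zero] at h
      exact ⟨h.resolve_right ha, hs⟩
    · exfalso
      apply hb
      have : b = (-s⁻¹ * r) • a := by
        have h' := congrArg (fun x => s⁻¹ • x) h
        simp only [smul_add, smul_smul, smul_zero, inv_mul_cancel₀ hs, one_smul] at h'
        rw [neg_mul, neg_smul, eq_neg_iff_add_eq_zero, ← h']
        abel
      rw [this]
      exact Submodule.smul_mem _ _ (Submodule.subset_span ⟨0, rfl⟩)) x 0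
  exact ⟨y, h0, h1⟩

theorem exists_link [Finite F] (hn : 7 ≤ Fintype.card ι) {v y : ι → F} (hv : v ≠ 0) (hy : y ≠ 0) :
    ∃ u, f u u = 0 ∧ f u v ≠ 0 ∧ f u y ≠ 0 := by
  by_cases hd : ∃ c : F, y = c • v
  · obtain ⟨c, rfl⟩ := hd
    obtain ⟨u, h0, h1⟩ := exists_iso_one hf hn hv 1
    refine ⟨u, h0, by rw [h1]; exact one_ne_zero, ?_⟩
    rw [uf_smul_right hf, h1, mul_one]
    intro hc
    exact hy (by rw [(map_eq_zero σ).1 hc, zero_smul])
  · push Not at hd
    obtain ⟨u, h0, h1, h2, -⟩ := exists_iso_two hf hn v y (fun r s h => by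
      by_cases hs : s = 0
      · rw [hs, zero_smul, add_zero, smul_eq_zero] at h
        exact ⟨h.resolve_right hv, hs⟩
      · exfalso
        apply hd (-s⁻¹ * r)
        have h' := congrArg (fun x => s⁻¹ • x) h
        simp only [smul_add, smul_smul, smul_zero, inv_mul_cancel₀ hs, one_smul] at h'
        rw [neg_mul, neg_smul, eq_neg_iff_add_eq_zero, ← h']
        abel) 1 1
    exact ⟨u, h0, by rw [h1]; exact one_ne_zero, by rw [h2]; exact one_ne_zero⟩

end basics

section overgroup

variable [Finite F] (hf : IsUnitaryForm σ f) (hn : 7 ≤ Fintype.card ι) {M : Subgroup (GL ι F)}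
  {s₀ : F} (hs₀ : s₀ ≠ 0)
  (hU : ∀ z : ι → F, f z z = 0 → Tv M z (s₀ • ufv f z))

/-- All transvections with centre `v`. -/
def FullCentre (M : Subgroup (GL ι F)) (v : ι → F) : Prop := ∀ φ, φ ⬝ᵥ v = 0 → Tv M v φ

include hf hn hs₀ hU

theorem full_of_core {v w : ι → F} (hv : f v v = 0) (hv0 : v ≠ 0) (h : Tv M v (ufv f w))
    (hw : ∀ c : F, w ≠ c • v) : FullCentre M v := by
  have hvw : f v w = 0 := by rw [← ufv_dot hf]; exact h.orth
  have hwv : f w v = 0 := by rw [hf.herm, hvw, map_zero]
  have ind2 : ∀ r s : F, r • v + s • w = 0 → r = 0 ∧ s = 0 := by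
    intro r s hrs
    by_cases hs : s = 0
    · rw [hs, zero_smul, add_zero, smul_eq_zero] at hrs
      exact ⟨hrs.resolve_right hv0, hs⟩
    · exfalso
      apply hw (-s⁻¹ * r)
      have h' := congrArg (fun x => s⁻¹ • x) hrs
      simp only [smul_add, smul_smul, smul_zero, inv_mul_cancel₀ hs, one_smul] at h'
      rw [neg_mul, neg_smul, eq_neg_iff_add_eq_zero, ← h']
      abel
  obtain ⟨z₁, z1i, z1v, z1w, -⟩ := exists_iso_two hf hn v w ind2 0 1
  have ind3 : ∀ r s t : F, r • v + s • w + t • z₁ = 0 → r = 0 ∧ s = 0 ∧ t = 0 := by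
    intro r s t h3
    have a1 : f (r • v + s • w + t • z₁) z₁ = 0 := by rw [h3, uf_zero_left hf]
    have a2 : f (r • v + s • w + t • z₁) w = 0 := by rw [h3, uf_zero_left hf]
    rw [hf.add_left, hf.add_left, hf.smul_left, hf.smul_left, hf.smul_left, z1i,
      hf.herm v z₁, z1v, map_zero, hf.herm w z₁, z1w, map_one] at a1
    rw [hf.add_left, hf.add_left, hf.smul_left, hf.smul_left, hf.smul_left, z1w, hvw] at a2
    have hs : s = 0 := by simpa using a1
    have ht : t = 0 := by rw [hs] at a2; simpa using a2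
    refine ⟨?_, hs, ht⟩
    rw [hs, ht, zero_smul, zero_smul, add_zero, add_zero, smul_eq_zero] at h3
    exact h3.resolve_right hv0
  obtain ⟨z₂, z2i, z2v, z2w, z2z⟩ := exists_iso_three hf hn v w z₁ ind3 0 1 1
  let Q : Submodule F (ι → F) :=
    { carrier := {φ | ∀ a : F, Tv M v (a • φ)}
      zero_mem' := fun a => by rw [smul_zero]; exact tv_zero v
      add_mem' := fun {φ ψ} h1 h2 a => by rw [smul_add]; exact tv_add (h1 a) (h2 a)
      smul_mem' := fun c φ h1 a => by rw [smul_smul]; exact h1 _ }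
  -- from any good z, everything orthogonal
  have chain : ∀ z y : ι → F, f z z = 0 → f z v = 0 → f z w = 1 → f y y = 0 → f y v = 0 →
      f y z = 1 → ufv f y ∈ Q := by
    intro z y hzi hzv hzw hyi hyv hyz a
    have hvz : f v z = 0 := by rw [hf.herm, hzv, map_zero]
    have hvy : f v y = 0 := by rw [hf.herm, hyv, map_zero]
    have h1 : Tv M v (s₀ • ufv f z) := by
      have := tv_comm h (hU z hzi) (by rw [smul_dotProduct, ufv_dot hf, hvz, smul_zero])
      rwa [ufv_dot hf, hzw, one_smul] at this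
    obtain ⟨z', z'i, z'v, z'z, z'y⟩ := exists_iso_three hf hn v z y (fun r s t h3 => by
      have a1 : f (r • v + s • z + t • y) z = 0 := by rw [h3, uf_zero_left hf]
      rw [hf.add_left, hf.add_left, hf.smul_left, hf.smul_left, hf.smul_left, hvz, hzi, hyz] at a1
      have ht : t = 0 := by simpa using a1
      rw [ht, zero_smul, add_zero] at h3
      have a2 : f (r • v + s • z) w = 0 := by rw [h3, uf_zero_left hf]
      rw [hf.add_left, hf.smul_left, hf.smul_left, hvw, hzw] at a2
      have hs : s = 0 := by simpa using a2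
      rw [hs, zero_smul, add_zero, smul_eq_zero] at h3
      exact ⟨h3.resolve_right hv0, hs, ht⟩) 0 (a / (s₀ * s₀ * s₀)) 1
    have h2 := tv_comm h1 (hU z' z'i) (by
      rw [smul_dotProduct, ufv_dot hf, hf.herm, z'v, map_zero, smul_zero])
    rw [smul_dotProduct, ufv_dot hf, z'z, smul_eq_mul, smul_smul] at h2
    have h3 := tv_comm h2 (hU y hyi) (by rw [smul_dotProduct, ufv_dot hf, hvy, smul_zero])
    rw [smul_dotProduct, ufv_dot hf, hf.herm y z', z'y, map_one, smul_eq_mul, smul_smul] at h3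
    convert h3 using 2
    field_simp
  intro φ hφ
  suffices φ ∈ Q by simpa using this 1
  by_contra hnm
  obtain ⟨x, hx, hK⟩ := exists_dot_sep Q hnm
  have hxv : ∀ c : F, x ≠ c • v := fun c hc => hx (by rw [hc, dotProduct_smul, hφ, smul_zero])
  -- one of z₁, z₂ is independent of v, x
  obtain ⟨z, hzi, hzv, hzw, hind⟩ : ∃ z, f z z = 0 ∧ f z v = 0 ∧ f z w = 1 ∧
      ∀ r s t : F, r • v + s • x + t • z = 0 → r = 0 ∧ s = 0 ∧ t = 0 := by
    by_contra hcon
    push Not at hcon
    have key : ∀ z, f z v = 0 → f z w = 1 → f z z = 0 →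
        ∃ r' t' : F, x = r' • v + t' • z := by
      intro z hzv hzw hzi
      obtain ⟨r, s, t, he, hne⟩ := hcon z hzi hzv hzw
      have hs : s ≠ 0 := by
        intro hs
        rw [hs, zero_smul, add_zero] at he
        have a2 : f (r • v + t • z) w = 0 := by rw [he, uf_zero_left hf]
        rw [hf.add_left, hf.smul_left, hf.smul_left, hvw, hzw] at a2
        have ht : t = 0 := by simpa using a2
        rw [ht, zero_smul, add_zero, smul_eq_zero] at he
        exact hne (he.resolve_right hv0) hs ht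
      refine ⟨-s⁻¹ * r, -s⁻¹ * t, ?_⟩
      have h' := congrArg (fun x => s⁻¹ • x) he
      simp only [smul_add, smul_smul, smul_zero, inv_mul_cancel₀ hs, one_smul] at h'
      rw [neg_mul, neg_mul, neg_smul, neg_smul, ← neg_add, eq_neg_iff_add_eq_zero, ← h']
      abel
    obtain ⟨r1, t1, e1⟩ := key z₁ z1v z1w z1i
    obtain ⟨r2, t2, e2⟩ := key z₂ z2v z2w z2i
    have a1 : f x z₁ = r1 * f v z₁ + t1 * f z₁ z₁ := by
      rw [e1, hf.add_left, hf.smul_left, hf.smul_left]
    have a2 : f x z₁ = r2 * f v z₁ + t2 * f z₂ z₁ := by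
      rw [e2, hf.add_left, hf.smul_left, hf.smul_left]
    rw [hf.herm v z₁, z1v, map_zero, z1i] at a1
    rw [hf.herm v z₁, z1v, map_zero, z2z, a1] at a2
    have ht : t2 = 0 := by simpa using a2.symm
    exact hxv r2 (by rw [e2, ht, zero_smul, add_zero])
  obtain ⟨y, hyi, hyv, hyx, hyz⟩ := exists_iso_three hf hn v x z hind 0 1 1
  have := hK _ (chain z y hzi hzv hzw hyi hyv hyz)
  rw [ufv_dot hf, hf.herm, hyx, map_one] at this
  exact one_ne_zero this

theorem full_of_full {v y : ι → F} (hvF : FullCentre M v) (hy : f y y = 0) (hvy : f v y ≠ 0)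
    (hv : f v v = 0) : FullCentre M y := by
  have hy0 : y ≠ 0 := fun h => hvy (by rw [h, uf_zero_right hf])
  have hyv : f y v ≠ 0 := fun h => hvy (by rw [hf.herm, h, map_zero])
  obtain ⟨p, -, p1, p2, hp0⟩ := exists_iso_two hf hn v y (fun r s hrs => by
    have a1 : f (r • v + s • y) v = 0 := by rw [hrs, uf_zero_left hf]
    have a2 : f (r • v + s • y) y = 0 := by rw [hrs, uf_zero_left hf]
    rw [hf.add_left, hf.smul_left, hf.smul_left, hv] at a1
    rw [hf.add_left, hf.smul_left, hf.smul_left, hy] at a2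
    simp [hyv] at a1
    simp [hvy] at a2
    exact ⟨a2, a1⟩) 0 0
  have hk : s₀ * f v y ≠ 0 := mul_ne_zero hs₀ hvy
  have h1 : Tv M v ((s₀ * f v y)⁻¹ • ufv f p) := hvF _ (by
    rw [smul_dotProduct, ufv_dot hf, hf.herm v p, p1, map_zero, smul_zero])
  have h2 := tv_comm_left h1 (hU y hy) (by
    rw [smul_dotProduct, ufv_dot hf, hf.herm y p, p2, map_zero, smul_zero])
  rw [smul_dotProduct, ufv_dot hf, smul_eq_mul] at h2
  have h3 := tv_smul h2 hk
  rw [smul_smul, mul_inv_cancel₀ hk, one_smul] at h3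
  refine full_of_core hf hn hs₀ hU hy hy0 h3 fun c hc => hp0 ?_
  have : f p v = c * f y v := by rw [hc, hf.smul_left]
  rw [p1] at this
  rw [hc, (mul_eq_zero.1 this.symm).resolve_right hyv, zero_smul]

theorem sl_le_of_full {v : ι → F} (hvF : FullCentre M v) (hv : f v v = 0) (hv0 : v ≠ 0)
    (g : GL ι F) (hg : (g : Matrix ι ι F).det = 1) : g ∈ M := by
  have hall : ∀ y, f y y = 0 → y ≠ 0 → FullCentre M y := by
    intro y hy hy0
    obtain ⟨u, hu, huv, huy⟩ := exists_link hf hn hv0 hy0
    exact full_of_full hf hn hs₀ hU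
      (full_of_full hf hn hs₀ hU hvF hu (fun h => huv (by rw [hf.herm, h, map_zero])) hv) hy huy hu
  haveI : Nontrivial ι := Fintype.one_lt_card_iff_nontrivial.1 (by omega)
  refine sl_le_of_tv (fun i j hij c => ?_) g hg
  set φ : ι → F := Pi.single j c
  by_cases hφ0 : φ = 0
  · rw [hφ0]; exact tv_zero _
  obtain ⟨w, hw⟩ := ufv_surjective hf φ
  have hw0 : w ≠ 0 := fun h => hφ0 (by rw [← hw, h]; funext k; exact uf_zero_right hf _)
  let C : Submodule F (ι → F) :=
    { carrier := {u | ∀ a : F, Tv M u (a • φ)}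
      zero_mem' := fun a => tv_of_mem (dotProduct_zero _) M.one_mem (by
        rw [Units.val_one, H49.trM, Matrix.zero_vecMulVec, add_zero])
      add_mem' := fun {u u'} h1 h2 a => tv_add_left (h1 a) (h2 a)
      smul_mem' := fun b u h1 a => by
        by_cases hb : b = 0
        · refine tv_of_mem (by simp [hb]) M.one_mem ?_
          rw [Units.val_one, H49.trM, hb, zero_smul, Matrix.zero_vecMulVec, add_zero]
        · refine tv_smul' ?_ hb
          rw [smul_smul]
          exact h1 _ }
  suffices (Pi.single i 1 : ι → F) ∈ C by simpa using this 1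
  by_contra hnm
  obtain ⟨ψ, hψ, hK⟩ := exists_dot_sep C hnm
  obtain ⟨x, hx⟩ := ufv_surjective hf ψ
  have hφu : φ ⬝ᵥ (Pi.single i 1 : ι → F) = 0 := by simp [φ, hij]
  obtain ⟨y, hyi, hyw, hyx, hy0⟩ := exists_iso_two hf hn w x (fun r s hrs => by
    have e : ufv f (r • w + s • x) = σ r • φ + σ s • ψ := by
      rw [ufv_add hf, ufv_smul hf, ufv_smul hf, hw, hx]
    rw [hrs] at e
    have h0 : ufv f (0 : ι → F) = 0 := funext fun k => uf_zero_right hf _
    rw [h0] at e
    have := congrArg (fun t => t ⬝ᵥ (Pi.single i 1 : ι → F)) e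
    simp only [zero_dotProduct, add_dotProduct, smul_dotProduct, hφu, smul_eq_mul, mul_zero,
      zero_add] at this
    rw [dotProduct_comm] at hψ
    have hs : s = 0 := (map_eq_zero σ).1 ((mul_eq_zero.1 this.symm).resolve_right hψ)
    rw [hs, zero_smul, add_zero, smul_eq_zero] at hrs
    exact ⟨hrs.resolve_right hw0, hs⟩) 0 1
  have hyC : y ∈ C := fun a => hall y hyi hy0 _ (by
    rw [smul_dotProduct, ← hw, ufv_dot hf, hyw, smul_zero])
  have := hK y hyC
  rw [dotProduct_comm, ← hx, ufv_dot hf, hyx] at this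
  exact one_ne_zero this

theorem sl_le_of_anisotropic_centre {b w : ι → F} (hb : f b b ≠ 0) (hw : w ≠ 0)
    (h : Tv M b (ufv f w)) (g : GL ι F) (hg : (g : Matrix ι ι F).det = 1) : g ∈ M := by
  have hbw : f b w = 0 := by rw [← ufv_dot hf]; exact h.orth
  obtain ⟨y, hyi, hyw, hyb, hy0⟩ := exists_iso_two hf hn w b (fun r s hrs => by
    have a1 : f b (r • w + s • b) = 0 := by rw [hrs, uf_zero_right hf]
    rw [uf_add_right hf, uf_smul_right hf, uf_smul_right hf, hbw, mul_zero, zero_add,
      mul_eq_zero, map_eq_zero] at a1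
    have hs := a1.resolve_right hb
    rw [hs, zero_smul, add_zero, smul_eq_zero] at hrs
    exact ⟨hrs.resolve_right hw, hs⟩) 0 1
  have h1 := tv_comm (hU y hyi) h (by rw [ufv_dot hf, hyw])
  rw [smul_dotProduct, ufv_dot hf, hf.herm b y, hyb, map_one, smul_eq_mul, mul_one,
    ← hf.involutive s₀, ← ufv_smul hf] at h1
  refine sl_le_of_full hf hn hs₀ hU (full_of_core hf hn hs₀ hU hyi hy0 h1 fun c hc => ?_) hyi hy0
    g hg
  have : f b (σ s₀ • w) = f b (c • y) := by rw [hc]
  rw [uf_smul_right hf, uf_smul_right hf, hbw, mul_zero, hf.herm b y, hyb, map_one, mul_one] at this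
  rw [(map_eq_zero σ).1 this.symm, zero_smul, smul_eq_zero, map_eq_zero] at hc
  exact hc.elim hs₀ hw

/-- One transvection that is not unitary suffices. -/
theorem sl_le_of_nonunitary_tv {b ψ : ι → F} (hb : b ≠ 0) (hψ : ψ ≠ 0) (h : Tv M b ψ)
    (hne : ¬ (f b b = 0 ∧ ∃ t : F, σ t = -t ∧ ψ = t • ufv f b))
    (g : GL ι F) (hg : (g : Matrix ι ι F).det = 1) : g ∈ M := by
  obtain ⟨w, rfl⟩ := ufv_surjective hf ψ
  have hw : w ≠ 0 := fun h0 => hψ (by rw [h0]; funext k; exact uf_zero_right hf _)
  by_cases hbb : f b b = 0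
  swap
  · exact sl_le_of_anisotropic_centre hf hn hs₀ hU hbb hw h g hg
  by_cases hwb : ∀ c : F, w ≠ c • b
  · exact sl_le_of_full hf hn hs₀ hU (full_of_core hf hn hs₀ hU hbb hb h hwb) hbb hb g hg
  push Not at hwb
  obtain ⟨a, rfl⟩ := hwb
  have ha : a + σ a ≠ 0 := fun ha => hne ⟨hbb, σ a,
    by rw [hf.involutive]; linear_combination ha, ufv_smul hf a b⟩
  obtain ⟨z, hzi, hzb⟩ := exists_iso_one hf hn hb 1
  obtain ⟨h0, hm⟩ := h
  have h' := tv_conj hm (hU z hzi)
  rw [H49.tr_mulVec, ufv_dot hf, uf_smul_right hf, hzb, mul_one] at h'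
  have hz' : f (z + σ a • b) (z + σ a • b) ≠ 0 := by
    rw [hf.add_left, uf_add_right hf, uf_add_right hf, hf.smul_left, hf.smul_left,
      uf_smul_right hf, uf_smul_right hf, hf.involutive, hzi, hzb, hf.herm b z, hzb, map_one, hbb]
    simpa using ha
  obtain ⟨w', hw'⟩ := ufv_surjective hf
    ((s₀ • ufv f z) ᵥ* (((H49.tr b (ufv f (a • b)) h0)⁻¹ : GL ι F) : Matrix ι ι F))
  rw [← hw'] at h'
  refine sl_le_of_anisotropic_centre hf hn hs₀ hU hz' (fun h00 => ?_) h' g hg
  have hzz : z ≠ 0 := fun hz0 => by rw [hz0, uf_zero_left hf] at hzb; exact zero_ne_one hzb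
  rw [h00, show ufv f (0 : ι → F) = 0 from funext fun k => uf_zero_right hf _] at hw'
  have := congrArg (fun t => t ᵥ* (H49.tr b (ufv f (a • b)) h0 : Matrix ι ι F)) hw'
  simp only [Matrix.zero_vecMul, Matrix.vecMul_vecMul, ← Units.val_mul, inv_mul_cancel,
    Units.val_one, Matrix.vecMul_one] at this
  exact smul_ne_zero hs₀ (ufv_ne_zero hf hzz) this.symm

end overgroup

end H38
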