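import Cfsg.Agent.H51.StabMaxU
import Cfsg.Agent.H38.UnitaryTv
import Cfsg.Agent.H38.SL2BigUnip

/-!
A rational structure of odd prime codegree for the standard unitary form: generation by the
transvections with rational centres.
-/

set_option autoImplicit false
set_option linter.unusedSectionVars false

namespace H38

open Matrix Cfsg H50
open scoped MatrixGroups
open H51.StabMax (IsCtr)

/-- Isotropic vectors orthogonal to a small totally isotropic subspace, outside it. -/
theorem exists_iso_extend {ι : Type} [Fintype ι] [DecidableEq ι] {K : Type*} [Field K] [Finite K]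
    {σ : K ≃+* K} {f : (ι → K) → (ι → K) → K} (hf : Cfsg.Geo.IsUnitaryForm σ f)
    (W : Submodule K (ι → K)) (hW : ∀ a ∈ W, ∀ b ∈ W, f a b = 0)
    (hdim : 2 * Module.finrank K W + 2 ≤ Fintype.card ι) :
    ∃ v, f v v = 0 ∧ (∀ w ∈ W, f v w = 0) ∧ v ∉ W := by
  set k := Module.finrank K W with hk
  let b := Module.finBasis K W
  let L : (ι → K) →ₗ[K] (Fin k → K) :=
    { toFun := fun x i => f x (b i : ι → K)
      map_add' := fun x y => funext fun i => hf.add_left x y _
      map_smul' := fun c x => funext fun i => hf.smul_left c x _ }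
  have hU : ∀ x ∈ LinearMap.ker L, ∀ w ∈ W, f x w = 0 := by
    intro x hx w hw
    have hw' : w = ∑ i, b.repr ⟨w, hw⟩ i • (b i : ι → K) := by
      conv_lhs => rw [← Subtype.coe_mk w hw, ← b.sum_repr ⟨w, hw⟩]
      simp [-Module.Basis.sum_repr]
    have := map_sum (AddMonoidHom.mk' (fun y => f x y) fun y z => uf_add_right hf x y z)
      (fun i => b.repr ⟨w, hw⟩ i • (b i : ι → K)) Finset.univ
    simp only [AddMonoidHom.mk'_apply] at this
    rw [hw', this]
    refine Finset.sum_eq_zero fun i _ => ?_
    rw [uf_smul_right hf, show f x (b i : ι → K) = 0 from congrFun (LinearMap.mem_ker.1 hx) i,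
      mul_zero]
  have hrn : Fintype.card ι ≤ k + Module.finrank K (LinearMap.ker L) := by
    have h6 := L.finrank_range_add_finrank_ker
    have h7 : Module.finrank K (LinearMap.range L) ≤ k :=
      (Submodule.finrank_le _).trans_eq (by rw [Module.finrank_fintype_fun_eq_card, Fintype.card_fin])
    rw [Module.finrank_fintype_fun_eq_card] at h6
    omega
  obtain ⟨e, he, hee⟩ : ∃ e ∈ LinearMap.ker L, f e e ≠ 0 := by
    by_contra hall
    push Not at hall
    have htot : ∀ u ∈ LinearMap.ker L, ∀ w ∈ LinearMap.ker L, f u w = 0 := by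
      intro u hu w hw
      have key : ∀ c : K, σ c * f u w + c * σ (f u w) = 0 := by
        intro c
        have := hall (u + c • w) (add_mem hu (Submodule.smul_mem _ c hw))
        rw [hf.add_left, uf_add_right hf, uf_add_right hf, hf.smul_left, hf.smul_left,
          uf_smul_right hf, uf_smul_right hf, hall u hu, hall w hw, hf.herm w u] at this
        linear_combination this
      by_contra hne
      apply hf.ne_refl
      ext c
      have h1 := key 1
      rw [map_one] at h1
      have : (σ c - c) * f u w = 0 := by linear_combination key c - c * h1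
      exact sub_eq_zero.1 ((mul_eq_zero.1 this).resolve_right hne)
    let S := Submodule.span K (Set.range fun i => ufv f (b i : ι → K))
    have hmem : ∀ u ∈ LinearMap.ker L, ufv f u ∈ S := by
      intro u hu
      by_contra hnm
      obtain ⟨x, hx, hK⟩ := exists_dot_sep S hnm
      have hxL : x ∈ LinearMap.ker L := by
        rw [LinearMap.mem_ker]
        funext i
        have := hK _ (Submodule.subset_span ⟨i, rfl⟩)
        rwa [ufv_dot hf] at this
      exact hx (by rw [ufv_dot hf, htot x hxL u hu])
    have hcard := Nat.card_le_card_of_injective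
      (fun u : LinearMap.ker L => (⟨ufv f u, hmem u u.2⟩ : S))
      fun u w h => Subtype.ext (ufv_injective hf (congrArg Subtype.val h))
    rw [Module.natCard_eq_pow_finrank (K := K), Module.natCard_eq_pow_finrank (K := K) (V := S)]
      at hcard
    have h4 := (Nat.pow_le_pow_iff_right (Finite.one_lt_card (α := K))).1 hcard
    have h5 : Module.finrank K S ≤ k := (finrank_range_le_card _).trans_eq (Fintype.card_fin k)
    omega
  let fe : (ι → K) →ₗ[K] K :=
    { toFun := fun x => f x e, map_add' := fun x y => hf.add_left x y e,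
      map_smul' := fun c x => hf.smul_left c x e }
  let L2 := L.prod fe
  obtain ⟨z, hz, hzW⟩ : ∃ z ∈ LinearMap.ker L2, z ∉ W := by
    by_contra hc
    push Not at hc
    have hle : Module.finrank K (LinearMap.ker L2) ≤ k := Submodule.finrank_mono hc
    have h6 := L2.finrank_range_add_finrank_ker
    have h7 : Module.finrank K (LinearMap.range L2) ≤ k + 1 :=
      (Submodule.finrank_le _).trans_eq (by
        rw [Module.finrank_prod, Module.finrank_fintype_fun_eq_card, Fintype.card_fin,
          Module.finrank_self])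
    rw [Module.finrank_fintype_fun_eq_card] at h6
    omega
  have hz' := LinearMap.mem_ker.1 hz
  have hze : f z e = 0 := congrArg Prod.snd hz'
  have hzL : z ∈ LinearMap.ker L := LinearMap.mem_ker.2 (congrArg Prod.fst hz')
  have hee' : σ (f e e) = f e e := (hf.herm e e).symm
  obtain ⟨l, hl⟩ := exists_norm_eq (σ := (σ : K →+* K)) (sigma_ne hf) hf.involutive
    (μ := -f z z / f e e) (by
      show σ _ = _
      rw [map_div₀, map_neg, hee', ← hf.herm])
  refine ⟨z + l • e, ?_, fun w hw => ?_, fun hmem => ?_⟩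
  · have hl' : σ l * l = -f z z / f e e := hl
    rw [hf.add_left, uf_add_right hf, uf_add_right hf, hf.smul_left, hf.smul_left,
      uf_smul_right hf, uf_smul_right hf, hf.herm e z, hze, map_zero]
    rw [eq_div_iff hee] at hl'
    linear_combination hl'
  · rw [hf.add_left, hf.smul_left, hU z hzL w hw, hU e he w hw, mul_zero, add_zero]
  · have h0 : f e (z + l • e) = 0 := hU e he _ hmem
    rw [uf_add_right hf, uf_smul_right hf, hf.herm e z, hze, map_zero, zero_add, mul_eq_zero,
      map_eq_zero] at h0
    apply hzW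
    rw [h0.resolve_right hee, zero_smul, add_zero] at hmem
    exact hmem

namespace SubSU

variable {F : Type*} [Field F] [Fintype F] {n q : ℕ}

local notation "V" => (Fin n → F)
local notation "hh" => Cfsg.hermForm n F q

/-- Vectors with rational coordinates for the basis given by `P`. -/
def emb {F₀ : Subfield F} (P : GL (Fin n) F) (u : Fin n → F₀) : Fin n → F :=
  (P : Matrix (Fin n) (Fin n) F) *ᵥ fun i => (u i : F)

/-- A rational structure of odd prime codegree for the standard unitary form. -/
structure Setting (n q : ℕ) (F₀ : Subfield F) (P : GL (Fin n) F) : Prop where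
  hF : Fintype.card F = q ^ 2
  codeg : ∃ r : ℕ, r.Prime ∧ Odd r ∧ Nat.card F = Nat.card F₀ ^ r
  form : ∀ u v : Fin n → F₀, Cfsg.hermForm n F q (emb P u) (emb P v) ∈ F₀

variable {F₀ : Subfield F} {P : GL (Fin n) F}

theorem emb_add (u v : Fin n → F₀) : emb P (u + v) = emb P u + emb P v := by
  rw [emb, emb, emb, ← Matrix.mulVec_add]
  rfl

theorem emb_smul (c : F₀) (u : Fin n → F₀) : emb P (c • u) = (c : F) • emb P u := by
  rw [emb, emb, ← Matrix.mulVec_smul]
  rfl

theorem emb_injective : Function.Injective (emb (F₀ := F₀) P) := by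
  intro u v h
  funext i
  exact Subtype.ext (congrFun (H49.gl_mulVec_injective P h) i)

theorem emb_zero : emb P (0 : Fin n → F₀) = 0 := by
  rw [emb]
  exact Matrix.mulVec_zero _

theorem emb_ne_zero {u : Fin n → F₀} (hu : u ≠ 0) : emb P u ≠ 0 := fun h =>
  hu (emb_injective (h.trans emb_zero.symm))

theorem emb_sum (x : V) :
    ∑ i, (((P⁻¹ : GL (Fin n) F) : Matrix (Fin n) (Fin n) F) *ᵥ x) i •
      emb P (Pi.single i (1 : F₀)) = x := by
  have : ∀ i, emb P (Pi.single i (1 : F₀)) = (P : Matrix (Fin n) (Fin n) F) *ᵥ Pi.single i 1 := by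
    intro i
    rw [emb]
    congr 1
    funext j
    by_cases h : j = i <;> simp [h]
  simp only [this, ← Matrix.mulVec_smul, ← Matrix.mulVec_sum]
  rw [← pi_eq_sum_univ', H49.gl_mulVec_inv]

variable (D : Setting n q F₀ P)
include D

theorem pow_mem' {x : F} (hx : x ∈ F₀) : x ^ q ∈ F₀ := pow_mem hx q

theorem exists_moved : ∃ κ : F₀, (κ : F) ^ q ≠ κ := by
  by_contra hc
  push Not at hc
  obtain ⟨r, hr, hro, hcard⟩ := D.codeg
  let K : Subfield F :=
    { carrier := {x | x ^ q = x}
      one_mem' := one_pow q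
      mul_mem' := fun {a b} ha hb => by show (a * b) ^ q = a * b; rw [mul_pow, ha, hb]
      zero_mem' := zero_pow (q_ne_zero D.hF)
      add_mem' := fun {a b} ha hb => by show (a + b) ^ q = a + b; rw [add_pow_q D.hF, ha, hb]
      neg_mem' := fun {a} ha => by show (-a) ^ q = -a; rw [neg_pow_q D.hF, ha]
      inv_mem' := fun a ha => by show a⁻¹ ^ q = a⁻¹; rw [inv_pow, ha] }
  have hle : F₀ ≤ K := fun y hy => hc ⟨y, hy⟩
  -- an element with trace one is moved
  obtain ⟨d, hd0, hd⟩ := exists_trace_zero_ne_zero D.hF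
  by_cases hlt : Nat.card F₀ < Nat.card K
  · have htop := subfield_eq_top_of_lt hr hcard hle hlt
    have hdK : d ^ q = d := show d ∈ K from htop ▸ Subfield.mem_top d
    obtain ⟨θ, hθ⟩ := H50.exists_trace_eq D.hF (c := (1 : F)) (one_pow q)
    have hθK : θ ^ q = θ := show θ ∈ K from htop ▸ Subfield.mem_top θ
    rw [hθK] at hθ
    rw [hdK] at hd
    have : (2 : F) * d = 0 := by rw [two_mul]; exact hd
    have h2 := (mul_eq_zero.1 this).resolve_right hd0
    exact one_ne_zero (α := F) (by linear_combination θ * h2 - hθ)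
  · -- the fixed field has `q` elements
    have hKq : Nat.card K = q := by
      have e : K ≃ (traceHom D.hF).ker := by
        refine Equiv.ofBijective (fun x => ⟨(x : F) * d, ?_⟩) ⟨fun x y h => ?_, fun y => ?_⟩
        · have hx : (x : F) ^ q = x := x.2
          show (x : F) * d + ((x : F) * d) ^ q = 0
          rw [mul_pow, hx]
          linear_combination (x : F) * hd
        · exact Subtype.ext (mul_right_cancel₀ hd0 (congrArg Subtype.val h))
        · refine ⟨⟨(y : F) / d, ?_⟩, Subtype.ext ?_⟩
          · show ((y : F) / d) ^ q = (y : F) / d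
            have hy : (y : F) + (y : F) ^ q = 0 := y.2
            rw [div_pow, eq_neg_of_add_eq_zero_right hy, eq_neg_of_add_eq_zero_right hd,
              neg_div_neg_eq]
          · exact div_mul_cancel₀ _ hd0
      rw [Nat.card_congr e, card_trace_ker D.hF]
    have h1 : Nat.card F₀ = q := le_antisymm
      (hKq ▸ Nat.card_le_card_of_injective _ (Set.inclusion_injective hle))
      (hKq ▸ not_lt.1 hlt)
    rw [h1, Nat.card_eq_fintype_card, D.hF] at hcard
    have := Nat.pow_right_injective (two_le D.hF) hcard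
    subst this
    exact absurd hro (by decide)

/-- The conjugation on `F₀`. -/
noncomputable def sig : F₀ ≃+* F₀ :=
  RingEquiv.ofBijective
    ({ toFun := fun x => ⟨(x : F) ^ q, pow_mem' D x.2⟩
       map_one' := Subtype.ext (one_pow q)
       map_mul' := fun x y => Subtype.ext (mul_pow (x : F) y q)
       map_zero' := Subtype.ext (zero_pow (q_ne_zero D.hF))
       map_add' := fun x y => Subtype.ext (add_pow_q D.hF (x : F) y) } : F₀ →+* F₀)
    (Function.Involutive.bijective fun x => Subtype.ext (pow_q_pow_q D.hF (x : F)))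

theorem sig_val (x : F₀) : ((sig D x : F₀) : F) = (x : F) ^ q := rfl

/-- The form on `F₀ ^ n`. -/
def f₀ (u v : Fin n → F₀) : F₀ := ⟨_, D.form u v⟩

theorem f₀_val (u v : Fin n → F₀) : ((f₀ D u v : F₀) : F) = hh (emb P u) (emb P v) := rfl

theorem eq_zero_of_rat {x : V} (h : ∀ u : Fin n → F₀, hh (emb P u) x = 0) : x = 0 := by
  refine eq_zero_of_h_right D.hF fun y => ?_
  have key : ∀ (s : Finset (Fin n)) (c : Fin n → F),
      hh (∑ i ∈ s, c i • emb P (Pi.single i (1 : F₀))) x = 0 := by
    intro s c
    induction s using Finset.induction_on with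
    | empty => rw [Finset.sum_empty, h_zero_left]
    | insert a s ha ih => rw [Finset.sum_insert ha, h_add_left, h_smul_left, h, ih, mul_zero, add_zero]
  rw [← emb_sum (F₀ := F₀) (P := P) y]
  exact key _ _

theorem unitary₀ : Cfsg.Geo.IsUnitaryForm (sig D) (f₀ D) where
  ne_refl := fun h => by
    obtain ⟨κ, hκ⟩ := exists_moved D
    exact hκ (by rw [← sig_val D, h]; rfl)
  involutive a := Subtype.ext (pow_q_pow_q D.hF (a : F))
  add_left x y v := Subtype.ext (by
    show hh (emb P (x + y)) _ = hh _ _ + hh _ _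
    rw [emb_add, h_add_left])
  smul_left c x v := Subtype.ext (by
    show hh (emb P (c • x)) _ = (c : F) * hh _ _
    rw [emb_smul, h_smul_left])
  herm v w := Subtype.ext (h_symm D.hF (emb P w) (emb P v))
  nondegenerate := fun v hv => by
    obtain ⟨x, hx⟩ : ∃ x, hh (emb P x) (emb P v) ≠ 0 := by
      by_contra hc
      push Not at hc
      exact emb_ne_zero hv (eq_zero_of_rat D hc)
    refine ⟨⟨x, fun h => hx ?_⟩, ⟨x, fun h => hx ?_⟩⟩
    · exact congrArg Subtype.val h
    · exact (h_eq_zero_comm D.hF).1 (congrArg Subtype.val h)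

/-- Rational isotropic. -/
def RIso (_D : Setting n q F₀ P) (u : Fin n → F₀) : Prop :=
  Cfsg.hermForm n F q (emb P u) (emb P u) = 0

theorem exists_rel_iso₀ {e u : Fin n → F₀} (hn : 7 ≤ n) (he : f₀ D e e = 0) (he0 : e ≠ 0)
    (hu : f₀ D u e = 0) :
    u ∈ Submodule.span F₀ {x : Fin n → F₀ | f₀ D x x = 0 ∧ f₀ D x e = 0} := by
  by_contra hnm
  obtain ⟨ψ, hψ, hK⟩ := exists_dot_sep _ hnm
  obtain ⟨y, hy⟩ := ufv_surjective (unitary₀ D) ψ
  have hind : ∀ r s : F₀, r • e + s • y = 0 → r = 0 ∧ s = 0 := by
    intro r s hrs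
    by_cases hs : s = 0
    · rw [hs, zero_smul, add_zero, smul_eq_zero] at hrs
      exact ⟨hrs.resolve_right he0, hs⟩
    · exfalso
      apply hψ
      have h0 : f₀ D u (r • e + s • y) = 0 := by rw [hrs, uf_zero_right (unitary₀ D)]
      rw [uf_add_right (unitary₀ D), uf_smul_right (unitary₀ D), uf_smul_right (unitary₀ D), hu,
        mul_zero, zero_add, mul_eq_zero, map_eq_zero] at h0
      rw [dotProduct_comm, ← hy, ufv_dot (unitary₀ D)]
      exact h0.resolve_left hs
  obtain ⟨x, hxi, hxe, hxy, -⟩ :=
    exists_iso_two (unitary₀ D) (by rw [Fintype.card_fin]; exact hn) e y hind 0 1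
  have := hK x (Submodule.subset_span ⟨hxi, hxe⟩)
  rw [dotProduct_comm, ← hy, ufv_dot (unitary₀ D), hxy] at this
  exact one_ne_zero this

/-- Rational isotropic vectors orthogonal to a rational isotropic `e` span the rational
orthogonal complement of `e`. -/
theorem mem_span_iso {e u : Fin n → F₀} (hn : 7 ≤ n) (he : RIso D e) (he0 : e ≠ 0)
    (hu : hh (emb P u) (emb P e) = 0) (N : Submodule F V)
    (hN : ∀ x : Fin n → F₀, RIso D x → hh (emb P x) (emb P e) = 0 → emb P x ∈ N) :
    emb P u ∈ N := by
  let N₀ : Submodule F₀ (Fin n → F₀) :=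
    { carrier := {x | emb P x ∈ N}
      zero_mem' := by show emb P 0 ∈ N; rw [emb_zero]; exact N.zero_mem
      add_mem' := fun {a b} ha hb => by show emb P (a + b) ∈ N; rw [emb_add]; exact N.add_mem ha hb
      smul_mem' := fun c a ha => by show emb P (c • a) ∈ N; rw [emb_smul]; exact N.smul_mem _ ha }
  have := exists_rel_iso₀ D hn (Subtype.ext he) he0 (Subtype.ext hu)
  refine (Submodule.span_le (p := N₀)).2 ?_ this
  rintro x ⟨hx, hxe⟩
  exact hN x (congrArg Subtype.val hx) (congrArg Subtype.val hxe)

/-- All rational isotropic centres give everything. -/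
theorem eq_top_of_rat_ctr (hn : 7 ≤ n) (K : Subgroup (SU n F q))
    (h : ∀ u : Fin n → F₀, RIso D u → IsCtr K (emb P u)) : K = ⊤ := by
  have hF := D.hF
  refine H51.StabMax.eq_top_of_ctr hF (by omega) K fun z hz => ?_
  by_cases hz0 : z = 0
  · rw [hz0]; exact H51.StabMax.ctr_zero K
  -- a rational isotropic vector not orthogonal to z
  obtain ⟨e, he, hez⟩ : ∃ e, RIso D e ∧ hh z (emb P e) ≠ 0 := by
    by_contra hc
    push Not at hc
    apply hz0
    refine eq_zero_of_rat D fun u => ?_
    let N₀ : Submodule F₀ (Fin n → F₀) :=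
      { carrier := {x | hh z (emb P x) = 0}
        zero_mem' := by show hh z (emb P 0) = 0; rw [emb_zero, h_zero_right hF]
        add_mem' := fun {a b} ha hb => by
          show hh z (emb P (a + b)) = 0
          rw [emb_add, h_add_right hF, ha, hb, add_zero]
        smul_mem' := fun c a ha => by
          show hh z (emb P (c • a)) = 0
          rw [emb_smul, h_smul_right hF, ha, mul_zero] }
    refine (h_eq_zero_comm hF).1 (show u ∈ N₀ from ?_)
    by_contra hnm
    obtain ⟨ψ, hψ, hK⟩ := exists_dot_sep _ hnm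
    obtain ⟨y, hy⟩ := ufv_surjective (unitary₀ D) ψ
    have hy0 : y ≠ 0 := fun h0 => hψ (by
      rw [dotProduct_comm, ← hy, ufv_dot (unitary₀ D), h0, uf_zero_right (unitary₀ D)])
    obtain ⟨x, hx, hxy⟩ := exists_iso_one (unitary₀ D) (by rw [Fintype.card_fin]; exact hn) hy0 1
    have := hK x (hc x (congrArg Subtype.val hx))
    rw [dotProduct_comm, ← hy, ufv_dot (unitary₀ D), hxy] at this
    exact one_ne_zero this
  have he0 : e ≠ 0 := fun h0 => hez (by rw [h0, emb_zero, h_zero_right hF])
  obtain ⟨f', hfi, hfe⟩ :=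
    exists_iso_one (unitary₀ D) (by rw [Fintype.card_fin]; exact hn) he0 1
  have hE : hh (emb P f') (emb P e) = 1 := congrArg Subtype.val hfe
  have hE' : hh (emb P e) (emb P f') = 1 := by rw [h_symm hF (emb P f'), hE, one_pow]
  have hff : hh (emb P f') (emb P f') = 0 := congrArg Subtype.val hfi
  have hee : hh (emb P e) (emb P e) = 0 := he
  set E := emb P e with hEdef
  set G := emb P f' with hGdef
  -- centres on the hyperbolic line
  have hline : ∀ (β : F) (a : F), hh (β • G + a • E) (β • G + a • E) = 0 →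
      IsCtr K (β • G + a • E) := by
    intro β a hiso
    by_cases hβ : β = 0
    · rw [hβ, zero_smul, zero_add]
      exact H51.StabMax.ctr_smul hF (h e he) a
    have hanti : a / β + (a / β) ^ q = 0 := by
      rw [h_add_left, h_add_right hF, h_add_right hF, h_smul_left, h_smul_left, h_smul_right hF,
        h_smul_right hF, hff, h_smul_left, h_smul_left, h_smul_right hF, h_smul_right hF, hee, hE,
        hE'] at hiso
      have hβq : β ^ q ≠ 0 := pow_ne_zero _ hβ
      rw [div_pow]
      field_simp
      linear_combination hiso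
    have h1 := H51.StabMax.ctr_step hF (h f' hff) (h e he) hanti
    rw [hE, mul_one] at h1
    have h2 := H51.StabMax.ctr_smul hF h1 β
    rwa [smul_add, smul_smul, mul_div_cancel₀ _ hβ] at h2
  -- shifting along rational isotropic vectors orthogonal to `e`
  let N : Submodule F V :=
    { carrier := {u | hh u E = 0 ∧ ∀ y : V, IsCtr K y → hh y E ≠ 0 →
        ∀ k : F, ∃ a : F, IsCtr K (y + k • u + a • E)}
      zero_mem' := ⟨h_zero_left _, fun y hy _ k =>
        ⟨0, by rw [smul_zero, zero_smul, add_zero, add_zero]; exact hy⟩⟩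
      add_mem' := fun {u w} hu hw => by
        refine ⟨by rw [h_add_left, hu.1, hw.1, add_zero], fun y hy hye k => ?_⟩
        obtain ⟨a, ha⟩ := hu.2 y hy hye k
        have hye' : hh (y + k • u + a • E) E ≠ 0 := by
          rw [h_add_left, h_add_left, h_smul_left, h_smul_left, hu.1, hee, mul_zero, mul_zero,
            add_zero, add_zero]
          exact hye
        obtain ⟨b, hb⟩ := hw.2 _ ha hye' k
        refine ⟨a + b, ?_⟩
        have e' : y + k • (u + w) + (a + b) • E = y + k • u + a • E + k • w + b • E := by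
          rw [smul_add, add_smul]; abel
        rwa [e']
      smul_mem' := fun c u hu => by
        refine ⟨by rw [h_smul_left, hu.1, mul_zero], fun y hy hye k => ?_⟩
        obtain ⟨a, ha⟩ := hu.2 y hy hye (k * c)
        exact ⟨a, by rwa [smul_smul]⟩ }
  have hgen : ∀ x : Fin n → F₀, RIso D x → hh (emb P x) E = 0 → emb P x ∈ N := by
    intro x hx hxe
    refine ⟨hxe, fun y hy hye k => ?_⟩
    set X := emb P x with hX
    have hxx : hh X X = 0 := hx
    have hex : hh E X = 0 := (h_eq_zero_comm hF).1 hxe
    -- one value of the scalar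
    have one : ∀ (κ : F₀) (c : F), c + c ^ q = 0 → ∀ y : V, IsCtr K y →
        ∃ a : F, IsCtr K (y + (c * (κ : F) ^ q * hh y E) • X + a • E) := by
      intro κ c hc y hy
      have hmix : RIso D (x + κ • e) := by
        show hh (emb P (x + κ • e)) (emb P (x + κ • e)) = 0
        rw [emb_add, emb_smul, h_add_left, h_add_right hF, h_add_right hF, h_smul_left,
          h_smul_right hF, h_smul_right hF, h_smul_left, ← hX, ← hEdef, hxx, hxe, hex, hee]
        ring
      have h1 := H51.StabMax.ctr_step hF hy (h _ hmix) hc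
      have hc' : -c + (-c) ^ q = 0 := by rw [neg_pow_q hF]; linear_combination -hc
      have h2 := H51.StabMax.ctr_step hF h1 (h x hx) hc'
      rw [emb_add, emb_smul, ← hX, ← hEdef] at h2
      rw [h_add_right hF, h_smul_right hF, h_add_left, h_smul_left, h_add_left, h_smul_left, hxx,
        hex, mul_zero, add_zero, mul_zero, add_zero] at h2
      refine ⟨c * (hh y X + (κ : F) ^ q * hh y E) * κ, ?_⟩
      have e' : y + (c * (κ : F) ^ q * hh y E) • X +
          (c * (hh y X + (κ : F) ^ q * hh y E) * κ) • E =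
          y + (c * (hh y X + (κ : F) ^ q * hh y E)) • (X + (κ : F) • E) +
            (-c * hh y X) • X := by
        rw [smul_add, smul_smul]
        module
      rwa [e']
    obtain ⟨κ, hκ⟩ := exists_moved D
    set m := (κ : F) ^ q with hm
    have hm' : m ^ q - m ≠ 0 := by
      rw [hm, pow_q_pow_q hF]
      exact sub_ne_zero.2 (Ne.symm hκ)
    obtain ⟨c₁, c₂, hc₁, hc₂, hsum⟩ : ∃ c₁ c₂ : F, c₁ + c₁ ^ q = 0 ∧ c₂ + c₂ ^ q = 0 ∧
        c₁ + c₂ * m = k / hh y E := by
      obtain ⟨l, hl⟩ : ∃ l, l = k / hh y E := ⟨_, rfl⟩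
      rw [← hl]
      set c₂ := -(l + l ^ q) / (m ^ q - m) with hc₂def
      have hc₂ : c₂ + c₂ ^ q = 0 := by
        have e1 : (m ^ q - m) ^ q = -(m ^ q - m) := by
          rw [sub_pow_q hF, pow_q_pow_q hF, neg_sub]
        have e2 : (-(l + l ^ q)) ^ q = -(l + l ^ q) := by rw [neg_pow_q hF, trace_fixed hF]
        rw [hc₂def, div_pow, e1, e2, div_neg, add_neg_cancel]
      refine ⟨l - c₂ * m, c₂, ?_, hc₂, by ring⟩
      have e : c₂ * (m ^ q - m) = -(l + l ^ q) := div_mul_cancel₀ _ hm'
      rw [sub_pow_q hF, mul_pow]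
      linear_combination (-(m ^ q)) * hc₂ + e
    obtain ⟨a₁, h1⟩ := one 1 c₁ hc₁ y hy
    obtain ⟨a₂, h2⟩ := one κ c₂ hc₂ _ h1
    refine ⟨a₁ + a₂, ?_⟩
    rw [OneMemClass.coe_one, one_pow, mul_one] at h2
    rw [h_add_left, h_add_left, h_smul_left, h_smul_left, hxe, hee, mul_zero, add_zero, mul_zero,
      add_zero, ← hm] at h2
    have e' : y + k • X + (a₁ + a₂) • E =
        y + (c₁ * hh y E) • X + a₁ • E + (c₂ * m * hh y E) • X + a₂ • E := by
      have : k = c₁ * hh y E + c₂ * m * hh y E := by
        rw [← add_mul, hsum, div_mul_cancel₀ _ hye]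
      rw [this, add_smul, add_smul]
      abel
    rwa [e']
  have hall : ∀ u : V, hh u E = 0 → u ∈ N := by
    intro u hu
    set c := fun i => (((P⁻¹ : GL (Fin n) F) : Matrix (Fin n) (Fin n) F) *ᵥ u) i
    have hsum := emb_sum (F₀ := F₀) (P := P) u
    let k : Fin n → F₀ := fun i => f₀ D (Pi.single i 1) e
    have hperp : ∀ i, hh (emb P (Pi.single i 1 - k i • f')) (emb P e) = 0 := by
      intro i
      rw [sub_eq_add_neg, emb_add, ← neg_smul, emb_smul, h_add_left, h_smul_left, hE,
        NegMemClass.coe_neg, mul_one]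
      exact add_neg_cancel _
    have hdec : u = ∑ i, c i • emb P (Pi.single i 1 - k i • f') + (∑ i, c i * (k i : F)) • G := by
      conv_lhs => rw [← hsum]
      rw [Finset.sum_smul, ← Finset.sum_add_distrib]
      refine Finset.sum_congr rfl fun i _ => ?_
      rw [sub_eq_add_neg, emb_add, ← neg_smul, emb_smul, NegMemClass.coe_neg, smul_add, smul_smul,
        mul_neg, neg_smul, add_assoc, neg_add_cancel, add_zero]
    have hin : ∑ i, c i • emb P (Pi.single i 1 - k i • f') ∈ N :=
      Submodule.sum_mem _ fun i _ => N.smul_mem _ (mem_span_iso D hn he he0 (hperp i) N hgen)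
    have hzero : (∑ i, c i * (k i : F)) = 0 := by
      have h1 := hu
      rw [hdec, h_add_left, hin.1, zero_add, h_smul_left, hE, mul_one] at h1
      exact h1
    rw [hdec, hzero, zero_smul, add_zero]
    exact hin
  -- the given vector
  set β := hh z E with hβ
  obtain ⟨a, ha⟩ : ∃ a : F, hh (β • G + a • E) (β • G + a • E) = 0 :=
    ⟨0, by rw [zero_smul, add_zero, h_smul_left, h_smul_right hF, hff, mul_zero, mul_zero]⟩
  have hu : hh (z - β • G) E = 0 := by
    rw [h_sub_left, h_smul_left, hE, mul_one, ← hβ, sub_self]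
  have hye : hh (β • G + a • E) E ≠ 0 := by
    rw [h_add_left, h_smul_left, h_smul_left, hE, hee, mul_one, mul_zero, add_zero]
    exact hez
  obtain ⟨b, hb⟩ := (hall _ hu).2 _ (hline β a ha) hye 1
  rw [one_smul, show β • G + a • E + (z - β • G) + b • E = z + (a + b) • E by
    rw [add_smul]; abel] at hb
  -- remove the multiple of `e`
  set w := z + (a + b) • E with hw
  have hwe : hh w E = β := by rw [hw, h_add_left, h_smul_left, hee, mul_zero, add_zero]
  have hanti : -(a + b) / β + (-(a + b) / β) ^ q = 0 := by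
    have h1 := hb.1
    rw [hw, h_add_left, h_add_right hF, h_add_right hF, h_smul_left, h_smul_left, h_smul_right hF,
      h_smul_right hF, hz, hee, h_symm hF z E, ← hβ] at h1
    have hβq : β ^ q ≠ 0 := pow_ne_zero _ hez
    rw [div_pow, neg_pow_q hF]
    field_simp
    linear_combination -h1
  have := H51.StabMax.ctr_step hF hb (h e he) hanti
  rwa [hwe, div_mul_cancel₀ _ hez, hw, ← hEdef, neg_smul, add_neg_cancel_right] at this

end SubSU

end H38
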