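import Cfsg.Agent.H38.SubSUScalar
import Cfsg.Agent.H38.SL2BigUnipNd

/-!
The case of a centre without rational isotropic vectors in its orthogonal space.
-/

set_option autoImplicit false
set_option linter.unusedSectionVars false

namespace H38

open Matrix Cfsg H50
open scoped MatrixGroups

namespace SubSU

variable {F : Type*} [Field F] [Fintype F] {n q : ℕ}

local notation "V" => (Fin n → F)
local notation "hh" => Cfsg.hermForm n F q

variable {F₀ : Subfield F} {P : GL (Fin n) F}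

/-- Two independent rational vectors have a non-zero minor. -/
theorem exists_minor {u w : Fin n → F₀} (hu : u ≠ 0) (hw : ∀ k : F₀, w ≠ k • u) :
    ∃ i j, (u i : F) * w j - (u j : F) * w i ≠ 0 := by
  by_contra h
  push Not at h
  obtain ⟨j, hj⟩ := Function.ne_iff.1 hu
  refine hw (w j / u j) (funext fun i => ?_)
  have hj' : u j ≠ 0 := hj
  have e : u i * w j - u j * w i = 0 := Subtype.ext (by push_cast; exact h i j)
  rw [Pi.smul_apply, smul_eq_mul]
  field_simp
  linear_combination -e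

theorem emb_apply_inv (u : Fin n → F₀) (i : Fin n) :
    (((P⁻¹ : GL (Fin n) F) : Matrix (Fin n) (Fin n) F) *ᵥ emb P u) i = u i := by
  rw [emb, H49.gl_inv_mulVec]

/-- Coordinates of a linear relation between rational vectors. -/
theorem emb_rel {a b c : F} {u v w : Fin n → F₀} (h : a • emb P u + b • emb P v = c • emb P w)
    (i : Fin n) : a * u i + b * v i = c * w i := by
  have := congrFun (congrArg (((P⁻¹ : GL (Fin n) F) : Matrix (Fin n) (Fin n) F) *ᵥ ·) h) i
  simp only [Matrix.mulVec_add, Matrix.mulVec_smul, Matrix.mulVec_neg, Pi.add_apply, Pi.smul_apply, Pi.neg_apply, smul_eq_mul, emb_apply_inv] at this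
  exact this

/-- Scalars of a relation between rational vectors have rational ratio. -/
theorem ratio_of_rel {a b c : F} {u v w : Fin n → F₀} (hu : u ≠ 0) (hv : ∀ k : F₀, v ≠ k • u)
    (h : a • emb P u + b • emb P v = c • emb P w) (hb : b ≠ 0) : a / b ∈ F₀ := by
  obtain ⟨i, j, hD⟩ := exists_minor hu hv
  have e1 : a * ((u i : F) * v j - (u j : F) * v i) = c * ((w i : F) * v j - (w j : F) * v i) := by
    linear_combination (v j : F) * emb_rel h i - (v i : F) * emb_rel h j
  have e2 : b * ((u i : F) * v j - (u j : F) * v i) = c * ((u i : F) * w j - (u j : F) * w i) := by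
    linear_combination (u i : F) * emb_rel h j - (u j : F) * emb_rel h i
  by_cases hne : (u i : F) * w j - (u j : F) * w i = 0
  · rw [hne, mul_zero] at e2
    exact absurd ((mul_eq_zero.1 e2).resolve_right hD) hb
  have : a / b = ((w i : F) * v j - (w j : F) * v i) / ((u i : F) * w j - (u j : F) * w i) := by
    rw [div_eq_div_iff hb hne]
    apply mul_right_cancel₀ hD
    linear_combination ((u i : F) * w j - (u j : F) * w i) * e1 -
      ((w i : F) * v j - (w j : F) * v i) * e2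
  rw [this]
  exact div_mem (sub_mem (mul_mem (w i).2 (v j).2) (mul_mem (w j).2 (v i).2))
    (sub_mem (mul_mem (u i).2 (w j).2) (mul_mem (u j).2 (w i).2))

/-- A prime power at least p³ dividing 120 is 8. -/
theorem card_cases {p j N : ℕ} (hp : p.Prime) (h8 : 8 ≤ p ^ j) (h3 : p ^ 3 ≤ p ^ j) (hN : N = p ^ j) :
    ¬ N ∣ 120 ∨ (N = 8 ∧ p = 2) := by
  subst hN
  by_cases hd : p ^ j ∣ 120
  · have hj : 3 ≤ j := (Nat.pow_le_pow_iff_right hp.one_lt).1 h3
    have h3d : p ^ 3 ∣ 120 := (pow_dvd_pow p hj).trans hd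
    have hle : p ≤ 4 := by
      by_contra h5
      have := Nat.pow_le_pow_left (show 5 ≤ p by omega) 3
      have := Nat.le_of_dvd (by norm_num) h3d
      omega
    interval_cases p
    · exact absurd hp Nat.not_prime_zero
    · exact absurd hp Nat.not_prime_one
    · have hj4 : j < 4 := by
        by_contra h4
        exact absurd ((pow_dvd_pow 2 (show 4 ≤ j by omega)).trans hd) (by norm_num)
      obtain rfl : j = 3 := by omega
      exact Or.inr ⟨by norm_num, rfl⟩
    · exact absurd h3d (by norm_num)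
    · exact absurd hp (by norm_num)
  · exact Or.inl hd

variable (D : Setting n q F₀ P)
include D

/-- The field fixed by the conjugation. -/
def fixF : Subfield F where
  carrier := {x | x ^ q = x}
  one_mem' := one_pow q
  mul_mem' {a b} ha hb := by show (a * b) ^ q = a * b; rw [mul_pow, ha, hb]
  zero_mem' := zero_pow (q_ne_zero D.hF)
  add_mem' {a b} ha hb := by show (a + b) ^ q = a + b; rw [add_pow_q D.hF, ha, hb]
  neg_mem' {a} ha := by show (-a) ^ q = -a; rw [neg_pow_q D.hF, ha]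
  inv_mem' a ha := by show a⁻¹ ^ q = a⁻¹; rw [inv_pow, ha]

theorem mem_fixF {x : F} : x ∈ fixF D ↔ x ^ q = x := Iff.rfl

theorem card_fixF : Nat.card (fixF D) = q := by
  obtain ⟨d, hd0, hd⟩ := exists_trace_zero_ne_zero D.hF
  have e : fixF D ≃ (traceHom D.hF).ker := by
    refine Equiv.ofBijective (fun x => ⟨(x : F) * d, ?_⟩) ⟨fun x y h => ?_, fun y => ?_⟩
    · have hx : (x : F) ^ q = x := x.2
      show (x : F) * d + ((x : F) * d) ^ q = 0
      rw [mul_pow, hx]
      linear_combination (x : F) * hd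
    · exact Subtype.ext (mul_right_cancel₀ hd0 (congrArg Subtype.val h))
    · refine ⟨⟨(y : F) / d, ?_⟩, Subtype.ext ?_⟩
      · show ((y : F) / d) ^ q = (y : F) / d
        have hy : (y : F) + (y : F) ^ q = 0 := y.2
        rw [div_pow, eq_neg_of_add_eq_zero_right hy, eq_neg_of_add_eq_zero_right hd,
          neg_div_neg_eq]
      · exact div_mul_cancel₀ _ hd0
  rw [Nat.card_congr e, card_trace_ker D.hF]

/-- An element quadratic over the small field lies in it. -/
theorem mem_of_quadratic {x : F} {a b c : F} (ha : a ∈ F₀) (hb : b ∈ F₀) (hc : c ∈ F₀)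
    (hc0 : c ≠ 0) (h : a * x ^ 2 + b * x + c = 0) : x ∈ F₀ := by
  by_cases ha0 : a = 0
  · rw [ha0, zero_mul, zero_add] at h
    have hb0 : b ≠ 0 := fun hb0 => hc0 (by rw [hb0, zero_mul, zero_add] at h; exact h)
    have : x = -c / b := by rw [eq_div_iff hb0]; linear_combination h
    rw [this]
    exact div_mem (neg_mem hc) hb
  by_contra hx
  have hb' : -(b / a) ∈ F₀ := neg_mem (div_mem hb ha)
  have hc' : -(c / a) ∈ F₀ := neg_mem (div_mem hc ha)
  have hsq : x * x = -(b / a) * x + -(c / a) := by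
    field_simp
    linear_combination h
  let R : Subring F :=
    { carrier := {y | ∃ s ∈ F₀, ∃ t ∈ F₀, y = s + t * x}
      one_mem' := ⟨1, F₀.one_mem, 0, F₀.zero_mem, by ring⟩
      mul_mem' := by
        rintro _ _ ⟨s, hs, t, ht, rfl⟩ ⟨s', hs', t', ht', rfl⟩
        exact ⟨s * s' + (t * t') * -(c / a), add_mem (mul_mem hs hs') (mul_mem (mul_mem ht ht') hc'),
          s * t' + t * s' + (t * t') * -(b / a),
          add_mem (add_mem (mul_mem hs ht') (mul_mem ht hs')) (mul_mem (mul_mem ht ht') hb'),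
          by linear_combination (t * t') * hsq⟩
      zero_mem' := ⟨0, F₀.zero_mem, 0, F₀.zero_mem, by ring⟩
      add_mem' := by
        rintro _ _ ⟨s, hs, t, ht, rfl⟩ ⟨s', hs', t', ht', rfl⟩
        exact ⟨s + s', add_mem hs hs', t + t', add_mem ht ht', by ring⟩
      neg_mem' := by
        rintro _ ⟨s, hs, t, ht, rfl⟩
        exact ⟨-s, neg_mem hs, -t, neg_mem ht, by ring⟩ }
  have hinv : ∀ y ∈ R, y⁻¹ ∈ R := by
    intro y hy
    by_cases h0 : y = 0
    · rw [h0, _root_.inv_zero]; exact R.zero_mem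
    · have hq2 : 2 ≤ Fintype.card F := Fintype.one_lt_card
      have : y⁻¹ = y ^ (Fintype.card F - 2) := by
        refine inv_eq_of_mul_eq_one_right ?_
        rw [← pow_succ', show Fintype.card F - 2 + 1 = Fintype.card F - 1 by omega]
        exact FiniteField.pow_card_sub_one_eq_one y h0
      rw [this]
      exact pow_mem hy _
  let K : Subfield F := { R with inv_mem' := hinv }
  obtain ⟨r, hr, hro, hcard⟩ := D.codeg
  have hle : F₀ ≤ K := fun y hy => ⟨y, hy, 0, F₀.zero_mem, by ring⟩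
  have hxK : x ∈ K := ⟨0, F₀.zero_mem, 1, F₀.one_mem, by ring⟩
  have hlt : Nat.card F₀ < Nat.card K := by
    rcases (Nat.card_le_card_of_injective _ (Set.inclusion_injective hle)).lt_or_eq with h | h
    · exact h
    · exfalso
      apply hx
      have hset : (F₀ : Set F) = K := Set.eq_of_subset_of_ncard_le hle (by
        rw [← Nat.card_coe_set_eq, ← Nat.card_coe_set_eq]; exact h.ge) (Set.toFinite _)
      rw [← SetLike.mem_coe, hset]
      exact hxK
  have htop := subfield_eq_top_of_lt hr hcard hle hlt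
  have hsurj : Function.Surjective fun p : F₀ × F₀ => (p.1 : F) + p.2 * x := by
    intro y
    obtain ⟨s, hs, t, ht, hy⟩ : y ∈ K := htop ▸ Subfield.mem_top y
    exact ⟨(⟨s, hs⟩, ⟨t, ht⟩), hy.symm⟩
  have h2 := Nat.card_le_card_of_surjective _ hsurj
  rw [Nat.card_prod, hcard, ← sq] at h2
  have h3 := (Nat.pow_le_pow_iff_right (Finite.one_lt_card (α := F₀))).1 h2
  have := hr.two_le
  rcases hro with ⟨k, hk⟩
  omega

theorem exists_tot_iso (hn : 7 ≤ n) : ∀ k ≤ 3, ∃ W : Submodule F₀ (Fin n → F₀),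
    Module.finrank F₀ W = k ∧ ∀ a ∈ W, ∀ b ∈ W, f₀ D a b = 0 := by
  intro k
  induction k with
  | zero =>
    exact fun _ => ⟨⊥, finrank_bot F₀ _, fun a ha b _ => by
      rw [(Submodule.mem_bot F₀).1 ha]; exact uf_zero_left (unitary₀ D) b⟩
  | succ k ih =>
    intro hk
    obtain ⟨W, hW, hWi⟩ := ih (by omega)
    obtain ⟨v, hv, hvW, hvn⟩ :=
      exists_iso_extend (unitary₀ D) W hWi (by rw [hW, Fintype.card_fin]; omega)
    have hv0 : v ≠ 0 := fun h => hvn (h ▸ W.zero_mem)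
    refine ⟨W ⊔ Submodule.span F₀ {v}, ?_, ?_⟩
    · have h1 := Submodule.finrank_sup_add_finrank_inf_eq W (Submodule.span F₀ {v})
      have h2 : W ⊓ Submodule.span F₀ {v} = ⊥ := by
        rw [eq_bot_iff]
        rintro x ⟨hx, hx'⟩
        obtain ⟨r, rfl⟩ := Submodule.mem_span_singleton.1 hx'
        by_cases hr : r = 0
        · simp [hr]
        · exact absurd (by simpa [smul_smul, hr] using W.smul_mem r⁻¹ hx) hvn
      rw [h2, finrank_bot, finrank_span_singleton hv0, hW, add_zero] at h1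
      exact h1
    · intro a ha b hb
      obtain ⟨a', ha', x, hx, rfl⟩ := Submodule.mem_sup.1 ha
      obtain ⟨b', hb', y, hy, rfl⟩ := Submodule.mem_sup.1 hb
      obtain ⟨r, rfl⟩ := Submodule.mem_span_singleton.1 hx
      obtain ⟨s, rfl⟩ := Submodule.mem_span_singleton.1 hy
      rw [(unitary₀ D).add_left, uf_add_right (unitary₀ D), uf_add_right (unitary₀ D),
        (unitary₀ D).smul_left, uf_smul_right (unitary₀ D), uf_smul_right (unitary₀ D),
        (unitary₀ D).smul_left, hWi a' ha' b' hb', hv, hvW b' hb', (unitary₀ D).herm a' v,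
        hvW a' ha', map_zero]
      simp

theorem exists_good_of_no_orth (hn : 7 ≤ n) {K : Subgroup (SU n F q)} (hK : HasRat D K) {z : V}
    {c : F} (h : Mem K z c) (hc0 : c ≠ 0) (hc : c + c ^ q = 0) (hz : hh z z = 0)
    (hne : ∀ v : Fin n → F₀, RIso D v → v ≠ 0 → hh z (emb P v) ≠ 0) : GoodScalar D K := by
  classical
  by_contra hno
  have hF := D.hF
  obtain ⟨c₀, hc₀0, hc₀⟩ := exists_anti₀ D
  have hc₀0' : (c₀ : F) ≠ 0 := fun h => hc₀0 (Subtype.ext h)
  obtain ⟨κ, hκ⟩ := exists_moved D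
  obtain ⟨E, hE, hEi⟩ := exists_tot_iso D hn 3 le_rfl
  have hEh : ∀ a ∈ E, ∀ b ∈ E, hh (emb P a) (emb P b) = 0 := fun a ha b hb =>
    congrArg Subtype.val (hEi a ha b hb)
  have hφ : ∀ v ∈ E, v ≠ 0 → hh z (emb P v) ≠ 0 := fun v hv => hne v (hEh v hv v hv)
  have hEne : E ≠ ⊥ := fun h0 => by rw [h0, finrank_bot] at hE; omega
  obtain ⟨v₁, hv₁, hv₁0⟩ := (Submodule.ne_bot_iff E).1 hEne
  set Z₁ := emb P v₁ with hZ₁
  set β := hh z Z₁ with hβdef
  have hβ : β ≠ 0 := hφ v₁ hv₁ hv₁0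
  have hβ' : hh Z₁ z ≠ 0 := fun h0 => hβ ((h_eq_zero_comm hF).1 h0)
  have hZ₁Z₁ : hh Z₁ Z₁ = 0 := hEh v₁ hv₁ v₁ hv₁
  set τ := (c₀ : F) / β with hτ
  have hτ0 : τ ≠ 0 := div_ne_zero hc₀0' hβ
  -- the coordinates
  let A : V → F := fun y => hh y z
  let B : V → F := fun y => hh y Z₁ * τ
  set a : V := (hh Z₁ z)⁻¹ • Z₁ with ha
  set b : V := (β * τ)⁻¹ • z with hb
  have hAa : hh a z = 1 := by rw [ha, h_smul_left, inv_mul_cancel₀ hβ']
  have hBa : hh a Z₁ = 0 := by rw [ha, h_smul_left, hZ₁Z₁, mul_zero]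
  have hAb : hh b z = 0 := by rw [hb, h_smul_left, hz, mul_zero]
  have hBb : hh b Z₁ * τ = 1 := by
    rw [hb, h_smul_left, ← hβdef]
    field_simp
  let Sp : Submodule F V := Submodule.span F (emb P '' (E : Set (Fin n → F₀)))
  let Wb : Submodule F V := Sp ⊔ Submodule.span F {z}
  have hSpW : ∀ y ∈ Sp, y ∈ Wb := fun y hy => Submodule.mem_sup_left hy
  have hEW : ∀ v ∈ E, emb P v ∈ Sp := fun v hv => Submodule.subset_span ⟨v, hv, rfl⟩
  have hzW : z ∈ Wb := Submodule.mem_sup_right (Submodule.mem_span_singleton_self z)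
  have haW : a ∈ Wb := Wb.smul_mem _ (hSpW _ (hEW v₁ hv₁))
  have hbW : b ∈ Wb := Wb.smul_mem _ hzW
  have haSp : a ∈ Sp := Sp.smul_mem _ (hEW v₁ hv₁)
  clear_value a b
  have hSpE : ∀ y ∈ Sp, ∀ v ∈ E, hh y (emb P v) = 0 := by
    intro y hy v hv
    induction hy using Submodule.span_induction with
    | mem x hx => obtain ⟨u, hu, rfl⟩ := hx; exact hEh u hu v hv
    | zero => exact h_zero_left _
    | add x x' _ _ h1 h2 => rw [h_add_left, h1, h2, add_zero]
    | smul r x _ h1 => rw [h_smul_left, h1, mul_zero]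
  have hdecW : ∀ y ∈ Wb, ∃ e ∈ Sp, ∃ α : F, y = e + α • z := by
    intro y hy
    obtain ⟨e, he, x, hx, rfl⟩ := Submodule.mem_sup.1 hy
    obtain ⟨α, rfl⟩ := Submodule.mem_span_singleton.1 hx
    exact ⟨e, he, α, rfl⟩
  have hWE : ∀ y ∈ Wb, ∀ v ∈ E, hh y (emb P v) = hh y Z₁ / β * hh z (emb P v) := by
    intro y hy v hv
    obtain ⟨e, he, α, rfl⟩ := hdecW y hy
    rw [h_add_left, h_smul_left, h_add_left, h_smul_left, hSpE e he v hv, hSpE e he v₁ hv₁,
      ← hβdef, zero_add, zero_add, mul_div_cancel_right₀ _ hβ]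
  have hB0 : ∀ y ∈ Wb, hh y Z₁ = 0 → y ∈ Sp := by
    intro y hy h0
    obtain ⟨e, he, α, rfl⟩ := hdecW y hy
    rw [h_add_left, h_smul_left, hSpE e he v₁ hv₁, ← hβdef, zero_add, mul_eq_zero] at h0
    rw [h0.resolve_right hβ, zero_smul, add_zero]
    exact he
  -- the subgroup acting on the plane
  let Fxs : SU n F q → Prop := fun g => (∀ y ∈ Wb, suMat g *ᵥ y ∈ Wb) ∧
    ∀ y ∈ Wb, hh y z = 0 → hh y Z₁ = 0 → suMat g *ᵥ y = y
  have hFmul : ∀ g g', Fxs g → Fxs g' → Fxs (g * g') := fun g g' hg hg' =>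
    ⟨fun y hy => by rw [suMat_mulVec_mul]; exact hg.1 _ (hg'.1 y hy),
     fun y hy h1 h2 => by rw [suMat_mulVec_mul, hg'.2 y hy h1 h2, hg.2 y hy h1 h2]⟩
  have hFone : Fxs 1 :=
    ⟨fun y hy => by rwa [suMat_one, one_mulVec], fun y _ _ _ => by rw [suMat_one, one_mulVec]⟩
  let ρ : SU n F q → Matrix (Fin 2) (Fin 2) F := fun g =>
    !![hh (suMat g *ᵥ b) Z₁ * τ, hh (suMat g *ᵥ a) Z₁ * τ;
       hh (suMat g *ᵥ b) z, hh (suMat g *ᵥ a) z]
  have hact : ∀ g, Fxs g → ∀ y ∈ Wb, suMat g *ᵥ y =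
      (hh y Z₁ * τ) • (suMat g *ᵥ b) + hh y z • (suMat g *ᵥ a) +
        (y - (hh y Z₁ * τ) • b - hh y z • a) := by
    intro g hg y hy
    set u := y - (hh y Z₁ * τ) • b - hh y z • a with hu
    have hu' : suMat g *ᵥ u = u := hg.2 u
      (Wb.sub_mem (Wb.sub_mem hy (Wb.smul_mem _ hbW)) (Wb.smul_mem _ haW))
      (by rw [hu, h_sub_left, h_sub_left, h_smul_left, h_smul_left, hAb, hAa]; ring)
      (by rw [hu, h_sub_left, h_sub_left, h_smul_left, h_smul_left, hBa]
          linear_combination (-(hh y Z₁)) * hBb)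
    conv_rhs => rw [← hu', ← Matrix.mulVec_smul, ← Matrix.mulVec_smul, ← Matrix.mulVec_add,
      ← Matrix.mulVec_add]
    congr 1
    rw [hu]
    abel
  have hρmul : ∀ g g', Fxs g → Fxs g' → ρ (g * g') = ρ g * ρ g' := by
    intro g g' hg hg'
    have key : ∀ y ∈ Wb, hh (suMat g *ᵥ y) Z₁ * τ =
        (hh y Z₁ * τ) * (hh (suMat g *ᵥ b) Z₁ * τ) + hh y z * (hh (suMat g *ᵥ a) Z₁ * τ) ∧
      hh (suMat g *ᵥ y) z =
        (hh y Z₁ * τ) * hh (suMat g *ᵥ b) z + hh y z * hh (suMat g *ᵥ a) z := by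
      intro y hy
      rw [hact g hg y hy]
      simp only [h_add_left, h_sub_left, h_smul_left, hAa, hBa, hAb]
      exact ⟨by linear_combination (-(hh y Z₁ * τ)) * hBb, by ring⟩
    simp only [ρ, suMat_mulVec_mul, Matrix.mul_fin_two]
    rw [(key _ (hg'.1 b hbW)).1, (key _ (hg'.1 b hbW)).2, (key _ (hg'.1 a haW)).1,
      (key _ (hg'.1 a haW)).2]
    ext i j
    fin_cases i <;> fin_cases j <;> simp <;> ring
  have hρone : ρ 1 = 1 := by
    simp only [ρ, suMat_one, one_mulVec, hBb, hBa, hAb, hAa, zero_mul, Matrix.one_fin_two]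
  set L := fixF D with hL
  haveI : Fintype L := Fintype.ofFinite L
  let toF : SL(2, L) → Matrix (Fin 2) (Fin 2) F :=
    fun x => (x : Matrix (Fin 2) (Fin 2) L).map (L.subtype)
  let Gm : Submonoid SL(2, L) :=
    { carrier := {x | ∃ g, g ∈ K ∧ Fxs g ∧ ρ g = toF x}
      one_mem' := ⟨1, K.one_mem, hFone, by
        simp only [toF, Matrix.SpecialLinearGroup.coe_one]
        rw [hρone, Matrix.map_one _ (map_zero _) (map_one _)]⟩
      mul_mem' := fun {x y} hx hy => by
        obtain ⟨g, hg1, hg2, hg3⟩ := hx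
        obtain ⟨g', hg1', hg2', hg3'⟩ := hy
        exact ⟨g * g', mul_mem hg1 hg1', hFmul g g' hg2 hg2', by
          rw [hρmul g g' hg2 hg2', hg3, hg3']
          simp only [toF, Matrix.SpecialLinearGroup.coe_mul, Matrix.map_mul]⟩ }
  let G : Subgroup SL(2, L) :=
    { Gm with
      inv_mem' := fun {x} hx => by
        have h1 : x ^ (orderOf x - 1) = x⁻¹ := by
          refine eq_inv_of_mul_eq_one_left ?_
          rw [← pow_succ, Nat.sub_add_cancel (orderOf_pos x), pow_orderOf_eq_one]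
        rw [← h1]
        exact Submonoid.pow_mem Gm hx _ }
  -- lower elements
  let Nm : (Fin n → F₀) → L := fun v => ⟨hh z (emb P v) * hh z (emb P v) ^ q, by
    show _ ^ q = _
    rw [mul_pow, pow_q_pow_q hF, mul_comm]⟩
  let S : AddSubgroup L := AddSubgroup.closure (Nm '' (E : Set (Fin n → F₀)))
  have hlow : ∀ x ∈ S, loSL x ∈ G := by
    intro x hx
    induction hx using AddSubgroup.closure_induction with
    | mem x hx =>
      obtain ⟨v, hv, rfl⟩ := hx
      have hvv : hh (emb P v) (emb P v) = 0 := hEh v hv v hv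
      refine ⟨tv hF (emb P v) c₀ hvv hc₀, hK v hvv _ c₀.2 hc₀ _ rfl, ⟨fun y hy => ?_,
        fun y hy h1 h2 => ?_⟩, ?_⟩
      · rw [tv_mulVec]
        exact Wb.add_mem hy (Wb.smul_mem _ (hSpW _ (hEW v hv)))
      · rw [tv_mulVec, hWE y hy v hv, h2, zero_div, zero_mul, mul_zero, zero_smul, add_zero]
      · simp only [ρ, toF, tv_mulVec, coe_loSL, h_add_left, h_smul_left, hEh v hv v₁ hv₁,
          show hh (emb P v) Z₁ = 0 from hEh v hv v₁ hv₁, mul_zero, add_zero,
          hWE b hbW v hv, hWE a haW v hv, hBa, hAb, hAa, zero_div, zero_mul, mul_zero]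
        rw [hBb]
        have hbz : hh b Z₁ = 1 / τ := by rw [eq_div_iff hτ0]; exact hBb
        rw [hbz, h_symm hF z (emb P v)]
        ext i j
        fin_cases i <;> fin_cases j <;> simp [Nm]
        rw [hτ]
        field_simp
        exact Or.inl trivial
    | zero => rw [loSL_zero]; exact G.one_mem
    | add x y _ _ h1 h2 => rw [← loSL_mul]; exact G.mul_mem h1 h2
    | neg x _ h1 =>
      have : loSL (-x) = (loSL x)⁻¹ := eq_inv_of_mul_eq_one_left (by
        rw [loSL_mul, neg_add_cancel, loSL_zero])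
      rw [this]
      exact G.inv_mem h1
  have hupval : (c * (c₀ : F)) ^ q = c * c₀ := by
    rw [mul_pow, eq_neg_of_add_eq_zero_right hc, eq_neg_of_add_eq_zero_right hc₀, neg_mul_neg]
  have hup : H39.upSL (⟨c * (c₀ : F), hupval⟩ : L) ∈ G := by
    refine ⟨tv hF z c hz hc, h _ rfl, ⟨fun y hy => ?_, fun y hy h1 h2 => ?_⟩, ?_⟩
    · rw [tv_mulVec]; exact Wb.add_mem hy (Wb.smul_mem _ hzW)
    · rw [tv_mulVec, h1, mul_zero, zero_smul, add_zero]
    · simp only [ρ, toF, tv_mulVec, H39.coe_upSL, h_add_left, h_smul_left, hz, hBa, hAb, hAa,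
        mul_zero, add_zero, zero_mul, ← hβdef]
      rw [hBb]
      ext i j
      fin_cases i <;> fin_cases j <;> simp
      rw [hτ]
      field_simp
  -- the small field inside the fixed field
  let F₁ : Subfield L := F₀.comap L.subtype
  obtain ⟨r, hr, hro, hcardF⟩ := D.codeg
  have hF1sq : Nat.card F₀ = Nat.card F₁ ^ 2 := by
    have hκ' : (κ : F) - (κ : F) ^ q ≠ 0 := sub_ne_zero.2 (Ne.symm hκ)
    let T : F₁ × F₁ → F₀ := fun p =>
      ⟨((p.1 : L) : F) + (κ : F) * ((p.2 : L) : F), add_mem p.1.2 (mul_mem κ.2 p.2.2)⟩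
    have hb : Function.Bijective T := by
      constructor
      · intro x y hxy
        have e : ((x.1 : L) : F) + κ * ((x.2 : L) : F) = ((y.1 : L) : F) + κ * ((y.2 : L) : F) :=
          congrArg Subtype.val hxy
        have hx1 : ((x.1 : L) : F) ^ q = (x.1 : L) := (x.1 : L).2
        have hx2 : ((x.2 : L) : F) ^ q = (x.2 : L) := (x.2 : L).2
        have hy1 : ((y.1 : L) : F) ^ q = (y.1 : L) := (y.1 : L).2
        have hy2 : ((y.2 : L) : F) ^ q = (y.2 : L) := (y.2 : L).2
        have e' := congrArg (· ^ q) e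
        simp only [add_pow_q hF, mul_pow, hx1, hx2, hy1, hy2] at e'
        have h2 : ((x.2 : L) : F) = (y.2 : L) := by
          apply mul_left_cancel₀ hκ'
          linear_combination e - e'
        have h1 : ((x.1 : L) : F) = (y.1 : L) := by linear_combination e - (κ : F) * h2
        exact Prod.ext (Subtype.ext (Subtype.ext h1)) (Subtype.ext (Subtype.ext h2))
      · intro x
        set s : F := ((x : F) - (x : F) ^ q) / ((κ : F) - (κ : F) ^ q) with hs
        have hsq : s ^ q = s := by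
          rw [hs, div_pow, sub_pow_q hF, sub_pow_q hF, pow_q_pow_q hF, pow_q_pow_q hF,
            ← neg_sub (x : F), ← neg_sub (κ : F), neg_div_neg_eq]
        have hs' : s * ((κ : F) - (κ : F) ^ q) = (x : F) - (x : F) ^ q := by
          rw [hs]; exact div_mul_cancel₀ _ hκ'
        have hs0 : s ∈ F₀ := div_mem (sub_mem x.2 (pow_mem' D x.2)) (sub_mem κ.2 (pow_mem' D κ.2))
        have hrq : ((x : F) - (κ : F) * s) ^ q = (x : F) - (κ : F) * s := by
          rw [sub_pow_q hF, mul_pow, hsq]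
          linear_combination hs'
        exact ⟨(⟨⟨_, hrq⟩, sub_mem x.2 (mul_mem κ.2 hs0)⟩, ⟨⟨s, hsq⟩, hs0⟩),
          Subtype.ext (by show (x : F) - (κ : F) * s + (κ : F) * s = x; ring)⟩
    rw [sq, ← Nat.card_prod, Nat.card_congr (Equiv.ofBijective T hb)]
  have hLcard : Nat.card L = Nat.card F₁ ^ r := by
    have hcf : Nat.card L = q := card_fixF D
    rw [hcf]
    apply Nat.pow_left_injective two_ne_zero
    show q ^ 2 = (Nat.card F₁ ^ r) ^ 2
    rw [← hF, ← pow_mul, mul_comm r 2, pow_mul, ← hF1sq, ← Nat.card_eq_fintype_card]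
    exact hcardF
  have hS0 : ∀ d ∈ F₁, ∀ x ∈ S, d * x ∈ S := by
    intro d hd x hx
    obtain ⟨k, hk⟩ := H38.exists_norm_eq (σ := (sig D : F₀ →+* F₀)) (sigma_ne (unitary₀ D))
      (unitary₀ D).involutive (μ := (⟨(d : F), hd⟩ : F₀)) (Subtype.ext d.2)
    have hk' : (k : F) ^ q * k = d := congrArg Subtype.val hk
    induction hx using AddSubgroup.closure_induction with
    | mem x hx =>
      obtain ⟨v, hv, rfl⟩ := hx
      refine AddSubgroup.subset_closure ⟨k • v, E.smul_mem k hv, Subtype.ext ?_⟩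
      show hh z (emb P (k • v)) * hh z (emb P (k • v)) ^ q = (d : F) * (Nm v : F)
      rw [emb_smul, h_smul_right hF, mul_pow, pow_q_pow_q hF, ← hk']
      show _ = _ * (hh z (emb P v) * hh z (emb P v) ^ q)
      ring
    | zero => rw [mul_zero]; exact S.zero_mem
    | add x y _ _ h1 h2 => rw [mul_add]; exact S.add_mem h1 h2
    | neg x _ h1 => rw [mul_neg]; exact S.neg_mem h1
  -- size of S
  let tr₂ : F → L := fun x => ⟨x + x ^ q, trace_fixed hF x⟩
  have hpol : ∀ v ∈ E, tr₂ (hh z (emb P v) * hh z Z₁ ^ q) ∈ S := by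
    intro v hv
    have e : tr₂ (hh z (emb P v) * hh z Z₁ ^ q) = Nm (v + v₁) - Nm v - Nm v₁ := by
      refine Subtype.ext ?_
      show _ = hh z (emb P (v + v₁)) * hh z (emb P (v + v₁)) ^ q -
        hh z (emb P v) * hh z (emb P v) ^ q - hh z (emb P v₁) * hh z (emb P v₁) ^ q
      rw [emb_add, h_add_right hF, add_pow_q hF, ← hZ₁]
      show hh z (emb P v) * hh z Z₁ ^ q + (hh z (emb P v) * hh z Z₁ ^ q) ^ q = _
      rw [mul_pow, pow_q_pow_q hF]
      ring
    rw [e]
    exact S.sub_mem (S.sub_mem (AddSubgroup.subset_closure ⟨_, E.add_mem hv hv₁, rfl⟩)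
      (AddSubgroup.subset_closure ⟨v, hv, rfl⟩)) (AddSubgroup.subset_closure ⟨v₁, hv₁, rfl⟩)
  have hScard : Nat.card F₁ ^ 3 ≤ Nat.card S := by
    let T : E → S × S := fun v =>
      (⟨_, hpol v v.2⟩, ⟨_, hpol (κ • (v : Fin n → F₀)) (E.smul_mem κ v.2)⟩)
    have hTi : Function.Injective T := by
      intro v w hvw
      have t1 : _ + _ = _ + _ := congrArg (fun p : S × S => ((p.1 : L) : F)) hvw
      have t2 : _ + _ = _ + _ := congrArg (fun p : S × S => ((p.2 : L) : F)) hvw
      set x := (hh z (emb P (v : Fin n → F₀)) - hh z (emb P (w : Fin n → F₀))) * hh z Z₁ ^ q with hx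
      have x1 : x + x ^ q = 0 := by
        rw [hx, mul_pow, sub_pow_q hF]
        rw [mul_pow, mul_pow] at t1
        linear_combination t1
      have x2 : (κ : F) ^ q * x + κ * x ^ q = 0 := by
        rw [hx, mul_pow, sub_pow_q hF, pow_q_pow_q hF]
        simp only [emb_smul, h_smul_right hF, mul_pow, pow_q_pow_q hF] at t2
        linear_combination t2
      have hx0 : x = 0 := by
        have : ((κ : F) ^ q - κ) * x = 0 := by linear_combination x2 - (κ : F) * x1
        exact (mul_eq_zero.1 this).resolve_left (sub_ne_zero.2 hκ)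
      rw [hx, mul_eq_zero] at hx0
      have hd := hx0.resolve_right (pow_ne_zero _ hβ)
      by_contra hne'
      have hne'' : (v : Fin n → F₀) - w ≠ 0 := sub_ne_zero.2 fun h' => hne' (Subtype.ext h')
      apply hφ _ (E.sub_mem v.2 w.2) hne''
      rw [sub_eq_add_neg, ← neg_one_smul F₀ (w : Fin n → F₀), emb_add, emb_smul, h_add_right hF,
        h_smul_right hF, NegMemClass.coe_neg, OneMemClass.coe_one, neg_pow_q hF, one_pow]
      linear_combination hd
    have h1 := Nat.card_le_card_of_injective T hTi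
    rw [Nat.card_prod, Module.natCard_eq_pow_finrank (K := F₀), hE, hF1sq, ← pow_mul] at h1
    by_contra hlt
    push Not at hlt
    have h2 := Nat.mul_lt_mul'' hlt hlt
    rw [← pow_add] at h2
    have h3 : Nat.card F₁ ^ (2 * 3) = Nat.card F₁ ^ (3 + 3) := by norm_num
    omega
  have hQ1 : 2 ≤ Nat.card F₁ := Finite.one_lt_card
  have h8 : 8 ≤ Nat.card S := by
    have := Nat.pow_le_pow_left hQ1 3
    omega
  have hp3 : ringChar L ^ 3 ≤ Nat.card S := by
    have hp : ringChar L ≤ Nat.card F₁ := by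
      haveI : Fintype F₁ := Fintype.ofFinite _
      haveI : CharP L (ringChar L) := ringChar.charP L
      haveI : CharP F₁ (ringChar L) := RingHom.charP F₁.subtype F₁.subtype.injective (ringChar L)
      obtain ⟨e, hprime, he⟩ := FiniteField.card F₁ (ringChar L)
      rw [Nat.card_eq_fintype_card, he]
      exact Nat.le_self_pow e.ne_zero _
    exact (Nat.pow_le_pow_left hp 3).trans hScard
  have hlt : Nat.card F₁ < Nat.card S := by
    calc Nat.card F₁ = Nat.card F₁ ^ 1 := (pow_one _).symm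
      _ < Nat.card F₁ ^ 3 := Nat.pow_lt_pow_right (by omega) (by norm_num)
      _ ≤ _ := hScard
  have hupne : (⟨c * (c₀ : F), hupval⟩ : L) ≠ 0 := fun h0 =>
    mul_ne_zero hc0 hc₀0' (congrArg Subtype.val h0)
  have hnd : ¬ Nat.card S ∣ 120 ∨ (Nat.card S = 8 ∧ ringChar L = 2) := by
    haveI : Fintype L := Fintype.ofFinite L
    haveI : CharP L (ringChar L) := ringChar.charP L
    obtain ⟨e, hprime, he⟩ := FiniteField.card L (ringChar L)
    have hdvd : Nat.card S ∣ ringChar L ^ (e : ℕ) := by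
      rw [← he, ← Nat.card_eq_fintype_card]; exact S.card_addSubgroup_dvd_card
    obtain ⟨j, -, hj⟩ := (Nat.dvd_prime_pow hprime).1 hdvd
    exact card_cases hprime (hj ▸ h8) (hj ▸ hp3) hj
  have htop := proj_map_eq_top_of_nd G F₁ hr hLcard S hS0 h8 hnd hp3 hlt hupne hlow hup
  -- a torus element outside the small field
  obtain ⟨s, hs⟩ : ∃ s : L, s ∉ F₁ := by
    by_contra hall
    push Not at hall
    have h1 : Nat.card F₁ = Nat.card L := Nat.card_congr (Equiv.subtypeUnivEquiv hall)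
    rw [← h1] at hLcard
    have := Nat.pow_lt_pow_right (show 1 < Nat.card F₁ by omega) hr.one_lt
    rw [pow_one, ← hLcard] at this
    omega
  have hs0 : s ≠ 0 := fun h0 => hs (h0 ▸ F₁.zero_mem)
  let d : SL(2, L) := ⟨!![s⁻¹, 0; 0, s], by simp [Matrix.det_fin_two, hs0]⟩
  have hd : H39.proj d ∈ G.map H39.proj := by rw [htop]; exact Subgroup.mem_top _
  obtain ⟨x, hxG, hxd⟩ := hd
  obtain ⟨g, hgK, hgF, hgρ⟩ := hxG
  obtain ⟨ε, hε, hx01, hx11⟩ : ∃ ε : L, ε * ε = 1 ∧ x 0 1 = 0 ∧ x 1 1 = ε * s := by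
    rcases H39.proj_eq_proj_iff.1 hxd with h' | h'
    · exact ⟨1, one_mul 1, by rw [← h']; simp [d], by rw [← h']; simp [d]⟩
    · refine ⟨-1, by ring, ?_, ?_⟩ <;>
        rw [show x = -d by rw [h', neg_neg], Matrix.SpecialLinearGroup.coe_neg] <;> simp [d]
  have r01 : hh (suMat g *ᵥ a) Z₁ * τ = 0 := by
    have := congrFun (congrFun hgρ 0) 1
    simpa [ρ, toF, hx01] using this
  set η : F := ((ε * s : L) : F) with hη
  have r11 : hh (suMat g *ᵥ a) z = η := by
    have := congrFun (congrFun hgρ 1) 1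
    simpa [ρ, toF, hx11, hη] using this
  have hηF : η ∉ F₀ := by
    intro hmem
    apply hs
    have h1 : (ε * s : L) ∈ F₁ := hmem
    have hεF : ε ∈ F₁ := by
      rcases mul_self_eq_one_iff.1 hε with h2 | h2 <;> rw [h2]
      · exact F₁.one_mem
      · exact neg_mem F₁.one_mem
    have := mul_mem hεF h1
    rwa [← mul_assoc, hε, one_mul] at this
  set u : V := suMat g *ᵥ a - a with hu
  have hgaB : hh (suMat g *ᵥ a) Z₁ = 0 := (mul_eq_zero.1 r01).resolve_right hτ0
  have hgaSp : suMat g *ᵥ a ∈ Sp := hB0 _ (hgF.1 a haW) hgaB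
  have huSp : u ∈ Sp := Sp.sub_mem hgaSp haSp
  have huA : hh u z = η - 1 := by rw [hu, h_sub_left, r11, hAa]
  have hgSp : ∀ y ∈ Sp, suMat g *ᵥ y = y + hh y z • u := by
    intro y hy
    have h0 : hh y Z₁ = 0 := hSpE y hy v₁ hv₁
    rw [hact g hgF y (hSpW y hy), h0, zero_mul, zero_smul, zero_smul, hu, smul_sub]
    abel
  have hgA : ∀ y ∈ Sp, hh (suMat g *ᵥ y) z = η * hh y z := by
    intro y hy
    rw [hgSp y hy, h_add_left, h_smul_left, huA]
    ring
  -- images of rational centres are rational points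
  have hpoint : ∀ v : Fin n → F₀, v ≠ 0 → emb P v ∈ Sp →
      ∃ (l : F) (w : Fin n → F₀), suMat g *ᵥ emb P v = l • emb P w := by
    intro v hv0 hvSp
    by_contra hcon
    push Not at hcon
    have hvv : hh (emb P v) (emb P v) = 0 := by
      have key : ∀ y ∈ Sp, hh (emb P v) y = 0 := by
        intro y hy
        induction hy using Submodule.span_induction with
        | mem x hx => obtain ⟨w, hw, rfl⟩ := hx; exact hSpE _ hvSp w hw
        | zero => exact h_zero_right hF _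
        | add x x' _ _ h1 h2 => rw [h_add_right hF, h1, h2, add_zero]
        | smul r x _ h1 => rw [h_smul_right hF, h1, mul_zero]
      exact key _ hvSp
    have hgSp' : suMat g *ᵥ emb P v ∈ Sp := by
      rw [hgSp _ hvSp]; exact Sp.add_mem hvSp (Sp.smul_mem _ huSp)
    exact hno (exists_good_of_orth D (by omega) hK (mem_conj D (hK v hvv _ c₀.2 hc₀) hgK)
      hc₀0' hc₀ c₀.2 (by rw [suMat_h, hvv]) hcon
      (v := v₁) (hEh v₁ hv₁ v₁ hv₁) hv₁0 (hSpE _ hgSp' v₁ hv₁))
  have hA0 : ∀ v ∈ E, v ≠ 0 → hh (emb P v) z ≠ 0 := fun v hv hv0 h0 =>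
    hφ v hv hv0 ((h_eq_zero_comm hF).1 h0)
  have hinj : Function.Injective (fun y : V => suMat g *ᵥ y) := fun y y' hyy => by
    have := congrArg (suMat g⁻¹ *ᵥ ·) hyy
    simp only [suMat_inv_mulVec] at this
    exact this
  obtain ⟨v, hvE, hv0, hvind⟩ : ∃ v ∈ E, v ≠ 0 ∧ ∀ k : F₀, v ≠ k • v₁ := by
    have h1 : ¬ (E ≤ Submodule.span F₀ {v₁}) := fun hle => by
      have := Submodule.finrank_mono hle
      rw [finrank_span_singleton hv₁0, hE] at this
      omega
    obtain ⟨v, hv, hvn⟩ := SetLike.not_le_iff_exists.1 h1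
    exact ⟨v, hv, fun h => hvn (h ▸ Submodule.zero_mem _),
      fun k hk => hvn (hk ▸ Submodule.smul_mem _ _ (Submodule.mem_span_singleton_self v₁))⟩
  obtain ⟨l₁, w₁, he₁⟩ := hpoint v₁ hv₁0 (hEW _ hv₁)
  obtain ⟨l, w, he⟩ := hpoint v hv0 (hEW _ hvE)
  obtain ⟨l₂, w₂, he₂⟩ := hpoint (v₁ + v) (fun h0 => hvind (-1) (by
    rw [neg_smul, one_smul]; exact eq_neg_of_add_eq_zero_right h0)) (hEW _ (E.add_mem hv₁ hvE))
  have hne1 : l₁ ≠ 0 := fun h0 => by
    rw [h0, zero_smul] at he₁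
    exact emb_ne_zero hv₁0 (hinj (by simpa using he₁))
  have hne : l ≠ 0 := fun h0 => by
    rw [h0, zero_smul] at he
    exact emb_ne_zero hv0 (hinj (by simpa using he))
  have hw₁0 : w₁ ≠ 0 := fun h0 => by
    rw [h0, emb_zero, smul_zero] at he₁
    exact emb_ne_zero hv₁0 (hinj (by simpa using he₁))
  have hwind : ∀ k : F₀, w ≠ k • w₁ := by
    intro k hk
    have h1 : suMat g *ᵥ emb P v = suMat g *ᵥ ((l * k / l₁) • emb P v₁) := by
      rw [Matrix.mulVec_smul, he₁, he, hk, emb_smul, smul_smul, smul_smul,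
        div_mul_cancel₀ _ hne1]
    have h2 := hinj h1
    obtain ⟨i, j, hD⟩ := exists_minor hv₁0 hvind
    have e : ∀ i, (v i : F) = l * k / l₁ * v₁ i := fun i => by
      have := congrFun (congrArg (((P⁻¹ : GL (Fin n) F) : Matrix (Fin n) (Fin n) F) *ᵥ ·) h2) i
      simp only [Matrix.mulVec_add, Matrix.mulVec_smul, Matrix.mulVec_neg, Pi.add_apply, Pi.smul_apply, Pi.neg_apply, smul_eq_mul, emb_apply_inv] at this
      exact this
    exact hD (by rw [e i, e j]; ring)
  have hratio : l₁ / l ∈ F₀ := by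
    refine ratio_of_rel (P := P) (c := l₂) (w := w₂) hw₁0 hwind ?_ hne
    rw [← he₁, ← he, ← Matrix.mulVec_add, ← emb_add, he₂]
  set w₁' : Fin n → F₀ := (⟨_, hratio⟩ : F₀) • w₁ with hw₁'
  have he₁' : suMat g *ᵥ emb P v₁ = l • emb P w₁' := by
    rw [hw₁', emb_smul, smul_smul, he₁]
    congr 1
    rw [mul_div_cancel₀ _ hne]
  -- the scalar is rational
  set A₁ := hh (emb P v₁) z with hA₁
  set A₂ := hh (emb P v) z with hA₂
  have hu1 : A₁ • u = l • emb P w₁' + (-1 : F) • emb P v₁ := by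
    rw [← he₁', hgSp _ (hEW _ hv₁), neg_one_smul]; abel
  have hu2 : A₂ • u = l • emb P w + (-1 : F) • emb P v := by
    rw [← he, hgSp _ (hEW _ hvE), neg_one_smul]; abel
  have hcoord : ∀ i, A₂ * (l * w₁' i - v₁ i) = A₁ * (l * w i - v i) := by
    intro i
    have h1 := congrFun (congrArg (((P⁻¹ : GL (Fin n) F) : Matrix (Fin n) (Fin n) F) *ᵥ ·) hu1) i
    have h2 := congrFun (congrArg (((P⁻¹ : GL (Fin n) F) : Matrix (Fin n) (Fin n) F) *ᵥ ·) hu2) i
    simp only [Matrix.mulVec_add, Matrix.mulVec_smul, Matrix.mulVec_neg, Pi.add_apply, Pi.smul_apply, Pi.neg_apply, smul_eq_mul, emb_apply_inv] at h1 h2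
    linear_combination A₁ * h2 - A₂ * h1
  have hA₁0 : A₁ ≠ 0 := hA0 v₁ hv₁ hv₁0
  have hA₂0 : A₂ ≠ 0 := hA0 v hvE hv0
  have hlF : l ∈ F₀ := by
    obtain ⟨i, j, hD⟩ := exists_minor hv₁0 hvind
    have e : A₁ * A₂ * ((l * w₁' i - v₁ i) * (l * w j - v j) -
        (l * w₁' j - v₁ j) * (l * w i - v i)) = 0 := by
      linear_combination A₁ * (l * w j - v j) * hcoord i - A₁ * (l * w i - v i) * hcoord j
    have e' := (mul_eq_zero.1 e).resolve_left (mul_ne_zero hA₁0 hA₂0)
    refine mem_of_quadratic D (a := (w₁' i : F) * w j - (w₁' j : F) * w i)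
      (b := -((w₁' i : F) * v j + (v₁ i : F) * w j - (w₁' j : F) * v i - (v₁ j : F) * w i))
      (c := (v₁ i : F) * v j - (v₁ j : F) * v i) ?_ ?_ ?_ hD (by linear_combination e')
    · exact sub_mem (mul_mem (w₁' i).2 (w j).2) (mul_mem (w₁' j).2 (w i).2)
    · exact neg_mem (sub_mem (sub_mem (add_mem (mul_mem (w₁' i).2 (v j).2)
        (mul_mem (v₁ i).2 (w j).2)) (mul_mem (w₁' j).2 (v i).2)) (mul_mem (v₁ j).2 (w i).2))
    · exact sub_mem (mul_mem (v₁ i).2 (v j).2) (mul_mem (v₁ j).2 (v i).2)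
  set w₀ : Fin n → F₀ := (⟨l, hlF⟩ : F₀) • w₁' with hw₀
  have hw₀e : suMat g *ᵥ emb P v₁ = emb P w₀ := by rw [hw₀, emb_smul, he₁']
  have hw₀0 : w₀ ≠ 0 := fun h0 => by
    rw [h0, emb_zero] at hw₀e
    exact emb_ne_zero hv₁0 (hinj (by simpa using hw₀e))
  have hA₀ : hh (emb P w₀) z = η * A₁ := by rw [← hw₀e, hgA _ (hEW _ hv₁)]
  have hindep : ∀ k : F₀, v₁ ≠ k • w₀ := by
    intro k hk
    have h1 : A₁ = (k : F) * (η * A₁) := by
      conv_lhs => rw [hA₁, hk, emb_smul, h_smul_left, hA₀]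
    have h2 : (k : F) * η = 1 := by
      apply mul_right_cancel₀ hA₁0
      linear_combination -h1
    have : η = (k : F)⁻¹ := eq_inv_of_mul_eq_one_right h2
    exact hηF (this ▸ F₀.inv_mem k.2)
  have hw₀Sp : emb P w₀ ∈ Sp := by
    rw [← hw₀e, hgSp _ (hEW _ hv₁)]; exact Sp.add_mem (hEW _ hv₁) (Sp.smul_mem _ huSp)
  obtain ⟨l₃, w₃, he₃⟩ := hpoint w₀ hw₀0 hw₀Sp
  have hrel : (1 + η) • emb P w₀ + (-η) • emb P v₁ = l₃ • emb P w₃ := by
    rw [← he₃, hgSp _ hw₀Sp, hA₀, mul_smul,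
      show A₁ • u = emb P w₀ + (-1 : F) • emb P v₁ by
        rw [← hw₀e, hgSp _ (hEW _ hv₁), neg_one_smul]; abel]
    module
  have hη0 : -η ≠ 0 := neg_ne_zero.2 fun h0 => hηF (h0 ▸ F₀.zero_mem)
  have hq1 := ratio_of_rel (P := P) hw₀0 hindep hrel hη0
  apply hηF
  have hne' : (1 + η) / -η + 1 ≠ 0 := by
    rw [div_add_one hη0]
    refine div_ne_zero ?_ hη0
    rw [add_neg_cancel_right]
    exact one_ne_zero
  have : η = -1 / ((1 + η) / -η + 1) := by
    rw [div_add_one hη0, add_neg_cancel_right, div_div_eq_mul_div, div_one, neg_mul_neg, one_mul]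
  rw [this]
  exact div_mem (neg_mem F₀.one_mem) (add_mem hq1 F₀.one_mem)

end SubSU

end H38
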