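import Cfsg.Agent.H38.SubSUBase

/-!
Scalars of transvections over a rational structure of the unitary form.
-/

set_option autoImplicit false
set_option linter.unusedSectionVars false

namespace H38

open Matrix Cfsg H50
open scoped MatrixGroups
open H51.StabMax (IsCtr)

namespace SubSU

variable {F : Type*} [Field F] [Fintype F] {n q : ℕ}

local notation "V" => (Fin n → F)
local notation "hh" => Cfsg.hermForm n F q

/-- The transvection with centre `v` and scalar `c` lies in `K`. -/
def Mem (K : Subgroup (SU n F q)) (v : Fin n → F) (c : F) : Prop :=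
  ∀ A : SU n F q, suMat A = unitaryTransvection n q v c → A ∈ K

variable {F₀ : Subfield F} {P : GL (Fin n) F} (D : Setting n q F₀ P)
include D

theorem mem_conj {K : Subgroup (SU n F q)} {v : V} {c : F} (hv : Mem K v c) {g : SU n F q}
    (hg : g ∈ K) : Mem K (suMat g *ᵥ v) c := by
  intro A hA
  have : g⁻¹ * A * g ∈ K := hv _ (by
    rw [suMat_mul, suMat_mul, hA, iso_mul_ut (SU_isIso g⁻¹), mul_assoc, ← suMat_mul,
      inv_mul_cancel, suMat_one, mul_one, suMat_inv_mulVec])
  have h2 := mul_mem (mul_mem hg this) (inv_mem hg)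
  have e : g * (g⁻¹ * A * g) * g⁻¹ = A := by group
  rwa [e] at h2

theorem mem_step {K : Subgroup (SU n F q)} {v x : V} {c d : F} (hv : Mem K v c) (hx : Mem K x d)
    (hxi : hh x x = 0) (hd : d + d ^ q = 0) : Mem K (v + (d * hh v x) • x) c := by
  have := mem_conj D hv (hx (tv D.hF x d hxi hd) rfl)
  rwa [tv_mulVec] at this

theorem mem_of_smul {K : Subgroup (SU n F q)} {v : V} {c l : F} (h : Mem K (l • v) c) :
    Mem K v (c * (l * l ^ q)) := by
  intro A hA
  refine h A ?_
  rw [hA]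
  refine Matrix.ext_of_mulVec_single fun i => ?_
  rw [ut_mulVec, ut_mulVec, h_smul_right D.hF, smul_smul]
  congr 2
  ring

theorem mem_smul {K : Subgroup (SU n F q)} {v : V} {c l : F} (h : Mem K v c) (hl : l ≠ 0) :
    Mem K (l • v) (c / (l * l ^ q)) := by
  have hl' : l * l ^ q ≠ 0 := mul_ne_zero hl (pow_ne_zero _ hl)
  have := mem_of_smul D (v := l • v) (l := l⁻¹) (c := c)
    (by rwa [smul_smul, inv_mul_cancel₀ hl, one_smul])
  rwa [inv_pow, ← mul_inv, ← div_eq_mul_inv] at this

theorem mem_add {K : Subgroup (SU n F q)} {v : V} {c d : F} (hvi : hh v v = 0)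
    (hc : c + c ^ q = 0) (hd : d + d ^ q = 0) (h : Mem K v c) (h' : Mem K v d) :
    Mem K v (c + d) := by
  intro A hA
  have e : A = tv D.hF v c hvi hc * tv D.hF v d hvi hd := suMat_ext fun x => by
    rw [hA, suMat_mulVec_mul, tv_mulVec, tv_mulVec, ut_mulVec, h_add_left, h_smul_left, hvi,
      mul_zero, add_zero, add_mul, add_smul]
    abel
  rw [e]
  exact mul_mem (h _ rfl) (h' _ rfl)

theorem mem_neg {K : Subgroup (SU n F q)} {v : V} {c : F} (hvi : hh v v = 0) (hc : c + c ^ q = 0)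
    (h : Mem K v c) : Mem K v (-c) := by
  intro A hA
  have e : A = (tv D.hF v c hvi hc)⁻¹ := by
    refine eq_inv_of_mul_eq_one_left (suMat_ext fun x => ?_)
    rw [suMat_mulVec_mul, tv_mulVec, hA, ut_mulVec, suMat_one, one_mulVec, h_add_left, h_smul_left,
      hvi, mul_zero, add_zero, neg_mul, neg_smul, add_neg_cancel_right]
  rw [e]
  exact inv_mem (h _ rfl)

theorem mem_four {K : Subgroup (SU n F q)} {z v : V} {c μ μ' : F} (hz : hh z z = 0)
    (hv : hh v v = 0) (hzv : hh z v = 0) (hc : c + c ^ q = 0) (h0 : Mem K z c)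
    (h1 : Mem K (z + μ • v) c) (h2 : Mem K (z + μ' • v) c) (h3 : Mem K (z + (μ + μ') • v) c) :
    Mem K v (c * (μ * μ' ^ q + μ' * μ ^ q)) := by
  have hF := D.hF
  have hvz : hh v z = 0 := (h_eq_zero_comm hF).1 hzv
  have hw : ∀ a b : F, hh (z + a • v) (z + b • v) = 0 := fun a b => by
    rw [h_add_left, h_add_right hF, h_add_right hF, h_smul_left, h_smul_right hF, h_smul_left,
      h_smul_right hF, hz, hzv, hvz, hv]
    ring
  have hwv : ∀ a : F, hh (z + a • v) v = 0 := fun a => by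
    rw [h_add_left, h_smul_left, hzv, hv, mul_zero, add_zero]
  have hwz : ∀ a : F, hh (z + a • v) z = 0 := fun a => by
    rw [h_add_left, h_smul_left, hz, hvz, mul_zero, add_zero]
  intro A hA
  have hc' : -c + (-c) ^ q = 0 := by rw [neg_pow_q hF]; linear_combination -hc
  have e : A = tv hF (z + (μ + μ') • v) c (hw _ _) hc * tv hF z c hz hc *
      (tv hF (z + μ • v) (-c) (hw _ _) hc' * tv hF (z + μ' • v) (-c) (hw _ _) hc') :=
    suMat_ext fun x => by
      rw [hA, suMat_mulVec_mul, suMat_mulVec_mul, suMat_mulVec_mul, tv_mulVec, tv_mulVec, tv_mulVec,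
        tv_mulVec, ut_mulVec]
      simp only [h_add_left, h_smul_left, hz, hv, hzv, hvz, mul_zero, add_zero, h_add_right hF,
        h_smul_right hF, add_pow_q hF]
      module
  rw [e]
  have n1 : Mem K (z + μ • v) (-c) := mem_neg D (hw _ _) hc h1
  have n2 : Mem K (z + μ' • v) (-c) := mem_neg D (hw _ _) hc h2
  exact mul_mem (mul_mem (h3 _ rfl) (h0 _ rfl)) (mul_mem (n1 _ rfl) (n2 _ rfl))

/-- Shifting a centre along `v`. -/
theorem mem_shift {K : Subgroup (SU n F q)} {z v y : V} {c d : F} (h : Mem K z c)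
    (hzv : hh z v = 0) (hv : hh v v = 0) (hy : hh y y = 0) (hvy : hh v y = 0)
    (hd : d + d ^ q = 0) (h1 : Mem K (v + y) d) (h2 : Mem K y d) :
    Mem K (z + (d * hh z y) • v) c := by
  have hF := D.hF
  have hyv : hh y v = 0 := (h_eq_zero_comm hF).1 hvy
  have hm : hh (v + y) (v + y) = 0 := by
    rw [h_add_left, h_add_right hF, h_add_right hF, hv, hy, hvy, hyv]; ring
  have hd' : -d + (-d) ^ q = 0 := by rw [neg_pow_q hF]; linear_combination -hd
  have s1 := mem_step D h h1 hm hd
  have s2 := mem_step D s1 (mem_neg D hy hd h2) hy hd'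
  rw [h_add_left (z) _ y, h_smul_left, h_add_left v y y, hvy, hy, h_add_right hF, hzv, zero_add,
    add_zero, mul_zero, add_zero] at s2
  rw [neg_mul, neg_smul, smul_add] at s2
  rwa [show z + ((d * hh z y) • v + (d * hh z y) • y) + -((d * hh z y) • y) =
    z + (d * hh z y) • v by abel] at s2

theorem mem_cross {K : Subgroup (SU n F q)} {z v y y' : V} {c d d' : F} (h : Mem K z c)
    (hc : c + c ^ q = 0) (hz : hh z z = 0) (hzv : hh z v = 0) (hv : hh v v = 0)
    (hy : hh y y = 0) (hvy : hh v y = 0) (hy' : hh y' y' = 0) (hvy' : hh v y' = 0)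
    (hd : d + d ^ q = 0) (hd' : d' + d' ^ q = 0) (h1 : Mem K (v + y) d) (h2 : Mem K y d)
    (h1' : Mem K (v + y') d') (h2' : Mem K y' d') :
    Mem K v (c * ((d * hh z y) * (d' * hh z y') ^ q + (d' * hh z y') * (d * hh z y) ^ q)) := by
  have hF := D.hF
  have s1 := mem_shift D h hzv hv hy hvy hd h1 h2
  have s2 := mem_shift D h hzv hv hy' hvy' hd' h1' h2'
  have hz1v : hh (z + (d * hh z y) • v) v = 0 := by
    rw [h_add_left, h_smul_left, hzv, hv, mul_zero, add_zero]
  have s3 := mem_shift D s1 hz1v hv hy' hvy' hd' h1' h2'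
  rw [h_add_left, h_smul_left, hvy', mul_zero, add_zero, add_assoc, ← add_smul] at s3
  exact mem_four D hz hv hzv hc h s1 s2 s3

/-- An antifixed non-zero element of the small field. -/
theorem exists_anti₀ : ∃ c : F₀, c ≠ 0 ∧ (c : F) + (c : F) ^ q = 0 := by
  obtain ⟨κ, hκ⟩ := exists_moved D
  refine ⟨κ - sig D κ, fun h => hκ ?_, ?_⟩
  · rw [← sig_val D, ← sub_eq_zero.1 h]
  · rw [AddSubgroupClass.coe_sub, sig_val, sub_pow_q D.hF, pow_q_pow_q D.hF]
    ring

theorem exists_trace₀ {t : F₀} (ht : (t : F) ^ q = t) :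
    ∃ κ : F₀, (κ : F) + (κ : F) ^ q = t := by
  obtain ⟨κ, hκ⟩ := H38.exists_trace_eq (σ := (sig D : F₀ →+* F₀)) (sigma_ne (unitary₀ D))
    (unitary₀ D).involutive (t := t) (Subtype.ext ht)
  exact ⟨κ, congrArg Subtype.val hκ⟩

/-- Data: the group contains the rational transvections. -/
def HasRat (K : Subgroup (SU n F q)) : Prop :=
  ∀ u : Fin n → F₀, RIso D u → ∀ c : F, c ∈ F₀ → c + c ^ q = 0 → Mem K (emb P u) c

theorem riso_smul {u : Fin n → F₀} (h : RIso D u) (k : F₀) : RIso D (k • u) := by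
  show hh _ _ = 0
  rw [emb_smul, h_smul_left, h_smul_right D.hF, h]
  simp

theorem riso_add {u v : Fin n → F₀} (hu : RIso D u) (hv : RIso D v)
    (huv : hh (emb P u) (emb P v) = 0) : RIso D (u + v) := by
  show hh _ _ = 0
  rw [emb_add, h_add_left, h_add_right D.hF, h_add_right D.hF, hu, hv, huv,
    (h_eq_zero_comm D.hF).1 huv]
  simp

/-- Some rational centre has an irrational scalar. -/
def GoodScalar (K : Subgroup (SU n F q)) : Prop :=
  ∃ u : Fin n → F₀, u ≠ 0 ∧ RIso D u ∧ ∃ d : F, d + d ^ q = 0 ∧ d ∉ F₀ ∧ Mem K (emb P u) d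

theorem cross_rat {K : Subgroup (SU n F q)} (hK : HasRat D K) {z : V} {c : F} (h : Mem K z c)
    (hc0 : c ≠ 0) (hc : c + c ^ q = 0) (hcF : c ∈ F₀) (hz : hh z z = 0) {v : Fin n → F₀}
    (hv : RIso D v) (hv0 : v ≠ 0) (hzv : hh z (emb P v) = 0) (hno : ¬ GoodScalar D K)
    {y y' : Fin n → F₀} (hy : RIso D y) (hy' : RIso D y')
    (hvy : hh (emb P v) (emb P y) = 0) (hvy' : hh (emb P v) (emb P y') = 0) :
    hh z (emb P y) * hh z (emb P y') ^ q ∈ F₀ := by
  have hF := D.hF
  obtain ⟨c₀, hc₀0, hc₀⟩ := exists_anti₀ D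
  set x := hh z (emb P y) * hh z (emb P y') ^ q with hx
  have hcq : c ^ q = -c := eq_neg_of_add_eq_zero_right hc
  have hc₀q : (c₀ : F) ^ q = -(c₀ : F) := eq_neg_of_add_eq_zero_right hc₀
  have key : ∀ κ : F₀, (κ : F) ^ q * x + ((κ : F) ^ q * x) ^ q ∈ F₀ := by
    intro κ
    have hκy := riso_smul D hy κ
    have hvκy : hh (emb P v) (emb P (κ • y)) = 0 := by
      rw [emb_smul, h_smul_right hF, hvy, mul_zero]
    have hm := mem_cross D h hc hz hzv hv hκy hvκy hy' hvy' hc₀ hc₀
      (by rw [← emb_add]; exact hK _ (riso_add D hv hκy hvκy) _ c₀.2 hc₀)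
      (hK _ hκy _ c₀.2 hc₀)
      (by rw [← emb_add]; exact hK _ (riso_add D hv hy' hvy') _ c₀.2 hc₀)
      (hK _ hy' _ c₀.2 hc₀)
    rw [emb_smul, h_smul_right hF] at hm
    have e : c * ((c₀ : F) * ((κ : F) ^ q * hh z (emb P y)) * ((c₀ : F) * hh z (emb P y')) ^ q +
        (c₀ : F) * hh z (emb P y') * ((c₀ : F) * ((κ : F) ^ q * hh z (emb P y))) ^ q) =
        (-(c * (c₀ : F) * (c₀ : F))) * ((κ : F) ^ q * x + ((κ : F) ^ q * x) ^ q) := by
      simp only [hx, mul_pow, pow_q_pow_q hF, hc₀q]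
      ring
    rw [e] at hm
    by_contra hnF
    refine hno ⟨v, hv0, hv, _, ?_, fun hmem => hnF ?_, hm⟩
    · rw [mul_pow (-(c * (c₀ : F) * (c₀ : F))), trace_fixed hF, neg_pow_q hF]
      simp only [mul_pow (c * (c₀ : F)), mul_pow c, hcq, hc₀q]
      ring
    · have hne : -(c * (c₀ : F) * (c₀ : F)) ≠ 0 := by
        refine neg_ne_zero.2 (mul_ne_zero (mul_ne_zero hc0 ?_) ?_) <;>
          exact fun h => hc₀0 (Subtype.ext h)
      have := div_mem hmem (neg_mem (mul_mem (mul_mem hcF c₀.2) c₀.2))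
      rwa [mul_div_cancel_left₀ _ hne] at this
  obtain ⟨κ, hκ⟩ := exists_moved D
  have k1 := key 1
  have k2 := key κ
  rw [OneMemClass.coe_one, one_pow, one_mul] at k1
  rw [mul_pow, pow_q_pow_q hF] at k2
  have : x = (((κ : F) ^ q * x + (κ : F) * x ^ q) - (κ : F) * (x + x ^ q)) / ((κ : F) ^ q - κ) := by
    rw [eq_div_iff (sub_ne_zero.2 hκ)]
    ring
  rw [this]
  exact div_mem (sub_mem k2 (mul_mem κ.2 k1)) (sub_mem (pow_mem' D κ.2) κ.2)

theorem exists_good_of_orth (hn : 7 ≤ n) {K : Subgroup (SU n F q)} (hK : HasRat D K) {z : V}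
    {c : F} (h : Mem K z c) (hc0 : c ≠ 0) (hc : c + c ^ q = 0) (hcF : c ∈ F₀) (hz : hh z z = 0)
    (hpt : ∀ (l : F) (u : Fin n → F₀), z ≠ l • emb P u) {v : Fin n → F₀} (hv : RIso D v)
    (hv0 : v ≠ 0) (hzv : hh z (emb P v) = 0) : GoodScalar D K := by
  by_contra hno
  have hF := D.hF
  have hve : f₀ D v v = 0 := Subtype.ext hv
  have hiso : ∀ {x : Fin n → F₀}, f₀ D x x = 0 → RIso D x := fun hx => congrArg Subtype.val hx
  have horth : ∀ {x : Fin n → F₀}, f₀ D x v = 0 → hh (emb P v) (emb P x) = 0 := fun hx =>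
    (h_eq_zero_comm hF).1 (congrArg Subtype.val hx)
  -- products of values on the rational orthogonal complement of v
  have hprod : ∀ x x' : Fin n → F₀, f₀ D x v = 0 → f₀ D x' v = 0 →
      hh z (emb P x) * hh z (emb P x') ^ q ∈ F₀ := by
    intro x x' hx hx'
    let N₁ : (Fin n → F₀) → Submodule F₀ (Fin n → F₀) := fun b =>
      { carrier := {a | hh z (emb P a) * hh z (emb P b) ^ q ∈ F₀}
        zero_mem' := by
          show hh z (emb P 0) * _ ∈ F₀
          rw [emb_zero, h_zero_right hF, zero_mul]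
          exact F₀.zero_mem
        add_mem' := fun {a a'} ha ha' => by
          show hh z (emb P (a + a')) * _ ∈ F₀
          rw [emb_add, h_add_right hF, add_mul]
          exact add_mem ha ha'
        smul_mem' := fun k a ha => by
          show hh z (emb P (k • a)) * _ ∈ F₀
          rw [emb_smul, h_smul_right hF, mul_assoc]
          exact mul_mem (pow_mem' D k.2) ha }
    let N₂ : (Fin n → F₀) → Submodule F₀ (Fin n → F₀) := fun a =>
      { carrier := {b | hh z (emb P a) * hh z (emb P b) ^ q ∈ F₀}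
        zero_mem' := by
          show _ * hh z (emb P 0) ^ q ∈ F₀
          rw [emb_zero, h_zero_right hF, zero_pow (q_ne_zero hF), mul_zero]
          exact F₀.zero_mem
        add_mem' := fun {b b'} hb hb' => by
          show _ * hh z (emb P (b + b')) ^ q ∈ F₀
          rw [emb_add, h_add_right hF, add_pow_q hF, mul_add]
          exact add_mem hb hb'
        smul_mem' := fun k b hb => by
          show _ * hh z (emb P (k • b)) ^ q ∈ F₀
          rw [emb_smul, h_smul_right hF, mul_pow, pow_q_pow_q hF, mul_left_comm]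
          exact mul_mem k.2 hb }
    have s1 : ∀ b, f₀ D b b = 0 → f₀ D b v = 0 → x ∈ N₁ b := fun b hb hbv =>
      (Submodule.span_le (p := N₁ b)).2 (fun a ha => cross_rat D hK h hc0 hc hcF hz hv hv0 hzv hno
        (hiso ha.1) (hiso hb) (horth ha.2) (horth hbv)) (exists_rel_iso₀ D hn hve hv0 hx)
    exact (Submodule.span_le (p := N₂ x)).2 (fun b hb => s1 b hb.1 hb.2)
      (exists_rel_iso₀ D hn hve hv0 hx')
  -- a vector with value 1 against v
  obtain ⟨g, hgi, hgv⟩ := exists_iso_one (unitary₀ D) (by rw [Fintype.card_fin]; exact hn) hv0 1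
  have hgv' : hh (emb P g) (emb P v) = 1 := congrArg Subtype.val hgv
  have hvg : hh (emb P v) (emb P g) = 1 := by rw [h_symm hF (emb P g), hgv', one_pow]
  have hdecomp : ∀ u : Fin n → F₀, f₀ D (u - f₀ D u v • g) v = 0 := fun u => by
    rw [sub_eq_add_neg, (unitary₀ D).add_left, ← neg_smul, (unitary₀ D).smul_left, hgv, mul_one,
      add_neg_cancel]
  obtain ⟨x₁, hx₁, hl0⟩ : ∃ x, f₀ D x v = 0 ∧ hh z (emb P x) ≠ 0 := by
    by_contra hc'
    push Not at hc'
    refine hpt (hh z (emb P g)) v ?_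
    rw [← sub_eq_zero]
    refine eq_zero_of_rat D fun u => ?_
    have h1 := hc' _ (hdecomp u)
    rw [sub_eq_add_neg, emb_add, ← neg_smul, emb_smul, h_add_right hF, h_smul_right hF,
      NegMemClass.coe_neg, neg_pow_q hF, f₀_val, ← h_symm hF (emb P u) (emb P v)] at h1
    rw [h_sub_right hF, h_smul_right hF, h_symm hF z (emb P u), h_symm hF (emb P v) (emb P u),
      ← mul_pow, ← sub_pow_q hF, pow_q_eq_zero hF]
    linear_combination h1
  set l := hh z (emb P x₁) with hl
  have hNl : l * l ^ q ∈ F₀ := hprod x₁ x₁ hx₁ hx₁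
  set z' := l⁻¹ • z with hz'
  have hz'i : hh z' z' = 0 := by rw [hz', h_smul_left, h_smul_right hF, hz, mul_zero, mul_zero]
  have hz'v : hh z' (emb P v) = 0 := by rw [hz', h_smul_left, hzv, mul_zero]
  have hlq : l⁻¹ * l⁻¹ ^ q ≠ 0 := mul_ne_zero (inv_ne_zero hl0) (pow_ne_zero _ (inv_ne_zero hl0))
  have hinv : l⁻¹ * l⁻¹ ^ q ∈ F₀ := by rw [inv_pow, ← mul_inv]; exact F₀.inv_mem hNl
  set c' := c / (l⁻¹ * l⁻¹ ^ q) with hc'def
  have hm' : Mem K z' c' := mem_smul D h (inv_ne_zero hl0)
  have hc'0 : c' ≠ 0 := div_ne_zero hc0 hlq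
  have hc' : c' + c' ^ q = 0 := by
    have e : (l⁻¹ * l⁻¹ ^ q) ^ q = l⁻¹ * l⁻¹ ^ q := by rw [mul_pow, pow_q_pow_q hF, mul_comm]
    rw [hc'def, div_pow, e, ← add_div, hc, zero_div]
  have hc'F : c' ∈ F₀ := div_mem hcF hinv
  have hval : ∀ x, f₀ D x v = 0 → hh z' (emb P x) ∈ F₀ := by
    intro x hx
    have e : hh z' (emb P x) = (hh z (emb P x) * l ^ q) / (l * l ^ q) := by
      rw [hz', h_smul_left, mul_div_mul_right _ _ (pow_ne_zero _ hl0), inv_mul_eq_div]
    rw [e]
    exact div_mem (hprod x x₁ hx hx₁) hNl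
  set k := hh z' (emb P g) with hk
  have hzl : z = l • z' := by rw [hz', smul_smul, mul_inv_cancel₀ hl0, one_smul]
  clear_value z'
  have hvals : ∀ u : Fin n → F₀, hh (emb P u) (z' - k • emb P v) ∈ F₀ := by
    intro u
    have h1 := hval _ (hdecomp u)
    rw [sub_eq_add_neg, emb_add, ← neg_smul, emb_smul, h_add_right hF, h_smul_right hF,
      NegMemClass.coe_neg, neg_pow_q hF, f₀_val, ← h_symm hF (emb P u) (emb P v), ← hk] at h1
    rw [h_sub_right hF, h_smul_right hF, h_symm hF z' (emb P u), h_symm hF (emb P v) (emb P u),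
      ← mul_pow, ← sub_pow_q hF]
    refine pow_mem' D ?_
    convert h1 using 1
    ring
  obtain ⟨a, ha⟩ := ufv_surjective (unitary₀ D)
    (fun i => (⟨_, hvals (Pi.single i 1)⟩ : F₀))
  have hza : z' = emb P a + k • emb P v := by
    have h0 : z' - k • emb P v - emb P a = 0 := by
      refine eq_zero_of_rat D fun u => ?_
      have e1 : u = ∑ i, u i • Pi.single i (1 : F₀) := by
        conv_lhs => rw [pi_eq_sum_univ' u]
      have e2 : ∀ i, hh (emb P (Pi.single i (1 : F₀))) (z' - k • emb P v - emb P a) = 0 := fun i => by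
        have := congrArg Subtype.val (congrFun ha i)
        rw [h_sub_right hF, sub_eq_zero]
        exact this.symm
      rw [e1]
      clear e1
      induction (Finset.univ : Finset (Fin n)) using Finset.induction_on with
      | empty => rw [Finset.sum_empty, emb_zero, h_zero_left]
      | insert j s hj ih =>
        rw [Finset.sum_insert hj, emb_add, emb_smul, h_add_left, h_smul_left, e2, ih, mul_zero,
          add_zero]
    rw [← sub_eq_zero, ← h0]
    abel
  have hvv : hh (emb P v) (emb P v) = 0 := hv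
  have hav : hh (emb P a) (emb P v) = 0 := by
    rwa [hza, h_add_left, h_smul_left, hvv, mul_zero, add_zero] at hz'v
  have haa : hh (emb P a) (emb P a) = 0 := by
    rw [hza, h_add_left, h_add_right hF, h_add_right hF, h_smul_left, h_smul_right hF,
      h_smul_right hF, h_smul_left, hav, (h_eq_zero_comm hF).1 hav, hvv] at hz'i
    simpa using hz'i
  have hk0 : k ∉ F₀ := fun hkF => hpt l (a + (⟨k, hkF⟩ : F₀) • v) (by
    rw [emb_add, emb_smul, hzl, hza])
  have hind : ∀ r s : F₀, r • a + s • v = 0 → r = 0 ∧ s = 0 := by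
    intro r s hrs
    by_cases hr : r = 0
    · rw [hr, zero_smul, zero_add, smul_eq_zero] at hrs
      exact ⟨hr, hrs.resolve_right hv0⟩
    · exfalso
      have e : a = (-r⁻¹ * s) • v := by
        have h' := congrArg (fun x => r⁻¹ • x) hrs
        simp only [smul_add, smul_smul, smul_zero, inv_mul_cancel₀ hr, one_smul] at h'
        rw [neg_mul, neg_smul, eq_neg_iff_add_eq_zero, h']
      exact hpt (l * (((-r⁻¹ * s : F₀) : F) + k)) v (by
        rw [hzl, hza, e, emb_smul, ← add_smul, smul_smul])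
  let W := Submodule.span F₀ (Set.range ![a, v])
  have hWmem : a ∈ W ∧ v ∈ W := ⟨Submodule.subset_span ⟨0, rfl⟩, Submodule.subset_span ⟨1, rfl⟩⟩
  have hWiso : ∀ x ∈ W, ∀ y ∈ W, f₀ D x y = 0 := by
    have hgen : ∀ i j, f₀ D (![a, v] i) (![a, v] j) = 0 := by
      intro i j
      apply Subtype.ext
      rw [f₀_val]
      fin_cases i <;> fin_cases j <;> first | exact haa | exact hav | exact (h_eq_zero_comm hF).1 hav | exact hv
    intro x hx y hy
    induction hx using Submodule.span_induction with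
    | mem x hx =>
      obtain ⟨i, rfl⟩ := hx
      induction hy using Submodule.span_induction with
      | mem y hy => obtain ⟨j, rfl⟩ := hy; exact hgen i j
      | zero => exact uf_zero_right (unitary₀ D) _
      | add y y' _ _ h1 h2 => rw [uf_add_right (unitary₀ D), h1, h2, add_zero]
      | smul r y _ h1 => rw [uf_smul_right (unitary₀ D), h1, mul_zero]
    | zero => exact uf_zero_left (unitary₀ D) _
    | add x x' _ _ h1 h2 => rw [(unitary₀ D).add_left, h1, h2, add_zero]
    | smul r x _ h1 => rw [(unitary₀ D).smul_left, h1, mul_zero]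
  obtain ⟨v', hv'i, hv'W, hv'n⟩ := exists_iso_extend (unitary₀ D) W hWiso (by
    have := (finrank_range_le_card (R := F₀) ![a, v]).trans_eq (Fintype.card_fin 2)
    rw [Fintype.card_fin]
    change 2 * Module.finrank F₀ W + 2 ≤ n
    change Module.finrank F₀ W ≤ 2 at this
    omega)
  have hv'a : hh (emb P v') (emb P a) = 0 := congrArg Subtype.val (hv'W a hWmem.1)
  have hv'v : hh (emb P v') (emb P v) = 0 := congrArg Subtype.val (hv'W v hWmem.2)
  have hv'0 : v' ≠ 0 := fun h0 => hv'n (h0 ▸ W.zero_mem)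
  have hind3 : ∀ r s t : F₀, r • v' + s • a + t • v = 0 → r = 0 ∧ s = 0 ∧ t = 0 := by
    intro r s t h3
    by_cases hr : r = 0
    · rw [hr, zero_smul, zero_add] at h3
      exact ⟨hr, hind s t h3⟩
    · exfalso
      apply hv'n
      have e : v' = (-r⁻¹) • (s • a + t • v) := by
        have h' := congrArg (fun x => r⁻¹ • x) h3
        simp only [smul_add, smul_smul, smul_zero, inv_mul_cancel₀ hr, one_smul] at h'
        rw [neg_smul, eq_neg_iff_add_eq_zero, smul_add, smul_smul, smul_smul, ← add_assoc, h']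
      rw [e]
      exact W.smul_mem _ (W.add_mem (W.smul_mem _ hWmem.1) (W.smul_mem _ hWmem.2))
  have h7 : 7 ≤ Fintype.card (Fin n) := by rw [Fintype.card_fin]; exact hn
  obtain ⟨y, hyi, hyv', hya, hyv⟩ := exists_iso_three (unitary₀ D) h7 v' a v hind3 0 1 0
  obtain ⟨y', hy'i, hy'v', hy'a, hy'v⟩ := exists_iso_three (unitary₀ D) h7 v' a v hind3 0 0 1
  have hz'v' : hh z' (emb P v') = 0 := by
    rw [hza, h_add_left, h_smul_left, (h_eq_zero_comm hF).1 hv'a, (h_eq_zero_comm hF).1 hv'v,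
      mul_zero, add_zero]
  have hv'riso : RIso D v' := hiso hv'i
  have := cross_rat D hK hm' hc'0 hc' hc'F hz'i hv'riso hv'0 hz'v' hno (hiso hyi) (hiso hy'i)
    ((h_eq_zero_comm hF).1 (congrArg Subtype.val hyv'))
    ((h_eq_zero_comm hF).1 (congrArg Subtype.val hy'v'))
  have e1 : hh (emb P a) (emb P y) = 1 := by
    rw [h_symm hF (emb P y), show hh (emb P y) (emb P a) = 1 from congrArg Subtype.val hya, one_pow]
  have e2 : hh (emb P v) (emb P y) = 0 := (h_eq_zero_comm hF).1 (congrArg Subtype.val hyv)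
  have e3 : hh (emb P a) (emb P y') = 0 := (h_eq_zero_comm hF).1 (congrArg Subtype.val hy'a)
  have e4 : hh (emb P v) (emb P y') = 1 := by
    rw [h_symm hF (emb P y'), show hh (emb P y') (emb P v) = 1 from congrArg Subtype.val hy'v, one_pow]
  rw [hza, h_add_left, h_smul_left, h_add_left, h_smul_left, e1, e2, e3, e4, mul_zero, add_zero,
    one_mul, mul_one, zero_add] at this
  apply hk0
  have := pow_mem' D this
  rwa [pow_q_pow_q hF] at this

theorem mem_transfer_orth (hn : 7 ≤ n) {K : Subgroup (SU n F q)} (hK : HasRat D K)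
    {u v : Fin n → F₀} (hu : RIso D u) (hv : RIso D v)
    (hind : ∀ r s : F₀, r • u + s • v = 0 → r = 0 ∧ s = 0)
    (huv : hh (emb P u) (emb P v) = 0) {c d d' : F} (hc : c + c ^ q = 0)
    (h : Mem K (emb P u) c) (hd : d + d ^ q = 0) (hd' : d' + d' ^ q = 0)
    (hmd : ∀ x, RIso D x → Mem K (emb P x) d) (hmd' : ∀ x, RIso D x → Mem K (emb P x) d')
    (t : F₀) (ht : (t : F) ^ q = t) : Mem K (emb P v) (-(c * d * d' * t)) := by
  have hF := D.hF
  obtain ⟨y, hyi, hyv, hyu, -⟩ := exists_iso_two (unitary₀ D) (by rw [Fintype.card_fin]; exact hn)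
    v u (fun r s h => ⟨(hind s r (by rw [← h]; abel)).2, (hind s r (by rw [← h]; abel)).1⟩) 0 1
  have hy : RIso D y := congrArg Subtype.val hyi
  have hvy : hh (emb P v) (emb P y) = 0 := (h_eq_zero_comm hF).1 (congrArg Subtype.val hyv)
  have huy : hh (emb P u) (emb P y) = 1 := by
    rw [h_symm hF (emb P y), show hh (emb P y) (emb P u) = 1 from congrArg Subtype.val hyu, one_pow]
  obtain ⟨κ, hκ⟩ := exists_trace₀ D (t := t) ht
  have hκy := riso_smul D hy κ
  have hvκy : hh (emb P v) (emb P (κ • y)) = 0 := by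
    rw [emb_smul, h_smul_right hF, hvy, mul_zero]
  have hm := mem_cross D h hc hu huv hv hy hvy hκy hvκy hd hd'
    (by rw [← emb_add]; exact hmd _ (riso_add D hv hy hvy)) (hmd _ hy)
    (by rw [← emb_add]; exact hmd' _ (riso_add D hv hκy hvκy)) (hmd' _ hκy)
  rw [emb_smul, h_smul_right hF, huy, mul_one, mul_one, mul_pow, pow_q_pow_q hF,
    eq_neg_of_add_eq_zero_right hd, eq_neg_of_add_eq_zero_right hd'] at hm
  convert hm using 1
  rw [← hκ]
  ring

/-- One irrational rational-centred scalar gives everything. -/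
theorem eq_top_of_good (hn : 7 ≤ n) {K : Subgroup (SU n F q)} (hK : HasRat D K)
    (hg : GoodScalar D K) : K = ⊤ := by
  have hF := D.hF
  obtain ⟨u, hu0, hu, e, he, heF, hue⟩ := hg
  obtain ⟨c₀, hc₀0, hc₀⟩ := exists_anti₀ D
  have hc₀0' : (c₀ : F) ≠ 0 := fun h => hc₀0 (Subtype.ext h)
  have hc₀q : (c₀ : F) ^ q = -(c₀ : F) := eq_neg_of_add_eq_zero_right hc₀
  have hcard : 7 ≤ Fintype.card (Fin n) := by rw [Fintype.card_fin]; exact hn
  have hmc₀ : ∀ x, RIso D x → Mem K (emb P x) c₀ := fun x hx => hK x hx _ c₀.2 hc₀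
  have step : ∀ a b : Fin n → F₀, RIso D a → RIso D b →
      (∀ r s : F₀, r • a + s • b = 0 → r = 0 ∧ s = 0) → hh (emb P a) (emb P b) = 0 →
      ∀ c : F, c + c ^ q = 0 → Mem K (emb P a) c → Mem K (emb P b) c := by
    intro a b ha hb hind hab c hc h
    have ht : ((-(c₀ * c₀)⁻¹ : F₀) : F) ^ q = ((-(c₀ * c₀)⁻¹ : F₀) : F) := by
      push_cast
      rw [neg_pow_q hF]
      simp only [inv_pow, mul_pow, hc₀q, inv_neg, neg_mul_neg, mul_inv]
    have := mem_transfer_orth D hn hK ha hb hind hab hc h hc₀ hc₀ hmc₀ hmc₀ _ ht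
    convert this using 1
    push_cast
    field_simp
  have mk2 : ∀ a b : Fin n → F₀, a ≠ 0 → (∀ k : F₀, b ≠ k • a) →
      ∀ r s : F₀, r • a + s • b = 0 → r = 0 ∧ s = 0 := by
    intro a b ha0 hb r s h
    by_cases hs : s = 0
    · rw [hs, zero_smul, add_zero, smul_eq_zero] at h
      exact ⟨h.resolve_right ha0, hs⟩
    · exfalso
      apply hb (-s⁻¹ * r)
      have h' := congrArg (fun x => s⁻¹ • x) h
      simp only [smul_add, smul_smul, smul_zero, inv_mul_cancel₀ hs, one_smul] at h'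
      rw [neg_mul, neg_smul, eq_neg_iff_add_eq_zero, ← h']
      abel
  have trans' : ∀ a b : Fin n → F₀, a ≠ 0 → b ≠ 0 → RIso D a → RIso D b →
      ∀ c : F, c + c ^ q = 0 → Mem K (emb P a) c → Mem K (emb P b) c := by
    intro a b ha0 hb0 ha hb c hc h
    by_cases hdep : ∃ k : F₀, b = k • a
    · obtain ⟨k, rfl⟩ := hdep
      obtain ⟨w, hwi, hwa, hwn⟩ := exists_iso_extend (unitary₀ D) (Submodule.span F₀ {a})
        (fun x hx y hy => by
          obtain ⟨r, rfl⟩ := Submodule.mem_span_singleton.1 hx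
          obtain ⟨s, rfl⟩ := Submodule.mem_span_singleton.1 hy
          rw [(unitary₀ D).smul_left, uf_smul_right (unitary₀ D),
            show f₀ D a a = 0 from Subtype.ext ha, mul_zero, mul_zero])
        (by rw [finrank_span_singleton ha0, Fintype.card_fin]; omega)
      have hw : RIso D w := congrArg Subtype.val hwi
      have hw0 : w ≠ 0 := fun h0 => hwn (h0 ▸ Submodule.zero_mem _)
      have hwa' : hh (emb P w) (emb P a) = 0 :=
        congrArg Subtype.val (hwa a (Submodule.mem_span_singleton_self a))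
      have hne : ∀ j : F₀, w ≠ j • a := fun j hj =>
        hwn (hj ▸ Submodule.smul_mem _ _ (Submodule.mem_span_singleton_self a))
      refine step w _ hw hb (fun r s h0 => ?_) (by rw [emb_smul, h_smul_right hF, hwa', mul_zero]) c hc
        (step a w ha hw (mk2 a w ha0 hne) ((h_eq_zero_comm hF).1 hwa') c hc h)
      obtain ⟨h1, h2⟩ := mk2 a w ha0 hne (s * k) r (by rw [← h0, smul_smul]; abel)
      exact ⟨h2, (mul_eq_zero.1 h1).resolve_right fun hk => hb0 (by rw [hk, zero_smul])⟩
    · push Not at hdep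
      by_cases hab : hh (emb P a) (emb P b) = 0
      · exact step a b ha hb (mk2 a b ha0 hdep) hab c hc h
      obtain ⟨w, hwi, hwa, hwb, hw0⟩ :=
        exists_iso_two (unitary₀ D) hcard a b (mk2 a b ha0 hdep) 0 0
      have hw : RIso D w := congrArg Subtype.val hwi
      have hwa' : hh (emb P w) (emb P a) = 0 := congrArg Subtype.val hwa
      have hwb' : hh (emb P w) (emb P b) = 0 := congrArg Subtype.val hwb
      have haw : ∀ j : F₀, w ≠ j • a := fun j hj => by
        rw [hj, emb_smul, h_smul_left, mul_eq_zero] at hwb'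
        exact hw0 (by rw [hj, show j = 0 from Subtype.ext (hwb'.resolve_right hab), zero_smul])
      have hbw : ∀ j : F₀, w ≠ j • b := fun j hj => by
        rw [hj, emb_smul, h_smul_left, mul_eq_zero] at hwa'
        exact hw0 (by
          rw [hj, show j = 0 from Subtype.ext (hwa'.resolve_right fun h' => hab
            ((h_eq_zero_comm hF).1 h')), zero_smul])
      refine step w b hw hb (fun r s h0 => ?_) hwb' c hc
        (step a w ha hw (mk2 a w ha0 haw) ((h_eq_zero_comm hF).1 hwa') c hc h)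
      exact (mk2 b w hb0 hbw s r (by rw [← h0]; abel)).symm
  -- the common scalars
  let C : Set F := {c | c + c ^ q = 0 ∧ ∀ x : Fin n → F₀, x ≠ 0 → RIso D x → Mem K (emb P x) c}
  have hC : ∀ c, c + c ^ q = 0 → Mem K (emb P u) c → c ∈ C := fun c hc h =>
    ⟨hc, fun x hx0 hx => trans' u x hu0 hx0 hu hx c hc h⟩
  have hCzero : ∀ x : Fin n → F₀, x = 0 → ∀ c : F, Mem K (emb P x) c := by
    rintro x rfl c A hA
    have : A = 1 := suMat_ext fun y => by
      rw [hA, suMat_one, ut_mulVec, emb_zero, smul_zero, add_zero, one_mulVec]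
    exact this ▸ one_mem K
  have hCall : ∀ c ∈ C, ∀ x : Fin n → F₀, RIso D x → Mem K (emb P x) c := fun c hc x hx => by
    by_cases hx0 : x = 0
    · exact hCzero x hx0 c
    · exact hc.2 x hx0 hx
  obtain ⟨w, hwi, hwu, hwn⟩ := exists_iso_extend (unitary₀ D) (Submodule.span F₀ {u})
    (fun x hx y hy => by
      obtain ⟨r, rfl⟩ := Submodule.mem_span_singleton.1 hx
      obtain ⟨s, rfl⟩ := Submodule.mem_span_singleton.1 hy
      rw [(unitary₀ D).smul_left, uf_smul_right (unitary₀ D),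
        show f₀ D u u = 0 from Subtype.ext hu, mul_zero, mul_zero])
    (by rw [finrank_span_singleton hu0, Fintype.card_fin]; omega)
  have hw : RIso D w := congrArg Subtype.val hwi
  have huw : hh (emb P u) (emb P w) = 0 := (h_eq_zero_comm hF).1
    (congrArg Subtype.val (hwu u (Submodule.mem_span_singleton_self u)))
  have hw0 : w ≠ 0 := fun h0 => hwn (h0 ▸ Submodule.zero_mem _)
  have huwind := mk2 u w hu0 fun j hj =>
    hwn (hj ▸ Submodule.smul_mem _ _ (Submodule.mem_span_singleton_self u))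
  have hC3 : ∀ a ∈ C, ∀ b ∈ C, ∀ d ∈ C, a * b * d ∈ C := by
    intro a ha b hb d hd
    have ha' : -a + (-a) ^ q = 0 := by rw [neg_pow_q hF]; linear_combination -ha.1
    have hm := mem_transfer_orth D hn hK hu hw huwind huw ha'
      (mem_neg D hu ha.1 (hCall a ha u hu)) hb.1 hd.1 (hCall b hb) (hCall d hd) 1 (one_pow q)
    have e1 : -(-a * b * d * ((1 : F₀) : F)) = a * b * d := by
      rw [OneMemClass.coe_one]; ring
    rw [e1] at hm
    have hanti : a * b * d + (a * b * d) ^ q = 0 := by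
      rw [mul_pow, mul_pow, eq_neg_of_add_eq_zero_right ha.1, eq_neg_of_add_eq_zero_right hb.1,
        eq_neg_of_add_eq_zero_right hd.1]
      ring
    exact ⟨hanti, fun x hx0 hx => trans' w x hw0 hx0 hw hx _ hanti hm⟩
  have hCF : ∀ c : F₀, (c : F) + (c : F) ^ q = 0 → (c : F) ∈ C := fun c hc =>
    ⟨hc, fun x _ hx => hK x hx _ c.2 hc⟩
  have hinv₀ : ((c₀⁻¹ : F₀) : F) ∈ C := hCF _ (by
    push_cast
    rw [inv_pow, hc₀q, inv_neg, add_neg_cancel])
  let B : Subring F :=
    { carrier := {x | x * (c₀ : F) ∈ C}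
      one_mem' := by show (1 : F) * _ ∈ C; rw [one_mul]; exact hCF c₀ hc₀
      mul_mem' := fun {x y} hx hy => by
        show x * y * (c₀ : F) ∈ C
        have := hC3 _ hx _ hy _ hinv₀
        push_cast at this
        convert this using 1
        field_simp
      zero_mem' := by
        show (0 : F) * _ ∈ C
        rw [zero_mul]
        exact hCF 0 (by simp [zero_pow (q_ne_zero hF)])
      add_mem' := fun {x y} hx hy => by
        show (x + y) * (c₀ : F) ∈ C
        rw [add_mul]
        exact ⟨by rw [add_pow_q hF]; linear_combination hx.1 + hy.1, fun v hv0 hv =>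
          mem_add D hv hx.1 hy.1 (hx.2 v hv0 hv) (hy.2 v hv0 hv)⟩
      neg_mem' := fun {x} hx => by
        show -x * (c₀ : F) ∈ C
        rw [neg_mul]
        exact ⟨by rw [neg_pow_q hF]; linear_combination -hx.1, fun v hv0 hv =>
          mem_neg D hv hx.1 (hx.2 v hv0 hv)⟩ }
  have hBfix : ∀ x ∈ B, x ^ q = x := fun x hx => by
    have h1 : x * (c₀ : F) + (x * (c₀ : F)) ^ q = 0 := hx.1
    rw [mul_pow, hc₀q] at h1
    have : (x - x ^ q) * (c₀ : F) = 0 := by linear_combination h1
    exact (sub_eq_zero.1 ((mul_eq_zero.1 this).resolve_right hc₀0')).symm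
  have hF1B : ∀ x : F₀, (x : F) ^ q = x → (x : F) ∈ B := fun x hx => by
    show (x : F) * (c₀ : F) ∈ C
    have := hCF (x * c₀) (by rw [MulMemClass.coe_mul, mul_pow, hx, hc₀q]; ring)
    rwa [MulMemClass.coe_mul] at this
  obtain ⟨κ, hκ⟩ := exists_moved D
  obtain ⟨r, hr, -, hcardF⟩ := D.codeg
  set T : F₀ := κ + sig D κ
  set N : F₀ := κ * sig D κ
  have hT : (T : F) = (κ : F) + (κ : F) ^ q := rfl
  have hN : (N : F) = (κ : F) * (κ : F) ^ q := rfl
  have hTB : (T : F) ∈ B := hF1B T (by rw [hT, trace_fixed hF])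
  have hNB : (N : F) ∈ B := hF1B N (by rw [hN, mul_pow, pow_q_pow_q hF, mul_comm])
  have hsq : (κ : F) * κ = (T : F) * κ - (N : F) := by rw [hT, hN]; ring
  let R : Subring F :=
    { carrier := {x | ∃ a ∈ B, ∃ b ∈ B, x = a + (κ : F) * b}
      one_mem' := ⟨1, B.one_mem, 0, B.zero_mem, by ring⟩
      mul_mem' := by
        rintro _ _ ⟨a, ha, b, hb, rfl⟩ ⟨c, hc, d, hd, rfl⟩
        exact ⟨a * c - (N : F) * (b * d), sub_mem (mul_mem ha hc) (mul_mem hNB (mul_mem hb hd)),
          a * d + b * c + (T : F) * (b * d),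
          add_mem (add_mem (mul_mem ha hd) (mul_mem hb hc)) (mul_mem hTB (mul_mem hb hd)),
          by linear_combination (b * d) * hsq⟩
      zero_mem' := ⟨0, B.zero_mem, 0, B.zero_mem, by ring⟩
      add_mem' := by
        rintro _ _ ⟨a, ha, b, hb, rfl⟩ ⟨c, hc, d, hd, rfl⟩
        exact ⟨a + c, add_mem ha hc, b + d, add_mem hb hd, by ring⟩
      neg_mem' := by
        rintro _ ⟨a, ha, b, hb, rfl⟩
        exact ⟨-a, neg_mem ha, -b, neg_mem hb, by ring⟩ }
  have hRinv : ∀ a ∈ R, a⁻¹ ∈ R := by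
    intro a ha
    by_cases h0 : a = 0
    · rw [h0, _root_.inv_zero]; exact R.zero_mem
    · have hq2 : 2 ≤ Fintype.card F := Fintype.one_lt_card
      have : a⁻¹ = a ^ (Fintype.card F - 2) := by
        refine inv_eq_of_mul_eq_one_right ?_
        rw [← pow_succ', show Fintype.card F - 2 + 1 = Fintype.card F - 1 by omega]
        exact FiniteField.pow_card_sub_one_eq_one a h0
      rw [this]
      exact pow_mem ha _
  let KF : Subfield F := { R with inv_mem' := hRinv }
  have hle : F₀ ≤ KF := by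
    intro x hx
    set x' : F₀ := ⟨x, hx⟩
    set b : F₀ := (x' - sig D x') / (κ - sig D κ)
    have hκ' : (κ : F) - (κ : F) ^ q ≠ 0 := sub_ne_zero.2 (Ne.symm hκ)
    have hbv : (b : F) = (x - x ^ q) / ((κ : F) - (κ : F) ^ q) := rfl
    have hbq : (b : F) ^ q = b := by
      rw [hbv, div_pow, sub_pow_q hF, sub_pow_q hF, pow_q_pow_q hF, pow_q_pow_q hF,
        ← neg_sub x, ← neg_sub (κ : F), neg_div_neg_eq]
    have hav : ((x' - κ * b : F₀) : F) = x - (κ : F) * b := rfl
    refine ⟨_, hF1B (x' - κ * b) ?_, _, hF1B b hbq, by rw [hav]; ring⟩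
    have e : (b : F) * ((κ : F) - (κ : F) ^ q) = x - x ^ q := by
      rw [hbv]; exact div_mul_cancel₀ _ hκ'
    rw [hav, sub_pow_q hF, mul_pow, hbq]
    linear_combination e
  have heB : e / (c₀ : F) ∈ B := by
    show e / (c₀ : F) * (c₀ : F) ∈ C
    rw [div_mul_cancel₀ _ hc₀0']
    exact hC e he hue
  have hlt : Nat.card F₀ < Nat.card KF := by
    rcases (Nat.card_le_card_of_injective _ (Set.inclusion_injective hle)).lt_or_eq with h | h
    · exact h
    · exfalso
      apply heF
      have hset : (F₀ : Set F) = KF := Set.eq_of_subset_of_ncard_le hle (by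
        rw [← Nat.card_coe_set_eq, ← Nat.card_coe_set_eq]; exact h.ge) (Set.toFinite _)
      have : e / (c₀ : F) ∈ F₀ := by
        rw [← SetLike.mem_coe, hset]
        exact ⟨_, heB, 0, B.zero_mem, by ring⟩
      have := mul_mem this c₀.2
      rwa [div_mul_cancel₀ _ hc₀0'] at this
  have htop := subfield_eq_top_of_lt hr hcardF hle hlt
  refine eq_top_of_rat_ctr D hn K fun x hx => ⟨hx, fun A c hc hA => ?_⟩
  suffices c ∈ C from hCall c this x hx A hA
  obtain ⟨a, ha, b, hb, hab⟩ : c / (c₀ : F) ∈ KF := htop ▸ Subfield.mem_top _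
  have hfix : (c / (c₀ : F)) ^ q = c / (c₀ : F) := by
    rw [div_pow, hc₀q, eq_neg_of_add_eq_zero_right hc, neg_div_neg_eq]
  rw [hab, add_pow_q hF, mul_pow, hBfix a ha, hBfix b hb] at hfix
  have hb0 : b = 0 := by
    have : ((κ : F) ^ q - κ) * b = 0 := by linear_combination hfix
    exact (mul_eq_zero.1 this).resolve_left (sub_ne_zero.2 hκ)
  rw [hb0, mul_zero, add_zero] at hab
  have hin : c / (c₀ : F) ∈ B := hab ▸ ha
  have hin' : c / (c₀ : F) * (c₀ : F) ∈ C := hin
  rwa [div_mul_cancel₀ _ hc₀0'] at hin'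

end SubSU

end H38
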