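import Cfsg.Agent.S0753

/-! Witt extension for reflexive sesquilinear forms with prescribed values on non-degenerate subspaces. -/

set_option autoImplicit false

namespace H38

variable {F V : Type*} [Field F] [AddCommGroup V] [Module F V] [FiniteDimensional F V] {σ : F →+* F}
  (B : V →ₛₗ[σ] V →ₗ[F] F)

theorem exists_prescribed (hσ : Function.Surjective σ) (hB : ∀ x, (∀ y, B x y = 0) → x = 0) {k : ℕ}
    {b : Fin k → V} (hb : LinearIndependent F b) :
    Function.Surjective (LinearMap.pi fun i => B (b i) : V →ₗ[F] (Fin k → F)) := by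
  rw [← LinearMap.range_eq_top]
  by_contra hne
  obtain ⟨ψ, hψ0, hψ⟩ := Submodule.exists_dual_map_eq_bot_of_lt_top (lt_top_iff_ne_top.mpr hne)
    inferInstance
  choose d hd using fun i => hσ (ψ (Pi.single i 1))
  have hz : ∑ i, d i • b i = 0 := by
    refine hB _ fun y => ?_
    have hmem : ψ (fun i => B (b i) y) = 0 := by
      have : ψ (fun i => B (b i) y) ∈ Submodule.map ψ
          (LinearMap.range (LinearMap.pi fun i => B (b i) : V →ₗ[F] (Fin k → F))) :=
        Submodule.mem_map_of_mem ⟨y, rfl⟩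
      rwa [hψ, Submodule.mem_bot] at this
    rw [← hmem, map_sum, LinearMap.sum_apply, LinearMap.pi_apply_eq_sum_univ ψ]
    refine Finset.sum_congr rfl fun i _ => ?_
    rw [LinearMap.map_smulₛₗ₂, hd, smul_eq_mul, smul_eq_mul, mul_comm]
    congr 2
    ext j
    simp [Pi.single_apply, eq_comm]
  have h0 := Fintype.linearIndependent_iff.mp hb d hz
  apply hψ0
  refine LinearMap.pi_ext' fun i => LinearMap.ext_ring ?_
  simp [← hd i, h0 i]

/-- The right orthogonal of a subspace. -/
def perp (X : Submodule F V) : Submodule F V where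
  carrier := {y | ∀ x ∈ X, B x y = 0}
  add_mem' ha hb x hx := by rw [map_add, ha x hx, hb x hx, add_zero]
  zero_mem' x _ := map_zero _
  smul_mem' c y hy x hx := by rw [map_smul, hy x hx, smul_zero]

theorem finrank_perp (hσ : Function.Surjective σ) (hB : ∀ x, (∀ y, B x y = 0) → x = 0)
    (X : Submodule F V) : Module.finrank F X + Module.finrank F (perp B X) = Module.finrank F V := by
  let c := Module.finBasis F X
  let b : Fin (Module.finrank F X) → V := fun i => c i
  have hb : LinearIndependent F b := c.linearIndependent.map' X.subtype X.ker_subtype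
  let Φ : V →ₗ[F] (Fin (Module.finrank F X) → F) := LinearMap.pi fun i => B (b i)
  have hker : LinearMap.ker Φ = perp B X := by
    ext y
    rw [LinearMap.mem_ker]
    refine ⟨fun h x hx => ?_, fun h => funext fun i => h _ (c i).2⟩
    have hsum : x = ∑ i, c.repr ⟨x, hx⟩ i • b i := by
      conv_lhs => rw [show x = X.subtype ⟨x, hx⟩ from rfl, ← c.sum_repr ⟨x, hx⟩, map_sum]
      simp [b]
    rw [hsum, map_sum, LinearMap.sum_apply]
    refine Finset.sum_eq_zero fun i _ => ?_
    rw [LinearMap.map_smulₛₗ₂, show B (b i) y = 0 from congrFun h i, smul_zero]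
  have h1 := LinearMap.finrank_range_add_finrank_ker Φ
  rw [hker, LinearMap.range_eq_top.mpr (exists_prescribed B hσ hB hb), finrank_top,
    Module.finrank_fin_fun] at h1
  exact h1

variable (hσ : Function.Surjective σ) (hB : ∀ x, (∀ y, B x y = 0) → x = 0)
  (hrefl : ∀ x y, B x y = 0 → B y x = 0)

include hσ hB hrefl in
theorem perp_nonzero (X : Submodule F V) (hne : X ≠ ⊤)
    (hrad : ∀ r ∈ X, (∀ x ∈ X, B r x = 0) → r = 0) :
    ∃ a ∈ perp B X, ∃ b ∈ perp B X, B a b ≠ 0 := by
  have hd := finrank_perp B hσ hB X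
  have hinf : X ⊓ perp B X = ⊥ :=
    (Submodule.eq_bot_iff _).mpr fun r hr => hrad r hr.1 fun x hx => hrefl x r (hr.2 x hx)
  have hsup : X ⊔ perp B X = ⊤ := by
    apply Submodule.eq_top_of_finrank_eq
    have := Submodule.finrank_sup_add_finrank_inf_eq X (perp B X)
    rw [hinf, finrank_bot, add_zero, hd] at this
    exact this
  have hlt := Submodule.finrank_lt hne
  obtain ⟨a, ha, ha0⟩ := Submodule.exists_mem_ne_zero_of_ne_bot (p := perp B X)
    (fun h => by rw [h, finrank_bot] at hd; omega)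
  by_contra hh
  push Not at hh
  refine ha0 (hB a fun y => ?_)
  have hy : y ∈ X ⊔ perp B X := by rw [hsup]; exact Submodule.mem_top
  obtain ⟨u, hu, w, hw, rfl⟩ := Submodule.mem_sup.mp hy
  rw [map_add, hrefl u a (ha u hu), hh a ha w hw, add_zero]

include hσ hB hrefl in
/-- Witt extension by one-dimensional steps. -/
theorem witt_pmap (τ : F → F) (hτ : ∀ x y, B y x = τ (B x y))
    (hval : ∀ W W' : Submodule F V, (∃ a ∈ W, ∃ b ∈ W, B a b ≠ 0) → (∃ a ∈ W', ∃ b ∈ W', B a b ≠ 0) →
      ∃ v ∈ W, v ≠ 0 ∧ ∃ v' ∈ W', v' ≠ 0 ∧ B v v = B v' v')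
    (htr : ∀ r y : V, B r r = 0 → B r y = 1 → ∃ c : F, B (y + c • r) (y + c • r) = 0)
    (f : V →ₗ.[F] V) (hinj : ∀ x : f.domain, f x = 0 → x = 0)
    (hf : ∀ x y : f.domain, B (f x) (f y) = B x y) :
    ∃ g : V ≃ₗ[F] V, (∀ u v, B (g u) (g v) = B u v) ∧ ∀ x : f.domain, g x = f x := by
  induction hn : Module.finrank F V - Module.finrank F f.domain using Nat.strong_induction_on
    generalizing f with
  | _ n ih =>
  obtain ⟨X, f⟩ := f
  dsimp only at hn hinj hf ⊢
  change ∀ x : X, f x = 0 → x = 0 at hinj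
  change ∀ x y : X, B (f x) (f y) = B x y at hf
  by_cases htop : X = ⊤
  · subst htop
    let g0 : V →ₗ[F] V := f.comp (LinearMap.id.codRestrict ⊤ fun _ => Submodule.mem_top)
    have hg0 : ∀ v, g0 v = f ⟨v, Submodule.mem_top⟩ := fun v => rfl
    refine ⟨LinearEquiv.ofInjectiveEndo g0 ?_, fun u v => ?_, fun x => ?_⟩
    · rw [injective_iff_map_eq_zero]
      intro v hv
      simpa using congrArg Subtype.val (hinj ⟨v, Submodule.mem_top⟩ hv)
    · rw [LinearEquiv.coe_ofInjectiveEndo]
      exact hf ⟨u, Submodule.mem_top⟩ ⟨v, Submodule.mem_top⟩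
    · rfl
  suffices h : ∃ v v' : V, v ∉ X ∧ v' ∉ LinearMap.range f ∧
      (∀ x : X, B x v = B (f x) v') ∧ B v v = B v' v' by
    obtain ⟨v, v', hv, hv', hvx0, hvv⟩ := h
    have hvx : ∀ x : X, B x v = B (f x) v' ∧ B v x = B v' (f x) := fun x =>
      ⟨hvx0 x, by rw [hτ (x : V) v, hτ (f x) v', hvx0]⟩
    let f' : V →ₗ.[F] V := (⟨X, f⟩ : V →ₗ.[F] V).supSpanSingleton v v' hv
    have hval' : ∀ z : f'.domain, ∃ (x : X) (c : F), (z : V) = x + c • v ∧ f' z = f x + c • v' := by
      intro z
      obtain ⟨u, hu, w, hw, huw⟩ := Submodule.mem_sup.mp z.2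
      obtain ⟨c, rfl⟩ := Submodule.mem_span_singleton.mp hw
      refine ⟨⟨u, hu⟩, c, huw.symm, ?_⟩
      have hz : z = ⟨u + c • v, Submodule.mem_sup.mpr
          ⟨u, hu, _, Submodule.mem_span_singleton.mpr ⟨c, rfl⟩, rfl⟩⟩ := Subtype.ext huw.symm
      rw [hz]
      exact LinearPMap.supSpanSingleton_apply_mk _ v v' hv u hu c
    have hlt : Module.finrank F V - Module.finrank F f'.domain < n := by
      have h1 : Module.finrank F X < Module.finrank F f'.domain := by
        refine Submodule.finrank_lt_finrank_of_lt (lt_of_le_of_ne le_sup_left fun he => hv ?_)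
        rw [he]
        exact Submodule.mem_sup_right (Submodule.mem_span_singleton_self v)
      have h2 := Submodule.finrank_le f'.domain
      omega
    obtain ⟨g, hg, hgf⟩ := ih _ hlt f' (fun z hz => by
        obtain ⟨x, c, hzv, hfz⟩ := hval' z
        rw [hfz] at hz
        have hc : c = 0 := by
          by_contra hc
          apply hv'
          refine ⟨-(c⁻¹ • x), ?_⟩
          rw [map_neg, map_smul, eq_neg_of_add_eq_zero_left hz, smul_neg, neg_neg, smul_smul,
            inv_mul_cancel₀ hc, one_smul]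
        rw [hc, zero_smul, add_zero] at hz hzv
        ext
        rw [hzv, hinj x hz]
        rfl)
      (fun z z' => by
        obtain ⟨x, c, hzv, hfz⟩ := hval' z
        obtain ⟨x', c', hzv', hfz'⟩ := hval' z'
        rw [hfz, hfz', hzv, hzv']
        simp only [map_add, LinearMap.add_apply, map_smul, LinearMap.map_smulₛₗ₂, smul_eq_mul,
          hf, ← (hvx x).1, ← (hvx x').2, hvv]) rfl
    refine ⟨g, hg, fun x => ?_⟩
    have hx' : (x : V) ∈ f'.domain := Submodule.mem_sup_left x.2
    have := hgf ⟨x, hx'⟩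
    simp only at this
    refine this.trans ?_
    have h2 := LinearPMap.supSpanSingleton_apply_mk (⟨X, f⟩ : V →ₗ.[F] V) v v' hv x x.2 0
    simp only [RingHom.id_apply, zero_smul, add_zero] at h2
    exact h2
  have hfinj : LinearIndependent F fun i => f (Module.finBasis F X i) :=
    (Module.finBasis F X).linearIndependent.map' f (LinearMap.ker_eq_bot'.mpr hinj)
  set Y := LinearMap.range f with hY
  have hYdim : Module.finrank F Y = Module.finrank F X :=
    LinearMap.finrank_range_of_inj (by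
      rw [← LinearMap.ker_eq_bot, LinearMap.ker_eq_bot']
      exact hinj)
  by_cases hrad : ∃ r : X, r ≠ 0 ∧ ∀ x : X, B r x = 0
  · obtain ⟨r, hr0, hr⟩ := hrad
    obtain ⟨ψ, hψ⟩ : ∃ ψ : Module.Dual F X, ψ r = 1 := by
      obtain ⟨ψ, hψ⟩ := Module.Projective.exists_dual_ne_zero F hr0
      exact ⟨(ψ r)⁻¹ • ψ, by simp [hψ]⟩
    let K := LinearMap.ker ψ
    have hindep : LinearIndependent F (Fin.cons r (fun i => ((Module.finBasis F K i : K) : X)) :
        Fin (Module.finrank F K + 1) → X) := by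
      rw [linearIndependent_finCons]
      refine ⟨(Module.finBasis F K).linearIndependent.map' K.subtype K.ker_subtype, fun h => ?_⟩
      have : r ∈ K := by
        refine Submodule.span_le.mpr ?_ h
        rintro _ ⟨i, rfl⟩
        exact (Module.finBasis F K i).2
      rw [LinearMap.mem_ker, hψ] at this
      exact one_ne_zero this
    have hdec : ∀ x : X, ∃ k ∈ K, x = k + ψ x • r := fun x =>
      ⟨x - ψ x • r, by simp [K, hψ], by rw [sub_add_cancel]⟩
    have hfind : ∀ (e : X →ₗ[F] V), Function.Injective e →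
        ∃ y : V, B (e r) y = 1 ∧ ∀ k ∈ K, B (e k) y = 0 := by
      intro e he
      obtain ⟨y, hy⟩ := exists_prescribed B hσ hB (hindep.map' e (LinearMap.ker_eq_bot.mpr he))
        (Fin.cons 1 0)
      refine ⟨y, by simpa using congrFun hy 0, fun k hk => ?_⟩
      have hk' : k = ∑ i, (Module.finBasis F K).repr ⟨k, hk⟩ i • ((Module.finBasis F K i : K) : X) := by
        conv_lhs => rw [show k = K.subtype ⟨k, hk⟩ from rfl, ← (Module.finBasis F K).sum_repr ⟨k, hk⟩,
          map_sum]
        simp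
      rw [hk', map_sum, map_sum, LinearMap.sum_apply]
      refine Finset.sum_eq_zero fun i _ => ?_
      have := congrFun hy i.succ
      simp at this
      rw [map_smul, LinearMap.map_smulₛₗ₂, this, smul_zero]
    have hfX : Function.Injective f := by
      rw [← LinearMap.ker_eq_bot, LinearMap.ker_eq_bot']; exact hinj
    have hlift : ∀ (e : X →ₗ[F] V), Function.Injective e → (∀ x y : X, B (e x) (e y) = B x y) →
        ∃ y : V, y ∉ LinearMap.range e ∧ B y y = 0 ∧ ∀ x : X, B (e x) y = σ (ψ x) := by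
      intro e he heB
      obtain ⟨y, hy1, hy0⟩ := hfind e he
      have hrr : B (e r) (e r) = 0 := by rw [heB, hr r]
      obtain ⟨c, hc⟩ := htr (e r) y hrr hy1
      refine ⟨y + c • e r, ?_, hc, fun x => ?_⟩
      · rintro ⟨x, hx⟩
        have := congrArg (B (e r)) hx
        rw [heB, hr x, map_add, map_smul, hy1, hrr] at this
        simp at this
      · obtain ⟨k, hk, hxk⟩ := hdec x
        have hrk : B (e k) (e r) = 0 := by rw [heB]; exact hrefl _ _ (hr k)
        conv_lhs => rw [hxk]
        simp only [map_add, map_smul, LinearMap.add_apply, LinearMap.map_smulₛₗ₂, smul_eq_mul,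
          hy1, hy0 k hk, hrk, hrr]
        ring
    obtain ⟨y, hyX, hyy, hy⟩ := hlift X.subtype X.subtype_injective fun x y => rfl
    obtain ⟨y', hyY, hyy', hy'⟩ := hlift f hfX hf
    exact ⟨y, y', by simpa using hyX, hyY, fun x => (hy x).trans (hy' x).symm, by rw [hyy, hyy']⟩
  · push Not at hrad
    have hradX : ∀ r ∈ X, (∀ x ∈ X, B r x = 0) → r = 0 := fun r hr h => by
      by_contra hne
      obtain ⟨x, hx⟩ := hrad ⟨r, hr⟩ fun e => hne (congrArg Subtype.val e)
      exact hx (h x x.2)
    have hradY : ∀ r ∈ Y, (∀ x ∈ Y, B r x = 0) → r = 0 := by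
      rintro _ ⟨r, rfl⟩ h
      have : (r : V) = 0 := hradX r r.2 fun x hx => by rw [← hf r ⟨x, hx⟩]; exact h _ ⟨_, rfl⟩
      rw [show r = 0 from Subtype.ext this, map_zero]
    have hYtop : Y ≠ ⊤ := fun h => htop (Submodule.eq_top_of_finrank_eq (by
      rw [← hYdim, h, finrank_top]))
    obtain ⟨v, hv, hv0, v', hv', hv'0, hvv⟩ := hval (perp B X) (perp B Y)
      (perp_nonzero B hσ hB hrefl X htop hradX) (perp_nonzero B hσ hB hrefl Y hYtop hradY)
    refine ⟨v, v', fun h => hv0 (hradX v h fun x hx => hrefl _ _ (hv x hx)),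
      fun h => hv'0 (hradY v' h fun x hx => hrefl _ _ (hv' x hx)), fun x => ?_, hvv⟩
    have a1 := hv x x.2
    have a2 := hv' (f x) ⟨x, rfl⟩
    rw [a1, a2]

end H38
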