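import Cfsg.Agent.H38.POmegaStd
import Cfsg.Agent.H44.StandardBasis
import Cfsg.Agent.H44.Basic

/-! Discriminant criterion for a symmetric bilinear form over a finite field of odd characteristic to be
hyperbolic, and the discriminant of a tensor product. -/

set_option autoImplicit false

namespace H38

variable {F V : Type*} [Field F] [AddCommGroup V] [Module F V]

/-- A bilinear form with a Gram matrix of non-zero determinant separates points. -/
theorem sep_of_gram_det {ι : Type*} [Fintype ι] [DecidableEq ι] (B : LinearMap.BilinForm F V)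
    (b : Module.Basis ι F V) (hd : (Matrix.of fun i j => B (b i) (b j)).det ≠ 0) : B.Nondegenerate := by
  rw [LinearMap.BilinForm.nondegenerate_iff_det_ne_zero b]
  convert hd
  ext i j
  simp [LinearMap.toMatrix₂_apply]

theorem gram_det_ne_zero' {ι : Type*} [Fintype ι] [DecidableEq ι] (B : LinearMap.BilinForm F V)
    (hB : B.Nondegenerate) (b : Module.Basis ι F V) :
    (Matrix.of fun i j => B (b i) (b j)).det ≠ 0 := by
  have h := (LinearMap.BilinForm.nondegenerate_iff_det_ne_zero b).mp hB
  convert h
  ext i j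
  simp [LinearMap.toMatrix₂_apply]

/-- Discriminant criterion. -/
theorem exists_half_isotropic_iff [Finite F] [FiniteDimensional F V] (h2 : (2 : F) ≠ 0)
    (B : LinearMap.BilinForm F V) (hS : B.IsSymm) {m : ℕ} (hV : Module.finrank F V = 2 * m)
    {ι : Type*} [Fintype ι] [DecidableEq ι] (b : Module.Basis ι F V)
    (hd : (Matrix.of fun i j => B (b i) (b j)).det ≠ 0) :
    (∃ X : Submodule F V, Module.finrank F X = m ∧ ∀ x ∈ X, ∀ y ∈ X, B x y = 0) ↔
      IsSquare ((-1) ^ m * (Matrix.of fun i j => B (b i) (b j)).det) := by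
  classical
  set G := Matrix.of fun i j => B (b i) (b j) with hG
  let Q : QuadraticForm F V := B.toQuadraticMap
  have hsym : ∀ x y, B x y = B y x := fun x y => hS.eq x y
  have hQ : ∀ x, Q x = B x x := fun x => rfl
  have hpol : ∀ x y, QuadraticMap.polar ⇑Q x y = 2 * B x y := fun x y => by
    simp only [QuadraticMap.polar, hQ, map_add, LinearMap.add_apply, hsym y x]
    ring
  have hnd := sep_of_gram_det B b hd
  have hsep : H44.PolarSep Q := fun x hx => hnd.1 x fun y => by
    simpa [hpol, h2] using hx y
  have hB0 : ∀ X : Submodule F V, (∀ x ∈ X, ∀ y ∈ X, B x y = 0) ↔ ∀ x ∈ X, Q x = 0 := fun X =>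
    ⟨fun h x hx => h x hx x hx, fun h x hx y hy => by
      have := hpol x y
      rw [QuadraticMap.polar, h _ (X.add_mem hx hy), h x hx, h y hy] at this
      simpa [h2] using this.symm⟩
  have hcard : Fintype.card ι = 2 * m := by rw [← hV, Module.finrank_eq_card_basis b]
  have h2det : (Matrix.of fun i j => QuadraticMap.polarBilin Q (b i) (b j)).det = (2 ^ m) ^ 2 * G.det := by
    rw [show (Matrix.of fun i j => QuadraticMap.polarBilin Q (b i) (b j)) = (2 : F) • G by
      ext i j
      simp [hG, hpol], Matrix.det_smul, hcard, ← pow_mul, mul_comm m 2]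
  have hkey : ∀ {κ : Type} [Fintype κ] [DecidableEq κ] (φ : V ≃ₗ[F] (κ → F))
      (R : QuadraticForm F (κ → F)), (∀ v, Q v = R (φ v)) →
      (IsSquare ((-1) ^ m * G.det) ↔ IsSquare ((-1) ^ m *
        (Matrix.of fun i j => H43.polB R (Pi.single i 1) (Pi.single j 1)).det)) := by
    intro κ _ _ φ R hR
    obtain ⟨d, hd0, hdet⟩ := H44.gram_det_basis_change (QuadraticMap.polarBilin Q) b
      ((Pi.basisFun F κ).map φ.symm)
    have e : (Matrix.of fun i j => QuadraticMap.polarBilin Q (((Pi.basisFun F κ).map φ.symm) i)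
        (((Pi.basisFun F κ).map φ.symm) j)) =
        Matrix.of fun i j => H43.polB R (Pi.single i 1) (Pi.single j 1) := by
      ext i j
      simp [H43.polB, QuadraticMap.polar, hR]
    rw [e, h2det] at hdet
    set D := (Matrix.of fun i j => H43.polB R (Pi.single i 1) (Pi.single j 1)).det
    have e2 : (-1) ^ m * G.det = (d / 2 ^ m) ^ 2 * ((-1) ^ m * D) := by
      field_simp
      linear_combination hdet
    rw [e2, H44.isSquare_sq_mul_iff (div_ne_zero hd0 (pow_ne_zero _ h2))]
  rcases H44.equiv_plus_or_minus hV Q hsep with ⟨φ, hφ⟩ | ⟨hm, ζ, φ, hζ, hφ⟩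
  · refine iff_of_true ?_ ?_
    · let f : (Fin m → F) →ₗ[F] V := φ.symm.toLinearMap.comp
        ((LinearEquiv.sumArrowLequivProdArrow (Fin m) (Fin m) F F).symm.toLinearMap.comp
          (LinearMap.inl F (Fin m → F) (Fin m → F)))
      have hf : Function.Injective f := φ.symm.injective.comp
        ((LinearEquiv.sumArrowLequivProdArrow (Fin m) (Fin m) F F).symm.injective.comp LinearMap.inl_injective)
      refine ⟨LinearMap.range f, by rw [LinearMap.finrank_range_of_inj hf, Module.finrank_fintype_fun_eq_card,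
        Fintype.card_fin], (hB0 _).mpr ?_⟩
      rintro _ ⟨u, rfl⟩
      rw [hφ]
      simp [f, Cfsg.quadFormPlus]
    · rw [hkey φ (H43.qPlus m F) (fun v => by rw [H43.coe_qPlus]; exact hφ v), gram_plus_det, ← pow_add,
        Even.neg_one_pow ⟨m, rfl⟩]
      exact IsSquare.one
  · obtain ⟨k, rfl⟩ : ∃ k, m = k + 1 := ⟨m - 1, by omega⟩
    try simp only [Nat.add_sub_cancel] at φ hφ
    have hani : ∀ z₁ z₂ : F, z₁ ^ 2 + 1 * z₁ * z₂ + ζ * z₂ ^ 2 = 0 → z₁ = 0 ∧ z₂ = 0 := by
      intro z₁ z₂ h
      by_cases hz : z₂ = 0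
      · subst hz; simpa using h
      · exact absurd (by field_simp; linear_combination h) (hζ (z₁ / z₂))
    refine iff_of_false ?_ ?_
    · rintro ⟨X, hX, hX0⟩
      let px : V →ₗ[F] (Fin k → F) := (LinearMap.funLeft F F (Sum.inl ∘ Sum.inl)).comp φ.toLinearMap
      let py : V →ₗ[F] (Fin k → F) := (LinearMap.funLeft F F (Sum.inl ∘ Sum.inr)).comp φ.toLinearMap
      let pz : V →ₗ[F] (Fin 2 → F) := (LinearMap.funLeft F F Sum.inr).comp φ.toLinearMap
      have := H44.finrank_le_of_totally_singular px py pz
        (fun v hx hy hz => φ.injective (by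
          rw [map_zero]
          funext i
          rcases i with (i | i) | i
          · exact congr_fun hx i
          · exact congr_fun hy i
          · exact congr_fun hz i))
        (⇑Q) (fun w => w 0 ^ 2 + 1 * w 0 * w 1 + ζ * w 1 ^ 2)
        (fun w hw => funext fun i => by
          fin_cases i
          · exact (hani _ _ hw).1
          · exact (hani _ _ hw).2)
        (fun v => by
          rw [hφ]
          simp [Cfsg.quadFormMinus, px, py, pz, dotProduct, LinearMap.funLeft_apply]) X
        ((hB0 X).mp hX0)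
      omega
    · have e := gram_minus_det (F := F) k 1 ζ
      have e' := hkey φ (H43.qMinus k F 1 ζ) (fun v => by rw [H43.coe_qMinus]; exact hφ v)
      rw [e']
      erw [e]
      rw [← mul_assoc, ← pow_add, Even.neg_one_pow ⟨k + 1, rfl⟩, one_mul]
      exact disc_not_square h2 hani

/-- The Gram determinant of a tensor product of forms. -/
theorem tmul_gram_det {W : Type*} [AddCommGroup W] [Module F W] {ι κ : Type*} [Fintype ι] [DecidableEq ι]
    [Fintype κ] [DecidableEq κ] (B₁ : LinearMap.BilinForm F V) (B₂ : LinearMap.BilinForm F W)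
    (b : Module.Basis ι F V) (c : Module.Basis κ F W) :
    (Matrix.of fun i j => (B₁.tmul B₂) ((b.tensorProduct c) i) ((b.tensorProduct c) j)).det =
      (Matrix.of fun i j => B₁ (b i) (b j)).det ^ Fintype.card κ *
        (Matrix.of fun i j => B₂ (c i) (c j)).det ^ Fintype.card ι := by
  rw [← Matrix.det_kronecker]
  congr 1
  ext ⟨i, i'⟩ ⟨j, j'⟩
  simp [mul_comm]

theorem tmul_isSymm {W : Type*} [AddCommGroup W] [Module F W] (B₁ : LinearMap.BilinForm F V)
    (B₂ : LinearMap.BilinForm F W) (h₁ : B₁.IsSymm) (h₂ : B₂.IsSymm) :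
    LinearMap.BilinForm.IsSymm (B₁.tmul B₂) := by
  refine ⟨fun x y => ?_⟩
  induction x using TensorProduct.induction_on generalizing y with
  | zero => simp
  | tmul a b =>
    induction y using TensorProduct.induction_on with
    | zero => simp
    | tmul a' b' => simp [h₁.eq a a', h₂.eq b b']
    | add y₁ y₂ e1 e2 => simp only [map_add, LinearMap.add_apply, e1, e2]
  | add x₁ x₂ e1 e2 => simp only [map_add, LinearMap.add_apply, e1, e2]

end H38
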